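import Mathlib

set_option autoImplicit false

/-! Invariant subgroups of abelian subgroups; semisimplicity. -/

namespace H65.Semi

open Subgroup

variable {G : Type*} [Group G]

/-- `M` is a minimal nontrivial `A`-invariant subgroup. -/
def MinInv (A M : Subgroup G) : Prop :=
  M ≠ ⊥ ∧ A ≤ normalizer (M : Set G) ∧
    ∀ U : Subgroup G, U ≤ M → A ≤ normalizer (U : Set G) → U ≠ ⊥ → U = M

theorem mem_sup_iff {W M : Subgroup G} (h : W ≤ normalizer (M : Set G)) {x : G} :
    x ∈ W ⊔ M ↔ ∃ y ∈ W, ∃ z ∈ M, y * z = x := by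
  rw [← SetLike.mem_coe, coe_mul_of_left_le_normalizer_right W M h, Set.mem_mul]
  rfl

theorem le_normalizer_of_comm {V W M : Subgroup G} [hV : IsMulCommutative V] (hW : W ≤ V) (hM : M ≤ V) :
    W ≤ normalizer (M : Set G) := by
  rw [le_normalizer_iff]
  intro w hw m hm
  have : w * m = m * w := congrArg Subtype.val (mul_comm' (⟨w, hW hw⟩ : V) ⟨m, hM hm⟩)
  rw [this, mul_inv_cancel_right]
  exact hm

theorem le_normalizer_sup {A U W : Subgroup G} (hU : A ≤ normalizer (U : Set G))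
    (hW : A ≤ normalizer (W : Set G)) : A ≤ normalizer ((U ⊔ W : Subgroup G) : Set G) :=
  (le_inf hU hW).trans (normalizer_inf_normalizer_le_normalizer_sup U W)

theorem le_normalizer_inf {A U W : Subgroup G} (hU : A ≤ normalizer (U : Set G))
    (hW : A ≤ normalizer (W : Set G)) : A ≤ normalizer ((U ⊓ W : Subgroup G) : Set G) :=
  (le_inf hU hW).trans inf_normalizer_le_normalizer_inf

theorem le_normalizer_sSup {A : Subgroup G} {S : Set (Subgroup G)}
    (hS : ∀ U ∈ S, A ≤ normalizer (U : Set G)) : A ≤ normalizer ((sSup S : Subgroup G) : Set G) := by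
  rw [sSup_eq_iSup']
  exact (le_iInf (fun U : S => hS U U.2)).trans (iInf_normalizer_le_normalizer_iSup _)

theorem le_normalizer_bot (A : Subgroup G) : A ≤ normalizer ((⊥ : Subgroup G) : Set G) := by
  rw [normalizer_eq_top]; exact le_top

theorem exists_minInv [Finite G] {A V : Subgroup G} (hV : V ≠ ⊥) (hAV : A ≤ normalizer (V : Set G)) :
    ∃ M : Subgroup G, M ≤ V ∧ MinInv A M := by
  obtain ⟨M, hMV, hM⟩ := Finite.exists_le_minimal
    (p := fun U : Subgroup G => U ≠ ⊥ ∧ A ≤ normalizer (U : Set G)) (a := V) ⟨hV, hAV⟩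
  exact ⟨M, hMV, hM.1.1, hM.1.2, fun U hUM hAU hU => le_antisymm hUM (hM.2 ⟨hU, hAU⟩ hUM)⟩

/-- If `V` is abelian and generated by minimal `A`-invariant subgroups then every `A`-invariant subgroup of `V`
has an `A`-invariant complement. -/
theorem exists_complement_of_sSup [Finite G] {A V : Subgroup G} (hVc : IsMulCommutative V)
    (hgen : sSup {M : Subgroup G | M ≤ V ∧ MinInv A M} = V) {U : Subgroup G} (hUV : U ≤ V)
    (hAU : A ≤ normalizer (U : Set G)) :
    ∃ W : Subgroup G, W ≤ V ∧ A ≤ normalizer (W : Set G) ∧ U ⊓ W = ⊥ ∧ U ⊔ W = V := by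
  obtain ⟨W, -, hW⟩ := Finite.exists_le_maximal
    (p := fun W : Subgroup G => W ≤ V ∧ A ≤ normalizer (W : Set G) ∧ U ⊓ W = ⊥) (a := ⊥)
    ⟨bot_le, le_normalizer_bot A, inf_bot_eq U⟩
  obtain ⟨⟨hWV, hAW, hUW⟩, hmax⟩ := hW
  refine ⟨W, hWV, hAW, hUW, ?_⟩
  by_contra hne
  -- there is a minimal invariant M not inside U ⊔ W
  have hex : ∃ M : Subgroup G, M ≤ V ∧ MinInv A M ∧ ¬ M ≤ U ⊔ W := by
    by_contra hcon
    push Not at hcon
    apply hne
    apply le_antisymm (sup_le hUV hWV)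
    rw [← hgen]
    apply sSup_le
    rintro M ⟨hMV, hM⟩
    exact hcon M hMV hM
  obtain ⟨M, hMV, hM, hMUW⟩ := hex
  have hAUW := le_normalizer_sup hAU hAW
  have hMi : M ⊓ (U ⊔ W) = ⊥ := by
    by_contra hb
    have := hM.2.2 (M ⊓ (U ⊔ W)) inf_le_left (le_normalizer_inf hM.2.1 hAUW) hb
    exact hMUW (this ▸ inf_le_right)
  have hlt : W ⊔ M ≤ W := by
    apply hmax _ le_sup_left
    refine ⟨sup_le hWV hMV, le_normalizer_sup hAW hM.2.1, ?_⟩
    rw [eq_bot_iff]
    intro x hx
    obtain ⟨hxU, hxWM⟩ := mem_inf.mp hx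
    obtain ⟨w, hw, m, hm, rfl⟩ := (mem_sup_iff (le_normalizer_of_comm hWV hMV)).mp hxWM
    have hm' : m ∈ M ⊓ (U ⊔ W) := by
      refine mem_inf.mpr ⟨hm, ?_⟩
      have : m = w⁻¹ * (w * m) := by group
      rw [this]
      exact mul_mem (inv_mem (mem_sup_right hw)) (mem_sup_left hxU)
    rw [hMi, mem_bot] at hm'
    subst hm'
    rw [mul_one] at hxU ⊢
    have : w ∈ U ⊓ W := mem_inf.mpr ⟨hxU, hw⟩
    rwa [hUW] at this
  exact hMUW ((le_sup_right.trans hlt).trans le_sup_right)

/-- If every `H`-invariant subgroup of `V` has an `H`-invariant complement then `V` is generated by its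
minimal `H`-invariant subgroups. -/
theorem sSup_eq_of_complements [Finite G] {H V : Subgroup G}
    (hss : ∀ U : Subgroup G, U ≤ V → H ≤ normalizer (U : Set G) → ∃ W : Subgroup G, W ≤ V ∧
      H ≤ normalizer (W : Set G) ∧ U ⊓ W = ⊥ ∧ U ⊔ W = V) :
    sSup {M : Subgroup G | M ≤ V ∧ MinInv H M} = V := by
  set S := sSup {M : Subgroup G | M ≤ V ∧ MinInv H M} with hS
  have hSV : S ≤ V := sSup_le (fun M hM => hM.1)
  have hHS : H ≤ normalizer (S : Set G) := le_normalizer_sSup (fun M hM => hM.2.2.1)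
  obtain ⟨W, hWV, hHW, hSW, hSW'⟩ := hss S hSV hHS
  by_cases hW : W = ⊥
  · rw [hW, sup_bot_eq] at hSW'
    exact hSW'
  · obtain ⟨M, hMW, hM⟩ := exists_minInv hW hHW
    have : M ≤ S := le_sSup ⟨hMW.trans hWV, hM⟩
    exact absurd (le_bot_iff.mp (hSW ▸ le_inf this hMW)) hM.1

theorem map_conj_le_iff {A U : Subgroup G} : A ≤ normalizer (U : Set G) ↔
    ∀ a ∈ A, U.map (MulAut.conj a).toMonoidHom ≤ U := by
  rw [le_normalizer_iff]
  constructor
  · rintro h a ha _ ⟨x, hx, rfl⟩
    exact h a ha x hx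
  · intro h a ha x hx
    exact h a ha ⟨x, hx, rfl⟩

theorem map_conj_eq_of_mem_normalizer {U : Subgroup G} {a : G} (ha : a ∈ normalizer (U : Set G)) :
    U.map (MulAut.conj a).toMonoidHom = U := by
  rw [mem_normalizer_iff] at ha
  ext k
  constructor
  · rintro ⟨y, hy, rfl⟩
    simpa using (ha y).mp hy
  · intro hk
    refine ⟨a⁻¹ * k * a, ?_, by simp [mul_assoc]⟩
    apply (ha _).mpr
    simpa [mul_assoc] using hk

theorem map_conj_mul (K : Subgroup G) (a b : G) :
    K.map (MulAut.conj (a * b)).toMonoidHom =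
      (K.map (MulAut.conj b).toMonoidHom).map (MulAut.conj a).toMonoidHom := by
  rw [Subgroup.map_map]
  congr 1
  ext x
  simp [mul_assoc]

theorem map_conj_one (K : Subgroup G) : K.map (MulAut.conj (1 : G)).toMonoidHom = K :=
  map_conj_eq_of_mem_normalizer (one_mem _)

theorem map_conj_inv_map_conj (K : Subgroup G) (a : G) :
    (K.map (MulAut.conj a).toMonoidHom).map (MulAut.conj a⁻¹).toMonoidHom = K := by
  rw [← map_conj_mul, inv_mul_cancel, map_conj_one]

theorem map_conj_map_conj_inv (K : Subgroup G) (a : G) :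
    (K.map (MulAut.conj a⁻¹).toMonoidHom).map (MulAut.conj a).toMonoidHom = K := by
  rw [← map_conj_mul, mul_inv_cancel, map_conj_one]

/-- If `h` normalizes `A`, conjugation by `h` preserves `A`-invariance. -/
theorem le_normalizer_map_conj {A U : Subgroup G} (hAU : A ≤ normalizer (U : Set G)) {h : G}
    (hh : h ∈ normalizer (A : Set G)) :
    A ≤ normalizer ((U.map (MulAut.conj h).toMonoidHom : Subgroup G) : Set G) := by
  rw [le_normalizer_iff] at hAU ⊢
  rintro a ha _ ⟨x, hx, rfl⟩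
  have ha' : h⁻¹ * a * h ∈ A := by
    have := (mem_normalizer_iff.mp (inv_mem hh) a).mp ha
    simpa using this
  refine ⟨h⁻¹ * a * h * x * (h⁻¹ * a * h)⁻¹, hAU _ ha' x hx, ?_⟩
  simp [mul_assoc]

theorem minInv_map_conj {A M : Subgroup G} (hM : MinInv A M) {h : G}
    (hh : h ∈ normalizer (A : Set G)) : MinInv A (M.map (MulAut.conj h).toMonoidHom) := by
  refine ⟨?_, le_normalizer_map_conj hM.2.1 hh, ?_⟩
  · intro hb
    apply hM.1
    rw [← map_conj_inv_map_conj M h, hb, Subgroup.map_bot]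
  · intro U hU hAU hU1
    have h1 : U.map (MulAut.conj h⁻¹).toMonoidHom = M := by
      apply hM.2.2
      · rw [← map_conj_inv_map_conj M h]
        exact Subgroup.map_mono hU
      · exact le_normalizer_map_conj hAU (inv_mem hh)
      · intro hb
        apply hU1
        rw [← map_conj_map_conj_inv U h, hb, Subgroup.map_bot]
    rw [← h1, map_conj_map_conj_inv]

/-- Clifford: semisimplicity restricts to normal subgroups. -/
theorem sSup_eq_of_normal [Finite G] {H A V : Subgroup G} (hHV : H ≤ normalizer (V : Set G))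
    (hAH : A ≤ H) (hAn : H ≤ normalizer (A : Set G))
    (hgen : sSup {M : Subgroup G | M ≤ V ∧ MinInv H M} = V) :
    sSup {M : Subgroup G | M ≤ V ∧ MinInv A M} = V := by
  set S := sSup {M : Subgroup G | M ≤ V ∧ MinInv A M} with hS
  have hSV : S ≤ V := sSup_le (fun M hM => hM.1)
  have hHS : H ≤ normalizer (S : Set G) := by
    rw [map_conj_le_iff]
    intro h hh
    rw [Subgroup.map_le_iff_le_comap]
    apply sSup_le
    rintro M ⟨hMV, hM⟩
    rw [← Subgroup.map_le_iff_le_comap]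
    apply le_sSup
    exact ⟨(Subgroup.map_mono hMV).trans (map_conj_le_iff.mp hHV h hh), minInv_map_conj hM (hAn hh)⟩
  apply le_antisymm hSV
  nth_rewrite 1 [← hgen]
  apply sSup_le
  rintro M ⟨hMV, hM⟩
  obtain ⟨U, hUM, hU⟩ := exists_minInv hM.1 (hAH.trans hM.2.1)
  have h1 : U ≤ M ⊓ S := le_inf hUM (le_sSup ⟨hUM.trans hMV, hU⟩)
  have h2 : M ⊓ S = M := hM.2.2 _ inf_le_left (le_normalizer_inf hM.2.1 hHS)
    (fun hb => hU.1 (le_bot_iff.mp (hb ▸ h1)))
  rw [← h2]
  exact inf_le_right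

end H65.Semi
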