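import Mathlib
import Cfsg.Agent.Lib.H65.PBasic
import Cfsg.Agent.Lib.H65.Semi

set_option autoImplicit false

/-! More basic facts on `p`-subgroups acting by conjugation. -/

namespace H65.PBasic2

open Subgroup

variable {G : Type*} [Group G]

/-- `|U| ≡ |C_U(P)| mod p` for a `p`-group `P` normalizing `U`. -/
theorem card_modEq_card_inf_centralizer [Finite G] {p : ℕ} [Fact p.Prime] (P U : Subgroup G)
    (hP : IsPGroup p P) (hPU : P ≤ normalizer (U : Set G)) :
    Nat.card U ≡ Nat.card (U ⊓ centralizer (P : Set G) : Subgroup G) [MOD p] := by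
  let _ : MulDistribMulAction P U := MulDistribMulAction.compHom U (Subgroup.inclusion hPU)
  have hsm : ∀ (x : P) (y : U), ((x • y : U) : G) = x * y * (x : G)⁻¹ := fun x y => rfl
  have h1 := hP.card_modEq_card_fixedPoints U
  have h2 : Nat.card (MulAction.fixedPoints P U) = Nat.card (U ⊓ centralizer (P : Set G) : Subgroup G) := by
    refine Nat.card_congr ⟨fun y => ⟨y.1.1, mem_inf.mpr ⟨y.1.2, ?_⟩⟩, fun y => ⟨⟨y.1, (mem_inf.mp y.2).1⟩, ?_⟩,
      fun y => rfl, fun y => rfl⟩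
    · rw [mem_centralizer_iff]
      intro x hx
      have h3 := congrArg Subtype.val (y.2 ⟨x, hx⟩)
      rw [hsm] at h3
      exact mul_inv_eq_iff_eq_mul.mp h3
    · intro x
      apply Subtype.ext
      rw [hsm]
      exact mul_inv_eq_iff_eq_mul.mpr ((mem_centralizer_iff.mp (mem_inf.mp y.2).2) x x.2)
  rwa [h2] at h1

theorem centralizer_zpowers (x : G) : centralizer ((zpowers x : Subgroup G) : Set G) = centralizer ({x} : Set G) := by
  apply le_antisymm
  · exact centralizer_le (by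
      intro y hy
      rw [Set.mem_singleton_iff] at hy
      rw [hy]; exact mem_zpowers x)
  · rw [le_centralizer_iff, zpowers_le, mem_centralizer_iff]
    intro y hy
    exact mem_centralizer_singleton_iff.mp hy

/-- Adjoining to an elementary abelian subgroup `W` an element of order dividing `p` centralizing it. -/
theorem sup_zpowers_elementary {p : ℕ} {W : Subgroup G} (hWc : ∀ x ∈ W, ∀ y ∈ W, x * y = y * x)
    (hWp : ∀ x ∈ W, x ^ p = 1) {x : G} (hx : x ∈ centralizer (W : Set G)) (hxp : x ^ p = 1) :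
    (∀ u ∈ W ⊔ zpowers x, ∀ v ∈ W ⊔ zpowers x, u * v = v * u) ∧ (∀ u ∈ W ⊔ zpowers x, u ^ p = 1) := by
  have hxW : ∀ y ∈ W, Commute y x := fun y hy => (mem_centralizer_iff.mp hx) y hy
  have hZn : W ≤ normalizer ((zpowers x : Subgroup G) : Set G) := by
    rw [le_normalizer_iff]
    intro y hy w hw
    obtain ⟨i, rfl⟩ := mem_zpowers_iff.mp hw
    have : Commute y (x ^ i) := (hxW y hy).zpow_right i
    rw [this.eq, mul_inv_cancel_right]
    exact zpow_mem (mem_zpowers x) i
  have hmem : ∀ v ∈ W ⊔ zpowers x, ∃ y ∈ W, ∃ i : ℤ, v = y * x ^ i := by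
    intro v hv
    obtain ⟨y, hy, w, hw, rfl⟩ := (H65.Semi.mem_sup_iff hZn).mp hv
    obtain ⟨i, rfl⟩ := mem_zpowers_iff.mp hw
    exact ⟨y, hy, i, rfl⟩
  constructor
  · intro v hv w hw
    obtain ⟨y, hy, i, rfl⟩ := hmem v hv
    obtain ⟨y', hy', j, rfl⟩ := hmem w hw
    have h1 : Commute y y' := hWc y hy y' hy'
    have h2 : Commute y x := hxW y hy
    have h3 : Commute y' x := hxW y' hy'
    have : Commute (y * x ^ i) (y' * x ^ j) :=
      (h1.mul_right (h2.zpow_right j)).mul_left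
        ((h3.symm.zpow_left i).mul_right (((Commute.refl x).zpow_left i).zpow_right j))
    exact this
  · intro v hv
    obtain ⟨y, hy, i, rfl⟩ := hmem v hv
    have h2 : Commute y (x ^ i) := (hxW y hy).zpow_right i
    rw [h2.mul_pow, hWp y hy, one_mul, ← zpow_natCast, ← zpow_mul, mul_comm i, zpow_mul, zpow_natCast,
      hxp, one_zpow]

/-- The subgroup of elements of order dividing `p` of a subgroup with commuting elements. -/
def om (p : ℕ) (A : Subgroup G) (hA : ∀ x ∈ A, ∀ y ∈ A, x * y = y * x) : Subgroup G where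
  carrier := {x | x ∈ A ∧ x ^ p = 1}
  mul_mem' := by
    rintro x y ⟨hx, hxp⟩ ⟨hy, hyp⟩
    refine ⟨A.mul_mem hx hy, ?_⟩
    have : Commute x y := hA x hx y hy
    rw [this.mul_pow, hxp, hyp, one_mul]
  one_mem' := ⟨A.one_mem, one_pow p⟩
  inv_mem' := by
    rintro x ⟨hx, hxp⟩
    exact ⟨A.inv_mem hx, by rw [inv_pow, hxp, inv_one]⟩

theorem mem_om {p : ℕ} {A : Subgroup G} {hA : ∀ x ∈ A, ∀ y ∈ A, x * y = y * x} {x : G} :
    x ∈ om p A hA ↔ x ∈ A ∧ x ^ p = 1 := Iff.rfl

theorem om_le {p : ℕ} {A : Subgroup G} {hA : ∀ x ∈ A, ∀ y ∈ A, x * y = y * x} : om p A hA ≤ A :=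
  fun _ hx => hx.1

theorem le_normalizer_om {p : ℕ} {A B : Subgroup G} {hA : ∀ x ∈ A, ∀ y ∈ A, x * y = y * x}
    (hB : B ≤ normalizer (A : Set G)) : B ≤ normalizer ((om p A hA : Subgroup G) : Set G) := by
  rw [le_normalizer_iff]
  intro b hb x hx
  refine ⟨(mem_normalizer_iff.mp (hB hb) x).mp hx.1, ?_⟩
  rw [conj_pow, hx.2, mul_one, mul_inv_cancel]

/-- In a nontrivial `p`-subgroup there is an element of order `p`. -/
theorem exists_orderOf_eq [Finite G] {p : ℕ} [Fact p.Prime] {A : Subgroup G} (hA : IsPGroup p A) (hA1 : A ≠ ⊥) :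
    ∃ x ∈ A, orderOf x = p := by
  rcases hA.card_eq_or_dvd with h | h
  · exact absurd (Subgroup.card_eq_one.mp h) hA1
  · obtain ⟨x, hx⟩ := exists_prime_orderOf_dvd_card' p h
    exact ⟨x, x.2, by rw [Subgroup.orderOf_coe, hx]⟩

theorem om_ne_bot [Finite G] {p : ℕ} [Fact p.Prime] {A : Subgroup G} {hA : ∀ x ∈ A, ∀ y ∈ A, x * y = y * x}
    (hAp : IsPGroup p A) (hA1 : A ≠ ⊥) : om p A hA ≠ ⊥ := by
  obtain ⟨x, hx, hxo⟩ := exists_orderOf_eq hAp hA1
  intro h
  have h1 : x ∈ om p A hA := ⟨hx, by rw [← hxo]; exact pow_orderOf_eq_one x⟩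
  rw [h, mem_bot] at h1
  rw [h1, orderOf_one] at hxo
  exact (Fact.out : p.Prime).one_lt.ne hxo

/-- A finite elementary abelian `p`-subgroup of order at least `p^k` contains one of order exactly `p^k`. -/
theorem exists_card_eq_of_ge [Finite G] {p k : ℕ} [Fact p.Prime] {E : Subgroup G}
    (hE : IsPGroup p E) (hk : p ^ k ≤ Nat.card E) : ∃ F : Subgroup G, F ≤ E ∧ Nat.card F = p ^ k := by
  obtain ⟨n, hn⟩ := hE.exists_card_eq
  have hkn : k ≤ n := by
    rw [hn] at hk
    exact (Nat.pow_le_pow_iff_right (Fact.out : p.Prime).one_lt).mp hk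
  obtain ⟨F, hF⟩ := Sylow.exists_subgroup_card_pow_prime (G := E) p (n := k) (by rw [hn]; exact pow_dvd_pow p hkn)
  refine ⟨F.map E.subtype, map_subtype_le F, ?_⟩
  rw [← hF]
  exact (Nat.card_congr (F.equivMapOfInjective E.subtype E.subtype_injective).toEquiv).symm

end H65.PBasic2
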