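import Mathlib
import Cfsg.Prelude.Def_Local
import Cfsg.Agent.Lib.H1.Hall
import Cfsg.Agent.Lib.H1.SZ
import Cfsg.Agent.Lib.H37.PSolv

set_option autoImplicit false

/-! Hall's theorems for `p`-complements of `p`-soluble groups. -/

namespace H65.PSolHall

open Subgroup Cfsg
open scoped Pointwise

universe u

/-- `H` is a `p`-complement. -/
def IsComp {G : Type u} [Group G] (p : ℕ) (H : Subgroup G) : Prop :=
  (Nat.card H).Coprime p ∧ ∃ n : ℕ, H.index = p ^ n

/-- dominance and conjugacy of `p`-complements -/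
def HallProp (p : ℕ) (G : Type u) [Group G] : Prop :=
  (∀ U : Subgroup G, (Nat.card U).Coprime p → ∃ H : Subgroup G, IsComp p H ∧ U ≤ H) ∧
  (∀ H₁ H₂ : Subgroup G, IsComp p H₁ → IsComp p H₂ → ∃ g : G, MulAut.conj g • H₁ = H₂)

variable {G : Type u} [Group G]

theorem isComp_conj {p : ℕ} {H : Subgroup G} (h : IsComp p H) (g : G) : IsComp p (MulAut.conj g • H) := by
  refine ⟨by rw [H1.SZ.card_conj_smul]; exact h.1, ?_⟩
  rw [H1.SZ.conj_smul_eq_map, MulEquiv.toMonoidHom_eq_coe, Subgroup.index_map_equiv]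
  exact h.2

theorem index_map_of_le {N : Subgroup G} [N.Normal] {H : Subgroup G} (h : N ≤ H) :
    (H.map (QuotientGroup.mk' N)).index = H.index := by
  have h1 := Subgroup.index_comap_of_surjective (H.map (QuotientGroup.mk' N)) (QuotientGroup.mk'_surjective N)
  rw [← h1, Subgroup.comap_map_eq, QuotientGroup.ker_mk', sup_eq_left.mpr h]

theorem le_of_isComp [Finite G] {p : ℕ} (hp : p.Prime) {N : Subgroup G} [N.Normal]
    (hN : (Nat.card N).Coprime p) {H : Subgroup G} (h : IsComp p H) : N ≤ H := by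
  obtain ⟨n, hn⟩ := h.2
  have h1 := Subgroup.relIndex_mul_index (show H ≤ H ⊔ N from le_sup_left)
  have h2 : H.relIndex (H ⊔ N) ∣ p ^ n := by rw [← hn, ← h1]; exact dvd_mul_right _ _
  obtain ⟨k, hk, hk2⟩ := (Nat.dvd_prime_pow hp).mp h2
  have h3 : (Nat.card (H ⊔ N : Subgroup G)).Coprime p := by
    apply Nat.Coprime.coprime_dvd_left (H1.Cores.card_sup_dvd_mul H N)
    exact Nat.Coprime.mul_left h.1 hN
  have h4 : H.relIndex (H ⊔ N) ∣ Nat.card (H ⊔ N : Subgroup G) := by
    rw [Subgroup.relIndex]; exact Subgroup.index_dvd_card _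
  have h5 : (H.relIndex (H ⊔ N)).Coprime p := Nat.Coprime.coprime_dvd_left h4 h3
  rw [hk2] at h5
  have h6 : k = 0 := by
    by_contra hk0
    rw [Nat.coprime_pow_left_iff (Nat.pos_of_ne_zero hk0)] at h5
    exact hp.one_lt.ne' ((Nat.coprime_self p).mp h5)
  rw [h6, pow_zero, Subgroup.relIndex_eq_one] at hk2
  exact le_sup_right.trans hk2

theorem step_prime' [Finite G] {p : ℕ} (hp : p.Prime) (N : Subgroup G) [N.Normal]
    (hN : (Nat.card N).Coprime p) (hQ : HallProp p (G ⧸ N)) : HallProp p G := by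
  constructor
  · intro U hU
    obtain ⟨H, hH, hUH⟩ := hQ.1 (U.map (QuotientGroup.mk' N))
      (Nat.Coprime.coprime_dvd_left (Subgroup.card_map_dvd _ _) hU)
    refine ⟨H.comap (QuotientGroup.mk' N), ⟨?_, ?_⟩, ?_⟩
    · rw [H1.Cores.card_comap_mk']
      exact Nat.Coprime.mul_left hN hH.1
    · rw [Subgroup.index_comap_of_surjective _ (QuotientGroup.mk'_surjective N)]
      exact hH.2
    · exact Subgroup.map_le_iff_le_comap.mp hUH
  · intro H₁ H₂ h1 h2
    have hle := fun {H : Subgroup G} (h : IsComp p H) => le_of_isComp hp hN h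
    have hcomp : ∀ {H : Subgroup G}, IsComp p H → IsComp p (H.map (QuotientGroup.mk' N)) := by
      intro H h
      refine ⟨Nat.Coprime.coprime_dvd_left (Subgroup.card_map_dvd _ _) h.1, ?_⟩
      rw [index_map_of_le (hle h)]
      exact h.2
    obtain ⟨g', hg'⟩ := hQ.2 _ _ (hcomp h1) (hcomp h2)
    obtain ⟨g, rfl⟩ := QuotientGroup.mk'_surjective N g'
    refine ⟨g, ?_⟩
    rw [← H1.SZ.conj_smul_map] at hg'
    have h3 := congrArg (Subgroup.comap (QuotientGroup.mk' N)) hg'
    rwa [Subgroup.comap_map_eq, Subgroup.comap_map_eq, QuotientGroup.ker_mk',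
      sup_eq_left.mpr (hle (isComp_conj h1 g)), sup_eq_left.mpr (hle h2)] at h3

theorem inf_eq_bot_of_coprime_of_isPGroup [Finite G] {p : ℕ} [Fact p.Prime] {N H : Subgroup G}
    (hN : IsPGroup p N) (hH : (Nat.card H).Coprime p) : H ⊓ N = ⊥ := by
  obtain ⟨k, hk⟩ := IsPGroup.iff_card.mp hN
  apply disjoint_iff.mp
  apply Subgroup.disjoint_of_coprime_natCard
  rw [hk]
  exact Nat.Coprime.pow_right k hH

theorem relIndex_sup_eq_card [Finite G] {p : ℕ} [Fact p.Prime] {N H : Subgroup G} [N.Normal]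
    (hN : IsPGroup p N) (hH : (Nat.card H).Coprime p) : N.relIndex (H ⊔ N) = Nat.card H := by
  rw [Subgroup.relIndex_sup_right, ← Subgroup.inf_relIndex_right, inf_comm,
    inf_eq_bot_of_coprime_of_isPGroup hN hH, Subgroup.relIndex_bot_left]

theorem card_eq_of_isComp [Finite G] {p : ℕ} {H₁ H₂ : Subgroup G} (h1 : IsComp p H₁)
    (h2 : IsComp p H₂) : Nat.card H₁ = Nat.card H₂ := by
  obtain ⟨n1, hn1⟩ := h1.2
  obtain ⟨n2, hn2⟩ := h2.2
  have e1 := H₁.card_mul_index
  have e2 := H₂.card_mul_index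
  rw [hn1] at e1
  rw [hn2] at e2
  apply Nat.dvd_antisymm
  · have : Nat.card H₁ ∣ Nat.card H₂ * p ^ n2 := by rw [e2, ← e1]; exact dvd_mul_right _ _
    exact (Nat.Coprime.pow_right n2 h1.1).dvd_of_dvd_mul_right this
  · have : Nat.card H₂ ∣ Nat.card H₁ * p ^ n1 := by rw [e1, ← e2]; exact dvd_mul_right _ _
    exact (Nat.Coprime.pow_right n1 h2.1).dvd_of_dvd_mul_right this

theorem step_p [Finite G] {p : ℕ} [hp : Fact p.Prime] (N : Subgroup G) [N.Normal]
    (hN : IsPGroup p N) (hQ : HallProp p (G ⧸ N)) : HallProp p G := by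
  obtain ⟨k, hk⟩ := IsPGroup.iff_card.mp hN
  have hNs : Group.IsSolvable N := by
    have := hN.isNilpotent
    infer_instance
  constructor
  · intro U hU
    obtain ⟨H, hH, hUH⟩ := hQ.1 (U.map (QuotientGroup.mk' N))
      (Nat.Coprime.coprime_dvd_left (Subgroup.card_map_dvd _ _) hU)
    set K := H.comap (QuotientGroup.mk' N) with hK
    have hNK : N ≤ K := by
      intro x hx
      rw [hK, mem_comap]
      have : QuotientGroup.mk' N x = 1 := (QuotientGroup.eq_one_iff x).mpr hx
      rw [this]; exact one_mem _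
    have hUK : U ≤ K := Subgroup.map_le_iff_le_comap.mp hUH
    have hcardK : Nat.card K = Nat.card H * Nat.card N := by
      rw [hK, H1.Cores.card_comap_mk' N H, mul_comm]
    have hrel : N.relIndex K = Nat.card H := by
      have h1 := Subgroup.card_mul_index (N.subgroupOf K)
      rw [H1.SZ.card_subgroupOf_of_le hNK, hcardK, mul_comm (Nat.card H)] at h1
      exact Nat.eq_of_mul_eq_mul_left Nat.card_pos h1
    have hcop : (Nat.card (N.subgroupOf K)).Coprime (N.subgroupOf K).index := by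
      rw [H1.SZ.card_subgroupOf_of_le hNK, hk]
      change (p ^ k).Coprime (N.relIndex K)
      rw [hrel]
      exact Nat.Coprime.pow_left k hH.1.symm
    obtain ⟨L0, hL0⟩ := Subgroup.exists_right_complement'_of_coprime hcop
    set L := L0.map K.subtype with hL
    have hLK : L ≤ K := Subgroup.map_subtype_le L0
    have hcardL : Nat.card L = Nat.card H := by
      have h1 := hL0.card_mul_card
      rw [H1.SZ.card_subgroupOf_of_le hNK, hcardK, mul_comm (Nat.card H)] at h1
      have h2 : Nat.card L = Nat.card L0 :=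
        (Nat.card_congr (L0.equivMapOfInjective K.subtype K.subtype_injective).toEquiv).symm
      rw [h2]
      exact Nat.eq_of_mul_eq_mul_left Nat.card_pos h1
    have hLcomp : IsComp p L := by
      refine ⟨by rw [hcardL]; exact hH.1, ?_⟩
      obtain ⟨m, hm⟩ := hH.2
      refine ⟨k + m, ?_⟩
      have h1 := L.card_mul_index
      have h2 := K.card_mul_index
      rw [hK, Subgroup.index_comap_of_surjective _ (QuotientGroup.mk'_surjective N), ← hK, hm, hcardK,
        hk] at h2
      rw [hcardL, ← h2, mul_assoc, ← pow_add] at h1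
      exact Nat.eq_of_mul_eq_mul_left Nat.card_pos h1
    have hKNL : K ≤ N ⊔ L := by
      intro x hx
      obtain ⟨⟨a, b⟩, hab, _⟩ := hL0.existsUnique ⟨x, hx⟩
      simp only at hab
      have h1 : x = ((a : K) : G) * ((b : K) : G) := by
        rw [← Subgroup.coe_mul, hab]
      rw [h1]
      exact mul_mem (mem_sup_left (mem_subgroupOf.mp a.2)) (mem_sup_right (Subgroup.mem_map_of_mem K.subtype b.2))
    set M := U ⊔ N with hM
    have hMK : M ≤ K := sup_le hUK hNK
    have hmod : M = N ⊔ (M ⊓ L) := H1.Hall.modular_law le_sup_right (hMK.trans hKNL)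
    have hMLcop : (Nat.card (M ⊓ L : Subgroup G)).Coprime p :=
      Nat.Coprime.coprime_dvd_left (Subgroup.card_dvd_of_le inf_le_right) hLcomp.1
    have hrelU : N.relIndex M = Nat.card U := relIndex_sup_eq_card hN hU
    have hrelL : N.relIndex M = Nat.card (M ⊓ L : Subgroup G) := by
      conv_lhs => rw [hmod, sup_comm]
      exact relIndex_sup_eq_card hN hMLcop
    obtain ⟨g, -, hg⟩ := H1.SZ.conj_of_card_rel M N le_sup_right
      (by rw [Subgroup.normalizer_eq_top]; exact le_top)
      (by rw [hrelU, hk]; exact Nat.Coprime.pow_left k hU.symm) (Or.inl hNs) (M ⊓ L) U inf_le_left le_sup_left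
      hrelL.symm hrelU.symm
    refine ⟨MulAut.conj g • L, isComp_conj hLcomp g, ?_⟩
    rw [← hg]
    exact Subgroup.pointwise_smul_le_pointwise_smul_iff.mpr inf_le_right
  · intro H₁ H₂ h1 h2
    have hcomp : ∀ {H : Subgroup G}, IsComp p H → IsComp p (H.map (QuotientGroup.mk' N)) := by
      intro H h
      refine ⟨Nat.Coprime.coprime_dvd_left (Subgroup.card_map_dvd _ _) h.1, ?_⟩
      obtain ⟨n, hn⟩ := h.2
      have h3 : (H.map (QuotientGroup.mk' N)).index ∣ p ^ n := by
        rw [← hn]; exact Subgroup.index_map_dvd _ (QuotientGroup.mk'_surjective N)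
      obtain ⟨j, -, hj⟩ := (Nat.dvd_prime_pow hp.out).mp h3
      exact ⟨j, hj⟩
    obtain ⟨g', hg'⟩ := hQ.2 _ _ (hcomp h1) (hcomp h2)
    obtain ⟨g, rfl⟩ := QuotientGroup.mk'_surjective N g'
    rw [← H1.SZ.conj_smul_map] at hg'
    have h3 := congrArg (Subgroup.comap (QuotientGroup.mk' N)) hg'
    rw [Subgroup.comap_map_eq, Subgroup.comap_map_eq, QuotientGroup.ker_mk'] at h3
    set M := H₂ ⊔ N with hM
    have hrel2 : N.relIndex M = Nat.card H₂ := relIndex_sup_eq_card hN h2.1
    have h1' := isComp_conj h1 g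
    obtain ⟨x, -, hx⟩ := H1.SZ.conj_of_card_rel M N le_sup_right
      (by rw [Subgroup.normalizer_eq_top]; exact le_top)
      (by rw [hrel2, hk]; exact Nat.Coprime.pow_left k h2.1.symm) (Or.inl hNs) (MulAut.conj g • H₁) H₂
      (by rw [← h3]; exact le_sup_left) le_sup_left
      (by rw [hrel2]; exact card_eq_of_isComp h1' h2) hrel2.symm
    refine ⟨x * g, ?_⟩
    rw [map_mul, mul_smul]
    exact hx

theorem main_aux (n : ℕ) (p : ℕ) [hp : Fact p.Prime] : ∀ (G : Type u) [Group G] [Finite G], Nat.card G = n →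
    IsPSolvable p G → HallProp p G := by
  induction n using Nat.strong_induction_on with
  | _ n ih =>
  intro G _ _ hn hG
  rcases subsingleton_or_nontrivial G with hss | hnt
  · refine ⟨fun U _ => ⟨⊤, ⟨?_, 0, ?_⟩, le_top⟩, fun H₁ H₂ _ _ => ⟨1, Subsingleton.elim _ _⟩⟩
    · rw [Subgroup.card_top, Nat.card_unique]
      exact Nat.coprime_one_left p
    · rw [Subgroup.index_top, pow_zero]
  · have hlt : ∀ N : Subgroup G, N ≠ ⊥ → Nat.card (G ⧸ N) < n := by
      intro N hN
      have h1 := Subgroup.card_eq_card_quotient_mul_card_subgroup N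
      have h2 : 1 < Nat.card N := by
        rcases Nat.lt_or_ge 1 (Nat.card N) with h | h
        · exact h
        · exact absurd (Subgroup.card_eq_one.mp (le_antisymm h Nat.card_pos)) hN
      rw [← hn, h1]
      have h3 : 0 < Nat.card (G ⧸ N) := Nat.card_pos
      nlinarith
    rcases H37.PSolv.core_ne_bot hG with h | h
    · exact step_p (pCore p G) (H1.Cores.isPGroup_pCore p)
        (ih _ (hlt _ h) (G ⧸ pCore p G) rfl (H37.PSolv.quotient hG _))
    · exact step_prime' hp.out (pPrimeCore p G) (H1.Cores.coprime_card_pPrimeCore p)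
        (ih _ (hlt _ h) (G ⧸ pPrimeCore p G) rfl (H37.PSolv.quotient hG _))

/-- **Hall's theorem** for `p`-complements in `p`-soluble groups. -/
theorem main {G : Type*} [Group G] [Finite G] {p : ℕ} [Fact p.Prime] (hG : IsPSolvable p G) : HallProp p G :=
  main_aux _ p G rfl hG

end H65.PSolHall
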