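import Cfsg.Agent.Lib.H3.QuadGen2
import Cfsg.Agent.Lib.H3.PBasic
import Cfsg.Agent.Lib.H30.PuigThm
import Cfsg.Agent.Lib.H11.PStabApp
import Cfsg.Agent.Lib.H26.PxQ
import Cfsg.Agent.Lib.H65.Bender

set_option autoImplicit false

/-! Primitive pairs and `p`-stability (no section `SL(2,p)`). -/

namespace H65.AbPStab

open Subgroup Cfsg H65.MaxLocal H65.Bender H30.PuigIn H30.PuigThm

universe u

theorem centralize_of_pair {M : Type u} [Group M] [Finite M] {p : ℕ} [Fact p.Prime] (hp : p ≠ 2)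
    (hinv : ¬ Involves (Matrix.SpecialLinearGroup (Fin 2) (ZMod p)) M) (P : Subgroup M) [P.Normal]
    (hP : IsPGroup p P) (a g : M)
    (ha : ∀ n ∈ P, a * (a * n * a⁻¹ * n⁻¹) * a⁻¹ = (a * n * a⁻¹ * n⁻¹)) (x : M)
    (hx : x ∈ closure {a, g * a * g⁻¹}) (hxo : (orderOf x).Coprime p) : x ∈ centralizer (P : Set M) := by
  classical
  set Φ : Subgroup M := (frattini P).map P.subtype with hΦ
  haveI hΦn : Φ.Normal := inferInstance
  have hΦP : Φ ≤ P := Subgroup.map_subtype_le _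
  let f := QuotientGroup.mk' Φ
  have hf : Function.Surjective f := QuotientGroup.mk'_surjective Φ
  have hker : ∀ y : M, f y = 1 ↔ y ∈ Φ := fun y => QuotientGroup.eq_one_iff y
  have hcomm : ∀ x ∈ P, ∀ y ∈ P, f x * f y = f y * f x := by
    intro x hx y hy
    have h1 : (⟨x, hx⟩ * ⟨y, hy⟩ * (⟨x, hx⟩)⁻¹ * (⟨y, hy⟩)⁻¹ : P) ∈ frattini P :=
      H3.PBasic.commutator_le_frattini hP (commutator_mem_commutator (mem_top _) (mem_top _))
    have h2 : x * y * x⁻¹ * y⁻¹ ∈ Φ := ⟨_, h1, rfl⟩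
    have h3 := (hker _).mpr h2
    rw [map_mul, map_mul, map_mul, map_inv, map_inv, mul_inv_eq_one, mul_inv_eq_iff_eq_mul] at h3
    exact h3
  have hV : IsElementaryAbelian p (P.map f) := by
    refine ⟨⟨⟨?_⟩⟩, ?_⟩
    · rintro ⟨_, x, hx, rfl⟩ ⟨_, y, hy, rfl⟩
      exact Subtype.ext (hcomm x hx y hy)
    · rintro _ ⟨x, hx, rfl⟩
      rw [← map_pow]
      apply (hker _).mpr
      exact ⟨_, H3.PBasic.pow_mem_frattini hP ⟨x, hx⟩, rfl⟩
  haveI hVn : (P.map f).Normal := Subgroup.Normal.map inferInstance f hf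
  -- a power of `f x` centralizes
  have h1 : ∃ m, (f x) ^ (p ^ m) ∈ centralizer ((P.map f : Subgroup (M ⧸ Φ)) : Set (M ⧸ Φ)) := by
    by_contra hcon
    push Not at hcon
    have h2 := H3.QuadGen.involves_of_quadratic (H := (⊤ : Subgroup (M ⧸ Φ))) hp hV
      (by rw [Subgroup.normalizer_eq_top]) (mem_top (f a)) (by
        rintro _ ⟨n, hn, rfl⟩
        have := congrArg f (ha n hn)
        simpa only [map_mul, map_inv] using this) ⟨f g, mem_top _, f x, by
        have : Subgroup.closure ({f a, f g * f a * (f g)⁻¹} : Set _) = (Subgroup.closure {a, g * a * g⁻¹}).map f := by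
          rw [MonoidHom.map_closure, Set.image_pair, map_mul, map_mul, map_inv]
        rw [this]
        exact ⟨x, hx, rfl⟩, hcon⟩
    apply hinv
    exact H51.Involves.involves_of_hom f hf
      (H51.Involves.involves_of_injective (Subgroup.subtype _) (Subgroup.subtype_injective _) h2)
  have h2 : f x ∈ centralizer ((P.map f : Subgroup (M ⧸ Φ)) : Set (M ⧸ Φ)) := by
    obtain ⟨m, hm⟩ := h1
    have hcop : (p ^ m).Coprime (orderOf (f x)) := by
      apply Nat.Coprime.pow_left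
      exact (Nat.Coprime.coprime_dvd_left (orderOf_map_dvd f x) hxo).symm
    obtain ⟨k, hk⟩ := exists_pow_eq_self_of_coprime hcop
    rw [← hk]
    exact pow_mem hm k
  have h3 : zpowers x ≤ centralizer (P : Set M) := by
    apply H1.Coprime2.le_centralizer_of_frattini
    · rw [Nat.card_zpowers]
      obtain ⟨k, hk⟩ := IsPGroup.iff_card.mp (hP.to_subgroup (frattini P))
      rw [hk]
      exact Nat.Coprime.pow_right k hxo
    · intro a' ha' k hk
      have h4 : f a' ∈ centralizer ((P.map f : Subgroup (M ⧸ Φ)) : Set (M ⧸ Φ)) := by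
        have : zpowers x ≤ (centralizer ((P.map f : Subgroup (M ⧸ Φ)) : Set (M ⧸ Φ))).comap f := by
          rw [zpowers_le]; exact h2
        exact this ha'
      have h5 := mem_centralizer_iff.mp h4 (f k) ⟨k, hk, rfl⟩
      apply (hker _).mp
      rw [map_mul, map_mul, map_mul, map_inv, map_inv, ← h5]
      group
  exact h3 (mem_zpowers x)

theorem quad_mem_pCore {G : Type u} [Group G] [Finite G] {p : ℕ} [hpf : Fact p.Prime] (hp : p ≠ 2)
    (hinv : ¬ Involves (Matrix.SpecialLinearGroup (Fin 2) (ZMod p)) G) (P : Subgroup G) [P.Normal]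
    (hP : IsPGroup p P) (a : G) (ha : ∀ n ∈ P, a * (a * n * a⁻¹ * n⁻¹) * a⁻¹ = (a * n * a⁻¹ * n⁻¹)) :
    QuotientGroup.mk' (centralizer (P : Set G)) a ∈ pCore p (G ⧸ centralizer (P : Set G)) := by
  let f := QuotientGroup.mk' (centralizer (P : Set G))
  obtain ⟨N, hN, hNp, haN⟩ := H55.BaerSuzuki.exists_normal (p := p) (f a) (by
    intro g
    obtain ⟨g, rfl⟩ := QuotientGroup.mk'_surjective _ g
    have hcl : Subgroup.closure ({f a, f g * f a * (f g)⁻¹} : Set _) = (Subgroup.closure {a, g * a * g⁻¹}).map f := by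
      rw [MonoidHom.map_closure, Set.image_pair, map_mul, map_mul, map_inv]
    show IsPGroup p (Subgroup.closure ({f a, f g * f a * (f g)⁻¹} : Set _))
    rw [hcl]
    rintro ⟨_, y, hy, rfl⟩
    obtain ⟨k, hk⟩ := H11.PStabApp.exists_pow_coprime p y
    refine ⟨k, ?_⟩
    apply Subtype.ext
    show f y ^ p ^ k = 1
    rw [← map_pow]
    refine (QuotientGroup.eq_one_iff _).2 ?_
    exact centralize_of_pair hp hinv P hP a g ha _ (pow_mem hy _) hk)
  exact H1.Cores.le_pCore hN hNp haN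

variable {G : Type u} [Group G] [Finite G] {p : ℕ} [hpf : Fact p.Prime]

/-- ambient form -/
theorem exists_R {M V : Subgroup G} (hp : p ≠ 2)
    (hinv : ¬ Involves (Matrix.SpecialLinearGroup (Fin 2) (ZMod p)) M) (hVM : V ≤ M)
    (hMV : M ≤ normalizer (V : Set G)) (hV : IsPGroup p V) :
    ∃ R : Subgroup G, R ≤ M ∧ M ≤ normalizer (R : Set G) ∧
      (∀ n ∈ R, ∃ k : ℕ, n ^ (p ^ k) ∈ centralizer (V : Set G)) ∧
      ∀ A : Subgroup G, A ≤ M → IsMulCommutative A → V ≤ normalizer (A : Set G) → A ≤ R := by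
  have hVn : (V.subgroupOf M).Normal := by
    constructor
    intro n hn g
    rw [mem_subgroupOf] at hn ⊢
    exact (mem_normalizer_iff.mp (hMV g.2) n).mp hn
  let C := centralizer ((V.subgroupOf M : Subgroup M) : Set M)
  let f := QuotientGroup.mk' C
  let R' : Subgroup M := (pCore p (M ⧸ C)).comap f
  have hR'n : R'.Normal := inferInstanceAs ((pCore p (M ⧸ C)).comap f).Normal
  refine ⟨R'.map M.subtype, Subgroup.map_subtype_le _, H65.Bender.le_normalizer_map_subtype _ hR'n, ?_, ?_⟩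
  · rintro _ ⟨n, hn, rfl⟩
    obtain ⟨k, hk⟩ := H1.Cores.isPGroup_pCore p ⟨f n, hn⟩
    refine ⟨k, ?_⟩
    have h1 : f (n ^ (p ^ k)) = 1 := by
      rw [map_pow]
      have := congrArg Subtype.val hk
      simpa using this
    have h2 : n ^ (p ^ k) ∈ C := (QuotientGroup.eq_one_iff _).mp h1
    rw [mem_centralizer_iff]
    intro v hv
    have := mem_centralizer_iff.mp h2 ⟨v, hVM hv⟩ hv
    exact congrArg Subtype.val this
  · intro A hAM hA hVA a ha
    refine ⟨⟨a, hAM ha⟩, ?_, rfl⟩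
    apply quad_mem_pCore hp hinv (V.subgroupOf M) (hV.of_equiv (Subgroup.subgroupOfEquivOfLe hVM).symm)
    intro n hn
    apply Subtype.ext
    show a * (a * n * a⁻¹ * (n : G)⁻¹) * a⁻¹ = a * n * a⁻¹ * (n : G)⁻¹
    have h1 : (a * n * a⁻¹ * (n : G)⁻¹) ∈ A := by
      have h2 := (mem_normalizer_iff.mp (hVA hn) a⁻¹).mp (inv_mem ha)
      have h3 : a * n * a⁻¹ * (n : G)⁻¹ = a * (n * a⁻¹ * (n : G)⁻¹) := by group
      rw [h3]; exact mul_mem ha h2
    have h4 : a * (a * n * a⁻¹ * (n : G)⁻¹) = (a * n * a⁻¹ * (n : G)⁻¹) * a := by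
      have := hA.is_comm.comm ⟨a, ha⟩ ⟨_, h1⟩
      exact congrArg Subtype.val this
    rw [h4, mul_inv_cancel_right]

/-- an abelian subgroup of `M` normalized by a self-centralizing (in `O_p`) normal subgroup `X ≤ O_p(M)` lies in `O_p(M)` -/
theorem le_opc_of {M X : Subgroup G} (hp : p ≠ 2)
    (hinv : ¬ Involves (Matrix.SpecialLinearGroup (Fin 2) (ZMod p)) M)
    (hchar : M ⊓ centralizer (opc p M : Set G) ≤ opc p M) (hXQ : X ≤ opc p M) (hMX : M ≤ normalizer (X : Set G))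
    (hcX : opc p M ⊓ centralizer (X : Set G) ≤ X) {A : Subgroup G} (hAM : A ≤ M) (hA : IsMulCommutative A)
    (hXA : X ≤ normalizer (A : Set G)) : A ≤ opc p M := by
  have hQp : IsPGroup p (opc p M) := isPGroup_opc
  obtain ⟨R, hRM, hMR, hRX, hR⟩ := exists_R hp hinv (hXQ.trans opc_le) hMX (hQp.to_le hXQ)
  refine (hR A hAM hA hXA).trans (le_opc hRM hMR ?_)
  have key : ∀ y ∈ M ⊓ centralizer (X : Set G), (orderOf y).Coprime p → y = 1 := by
    intro y hy hyo
    have h1 : ⁅opc p M, zpowers y⁆ = ⊥ := by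
      apply H26.PxQ.commutator_eq_bot_pxq (P := X) (Q := zpowers y) (hQp.to_le hXQ) _ hQp
      · rw [Subgroup.commutator_eq_bot_iff_le_centralizer, le_centralizer_iff, zpowers_le]
        exact (mem_inf.mp hy).2
      · exact (hXQ.trans opc_le).trans le_normalizer_opc
      · rw [zpowers_le]
        exact le_normalizer_opc (mem_inf.mp hy).1
      · rw [Subgroup.commutator_eq_bot_iff_le_centralizer, le_centralizer_iff, zpowers_le]
        exact centralizer_le hcX (mem_inf.mp hy).2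
      · intro q hq
        exact Nat.Coprime.coprime_dvd_left (orderOf_dvd_of_mem_zpowers hq) hyo
    rw [Subgroup.commutator_eq_bot_iff_le_centralizer, le_centralizer_iff, zpowers_le] at h1
    have h2 := hchar (mem_inf.mpr ⟨(mem_inf.mp hy).1, h1⟩)
    obtain ⟨k, hk⟩ := hQp ⟨y, h2⟩
    have h3 : y ^ (p ^ k) = 1 := by
      have := congrArg Subtype.val hk
      simpa using this
    have h4 : orderOf y ∣ Nat.gcd (orderOf y) (p ^ k) := Nat.dvd_gcd dvd_rfl (orderOf_dvd_of_pow_eq_one h3)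
    rw [Nat.Coprime.pow_right k hyo] at h4
    exact orderOf_eq_one_iff.mp (Nat.dvd_one.mp h4)
  rintro ⟨r, hr⟩
  obtain ⟨k, hk⟩ := hRX r hr
  obtain ⟨j, hj⟩ := H11.PStabApp.exists_pow_coprime p (r ^ (p ^ k))
  refine ⟨k + j, ?_⟩
  apply Subtype.ext
  show r ^ p ^ (k + j) = 1
  rw [pow_add, pow_mul]
  exact key _ (pow_mem (mem_inf.mpr ⟨pow_mem (hRM hr) _, hk⟩) _) hj

/-- nesting of the Puig series -/
theorem step_eq {M T : Subgroup G} (hp : p ≠ 2)
    (hinv : ¬ Involves (Matrix.SpecialLinearGroup (Fin 2) (ZMod p)) M)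
    (hchar : M ⊓ centralizer (opc p M : Set G) ≤ opc p M) (hTM : T ≤ M) (hQT : opc p M ≤ T) (n : ℕ) :
    stepIn T (seqIn (opc p M) (n + 1)) = stepIn (opc p M) (seqIn (opc p M) (n + 1)) := by
  symm
  apply stepIn_eq_of_le hQT
  have hQp : IsPGroup p (opc p M) := isPGroup_opc
  have hnil : Group.IsNilpotent (opc p M) := hQp.isNilpotent
  refine sSup_le ?_
  rintro A ⟨hAT, hA, hXA⟩
  exact le_opc_of hp hinv hchar (seqIn_le _ _) (le_normalizer_opc.trans (normalizer_le_seqIn _ _))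
    (centralizer_seqIn_le (opc p M) n) (hAT.trans hTM) hA hXA

theorem seq_le {M T : Subgroup G} (hp : p ≠ 2)
    (hinv : ¬ Involves (Matrix.SpecialLinearGroup (Fin 2) (ZMod p)) M)
    (hchar : M ⊓ centralizer (opc p M : Set G) ≤ opc p M) (hTM : T ≤ M) (hQT : opc p M ≤ T) (n : ℕ) :
    seqIn T (2 * n) ≤ seqIn (opc p M) (2 * n) ∧ seqIn (opc p M) (2 * n + 1) ≤ seqIn T (2 * n + 1) := by
  induction n with
  | zero =>
    simp only [mul_zero, zero_add, seqIn_one]
    exact ⟨le_rfl, hQT⟩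
  | succ n ih =>
    obtain ⟨_, ih2⟩ := ih
    have h1 : seqIn T (2 * n + 2) ≤ seqIn (opc p M) (2 * n + 2) := by
      show stepIn T (seqIn T (2 * n + 1)) ≤ stepIn (opc p M) (seqIn (opc p M) (2 * n + 1))
      rw [← step_eq hp hinv hchar hTM hQT]
      exact stepIn_anti _ ih2
    refine ⟨h1, ?_⟩
    show stepIn (opc p M) (seqIn (opc p M) (2 * n + 2)) ≤ stepIn T (seqIn T (2 * n + 2))
    rw [← step_eq hp hinv hchar hTM hQT]
    exact stepIn_anti _ h1

theorem nest {M T : Subgroup G} (hp : p ≠ 2)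
    (hinv : ¬ Involves (Matrix.SpecialLinearGroup (Fin 2) (ZMod p)) M)
    (hchar : M ⊓ centralizer (opc p M : Set G) ≤ opc p M) (hTM : T ≤ M) (hQT : opc p M ≤ T) :
    lowIn T ≤ lowIn (opc p M) ∧ LIn (opc p M) ≤ LIn T := by
  obtain ⟨k1, hk1⟩ := exists_stable T
  obtain ⟨k2, hk2⟩ := exists_stable (opc p M)
  have h := seq_le hp hinv hchar hTM hQT (max k1 k2)
  rw [(hk1 (max k1 k2) (le_max_left _ _)).1, (hk2 (max k1 k2) (le_max_right _ _)).1,
    (hk1 (max k1 k2) (le_max_left _ _)).2, (hk2 (max k1 k2) (le_max_right _ _)).2] at h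
  exact h

theorem normalizer_le_ZL' (H : Subgroup G) : normalizer (H : Set G) ≤ normalizer (ZL H : Set G) := by
  have h1 := normalizer_le_LIn H
  exact H1.Coprime2.le_normalizer_inf h1 (H1.Coprime2.le_normalizer_centralizer h1)

/-- the data attached to one side -/
theorem side {M T : Subgroup G} (hp : p ≠ 2)
    (hinv : ¬ Involves (Matrix.SpecialLinearGroup (Fin 2) (ZMod p)) M)
    (hchar : M ⊓ centralizer (opc p M : Set G) ≤ opc p M) (hTp : IsPGroup p T) (hTM : T ≤ M) (hQT : opc p M ≤ T)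
    (hM : M ≠ ⊥) :
    ∃ R A : Subgroup G, R ≤ M ∧ M ≤ normalizer (R : Set G) ∧
      (∀ n ∈ R, ∃ k : ℕ, n ^ (p ^ k) ∈ centralizer (ZL (opc p M) : Set G)) ∧ LIn T ≤ R ∧ A ≤ ZL T ∧ A ≠ ⊥ ∧
      M ≤ normalizer (A : Set G) ∧ M ⊓ centralizer (ZL (opc p M) : Set G) ≤ centralizer (ZL T : Set G) := by
  set Q := opc p M with hQ
  have hQp : IsPGroup p Q := isPGroup_opc
  have hnilT : Group.IsNilpotent T := hTp.isNilpotent
  have hnilQ : Group.IsNilpotent Q := hQp.isNilpotent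
  obtain ⟨hlow, hL⟩ := nest hp hinv hchar hTM hQT
  rw [← hQ] at hlow hL
  have hZlow : ZL T ≤ lowIn T := by
    refine le_trans ?_ (centralizer_lowIn_le T)
    exact le_inf (inf_le_left.trans (LIn_le _)) (inf_le_right.trans (centralizer_le (lowIn_le_LIn _)))
  have hZZ : ZL T ≤ ZL Q :=
    le_inf (hZlow.trans (hlow.trans (lowIn_le_LIn Q))) (inf_le_right.trans (centralizer_le hL))
  have hZQ : ZL Q ≤ Q := inf_le_left.trans (LIn_le _)
  have hMZ : M ≤ normalizer (ZL Q : Set G) := le_normalizer_opc.trans (normalizer_le_ZL' Q)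
  have hZc : IsMulCommutative (ZL Q) := by
    rw [← Subgroup.le_centralizer_iff_isMulCommutative]
    exact inf_le_right.trans (centralizer_le inf_le_left)
  obtain ⟨R, hRM, hMR, hRX, hR⟩ := exists_R hp hinv (hZQ.trans opc_le) hMZ (hQp.to_le hZQ)
  have hZQlow : ZL Q ≤ lowIn T := by
    rw [← step_LIn]
    exact le_stepIn (hZQ.trans hQT) hZc ((LIn_le T).trans (hTM.trans hMZ))
  have hLR : LIn T ≤ R := by
    rw [← step_lowIn]
    refine sSup_le ?_
    rintro A ⟨hAT, hA, hXA⟩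
    exact hR A (hAT.trans hTM) hA (hZQlow.trans hXA)
  have hcen : M ⊓ centralizer (ZL Q : Set G) ≤ centralizer (ZL T : Set G) :=
    inf_le_right.trans (centralizer_le hZZ)
  refine ⟨R, ZL Q ⊓ centralizer (R : Set G), hRM, hMR, hRX, hLR, ?_, ?_, ?_, hcen⟩
  · exact le_inf (inf_le_left.trans (inf_le_left.trans hL)) (inf_le_right.trans (centralizer_le hLR))
  · -- fixed points of `R` on `ZL Q`
    intro hbot
    have hZne : ZL Q ≠ ⊥ := by
      intro hb
      have h1 : LIn Q ≠ ⊥ := by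
        intro hb1
        have h2 := centralizer_LIn_le Q
        rw [hb1] at h2
        have h3 : Q ≤ ⊥ := le_trans (le_inf le_rfl (by rw [le_centralizer_iff]; exact bot_le)) h2
        have h4 : M ≤ ⊥ := by
          refine le_trans ?_ (hchar.trans h3)
          refine le_inf le_rfl ?_
          rw [le_centralizer_iff]
          exact h3.trans bot_le
        exact hM (le_bot_iff.mp h4)
      have h2 : Nontrivial (LIn Q) := (Subgroup.nontrivial_iff_ne_bot _).mpr h1
      have h3 := (hQp.to_le (LIn_le Q)).center_nontrivial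
      obtain ⟨z, hz⟩ := (nontrivial_iff_exists_ne (1 : center (LIn Q))).mp h3
      apply hz
      have h4 : ((z : LIn Q) : G) ∈ ZL Q := by
        refine mem_inf.mpr ⟨(z : LIn Q).2, ?_⟩
        rw [mem_centralizer_iff]
        intro y hy
        exact congrArg Subtype.val (Subgroup.mem_center_iff.mp z.2 ⟨y, hy⟩)
      rw [hb, mem_bot] at h4
      exact Subtype.ext (Subtype.ext h4)
    -- `R` acts on `ZL Q` as a p-group
    have hact : ∃ z ∈ ZL Q, z ≠ 1 ∧ z ∈ centralizer (R : Set G) := by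
      let ψ : R →* MulAut (ZL Q) := (normalizerMonoidHom (ZL Q)).comp (Subgroup.inclusion (hRM.trans hMZ))
      have hψ : ∀ (r : R) (v : ZL Q), ((ψ r v : ZL Q) : G) = r * v * (r : G)⁻¹ := fun r v => rfl
      have hPp : IsPGroup p ψ.range := by
        rintro ⟨_, r, rfl⟩
        obtain ⟨k, hk⟩ := hRX r r.2
        refine ⟨k, ?_⟩
        apply Subtype.ext
        show ψ r ^ p ^ k = 1
        rw [← map_pow]
        ext v
        rw [hψ]
        show (r : G) ^ p ^ k * v * ((r : G) ^ p ^ k)⁻¹ = v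
        rw [← mem_centralizer_iff.mp hk v v.2]
        group
      letI : MulAction ψ.range (ZL Q) := MulAction.compHom _ (Subgroup.subtype ψ.range)
      have h1 : p ∣ Nat.card (ZL Q) := by
        obtain ⟨n, hn⟩ := IsPGroup.iff_card.mp (hQp.to_le hZQ)
        cases n with
        | zero =>
          rw [pow_zero] at hn
          exact absurd (Subgroup.card_eq_one.mp hn) hZne
        | succ n => rw [hn, pow_succ]; exact Dvd.intro_left _ rfl
      obtain ⟨z, hz, hz1⟩ := hPp.exists_fixed_point_of_prime_dvd_card_of_fixed_point (α := ZL Q) h1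
        (a := 1) (by
          intro g
          show (g : MulAut (ZL Q)) 1 = 1
          exact map_one _)
      refine ⟨z, z.2, fun h => hz1 (Subtype.ext h.symm), ?_⟩
      rw [mem_centralizer_iff]
      intro r hr
      have h2 := hz ⟨ψ ⟨r, hr⟩, ⟨_, rfl⟩⟩
      have h3 : ψ ⟨r, hr⟩ z = z := h2
      have h4 := congrArg Subtype.val h3
      rw [hψ] at h4
      exact mul_inv_eq_iff_eq_mul.mp h4
    obtain ⟨z, hz, hz1, hzR⟩ := hact
    have : z ∈ ZL Q ⊓ centralizer (R : Set G) := mem_inf.mpr ⟨hz, hzR⟩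
    rw [hbot, mem_bot] at this
    exact hz1 this
  · exact H1.Coprime2.le_normalizer_inf hMZ (H1.Coprime2.le_normalizer_centralizer hMR)

/-- no `p`-elements in `R` centralizing `B` -/
theorem trivial_of {X : Type u} [Group X] [Finite X] {p : ℕ} [Fact p.Prime] (hO : pCore p X = ⊥) (B R : Subgroup X)
    [B.Normal] [R.Normal] (hRB : ∀ r ∈ R, ∃ k : ℕ, r ^ (p ^ k) ∈ B) {x : X} (hxR : x ∈ R)
    (hxB : x ∈ centralizer (B : Set X)) {n : ℕ} (hx : x ^ (p ^ n) = 1) : x = 1 := by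
  set C : Subgroup X := R ⊓ centralizer (B : Set X) with hC
  haveI hCn : C.Normal := inferInstance
  -- `C` is nilpotent
  haveI hnil : Group.IsNilpotent C := by
    apply Group.of_quotient_center_nilpotent
    have hp : IsPGroup p (C ⧸ center C) := by
      intro q
      obtain ⟨c, rfl⟩ := QuotientGroup.mk_surjective q
      obtain ⟨k, hk⟩ := hRB c (mem_inf.mp c.2).1
      refine ⟨k, ?_⟩
      rw [← QuotientGroup.mk_pow, QuotientGroup.eq_one_iff, mem_center_iff]
      intro d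
      apply Subtype.ext
      have hd := mem_centralizer_iff.mp (mem_inf.mp d.2).2 _ hk
      show (d : X) * ((c ^ p ^ k : C) : X) = ((c ^ p ^ k : C) : X) * d
      rw [Subgroup.coe_pow]
      exact hd.symm
    exact hp.isNilpotent
  have h1 := ((Group.isNilpotent_of_finite_tfae (G := C)).out 0 3 rfl rfl).mp hnil p ‹_›
  have hxC : x ∈ C := mem_inf.mpr ⟨hxR, hxB⟩
  have h2 : IsPGroup p (zpowers (⟨x, hxC⟩ : C)) := by
    rw [IsPGroup.iff_card, Nat.card_zpowers]
    apply (Nat.dvd_prime_pow (Fact.out : p.Prime)).mp _ |>.imp fun k hk => hk.2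
    · exact n
    · apply orderOf_dvd_of_pow_eq_one
      apply Subtype.ext
      exact hx
  obtain ⟨P, hP⟩ := h2.exists_le_sylow
  have h3 : (P : Subgroup C) ≤ pCore p C := H1.Cores.le_pCore (h1 P) P.isPGroup'
  have h4 := H1.Cores.map_subtype_pCore (G := X) p C
  have h5 : x ∈ (pCore p C).map C.subtype := ⟨⟨x, hxC⟩, h3 (hP (mem_zpowers _)), rfl⟩
  rw [h4, hO, inf_bot_eq, mem_bot] at h5
  exact h5

/-- `P ≤ R` normalized by `B = C_M(Z)` with `[P, B] ≤ O_p(M)`: then `P ≤ O_p(M)` -/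
theorem le_opc_of' {M Z R P : Subgroup G} (hZM : M ≤ normalizer (Z : Set G)) (hRM : R ≤ M)
    (hMR : M ≤ normalizer (R : Set G)) (hRZ : ∀ n ∈ R, ∃ k : ℕ, n ^ (p ^ k) ∈ centralizer (Z : Set G))
    (hPR : P ≤ R) (hP : IsPGroup p P) (hPB : ∀ x ∈ P, ∀ b ∈ M ⊓ centralizer (Z : Set G), b * x * b⁻¹ ∈ P) :
    P ≤ opc p M := by
  set B : Subgroup G := M ⊓ centralizer (Z : Set G) with hB
  have hMB : M ≤ normalizer (B : Set G) :=
    H1.Coprime2.le_normalizer_inf le_normalizer (H1.Coprime2.le_normalizer_centralizer hZM)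
  have hBM : B ≤ M := inf_le_left
  have hPM : P ≤ M := hPR.trans hRM
  -- `[P, B] ≤ O_p(B) ≤ O_p(M)`
  have hOB : opc p B ≤ opc p M := by
    refine le_opc (opc_le.trans hBM) ?_ isPGroup_opc
    intro m hm
    rw [H28.Cj.mem_normalizer_iff_cj]
    show (opc p B).map (MulAut.conj m).toMonoidHom = opc p B
    have h1 : B.map (MulAut.conj m).toMonoidHom = B := H28.Cj.mem_normalizer_iff_cj.mp (hMB hm)
    apply le_antisymm
    · calc (opc p B).map (MulAut.conj m).toMonoidHom ≤ opc p (B.map (MulAut.conj m).toMonoidHom) :=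
            map_conj_opc B m
        _ = opc p B := by rw [h1]
    · have h2 : B.map (MulAut.conj m⁻¹).toMonoidHom = B := H28.Cj.mem_normalizer_iff_cj.mp (hMB (inv_mem hm))
      have h3 := map_conj_opc (p := p) B m⁻¹
      rw [h2] at h3
      have h4 := Subgroup.map_mono (f := (MulAut.conj m).toMonoidHom) h3
      rwa [H65.Semi.map_conj_map_conj_inv] at h4
  have hPBO : P ⊓ B ≤ opc p B := by
    refine le_opc inf_le_right ?_ (hP.to_le inf_le_left)
    apply H1.Coprime2.le_normalizer_inf _ le_normalizer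
    apply H1.Coprime.le_normalizer_of_conj_mem
    intro b hb x hx
    exact hPB x hx b hb
  intro x hx
  have hxM : x ∈ M := hPM hx
  let f := QuotientGroup.mk' (pCore p M)
  have hf : Function.Surjective f := QuotientGroup.mk'_surjective _
  have hnB : (B.subgroupOf M).Normal := by
    constructor
    intro n hn g
    rw [mem_subgroupOf] at hn ⊢
    exact (mem_normalizer_iff.mp (hMB g.2) n).mp hn
  have hnR : (R.subgroupOf M).Normal := by
    constructor
    intro n hn g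
    rw [mem_subgroupOf] at hn ⊢
    exact (mem_normalizer_iff.mp (hMR g.2) n).mp hn
  haveI : ((B.subgroupOf M).map f).Normal := hnB.map f hf
  haveI : ((R.subgroupOf M).map f).Normal := hnR.map f hf
  obtain ⟨n, hn⟩ := hP ⟨x, hx⟩
  have hn' : x ^ (p ^ n) = 1 := by
    have := congrArg Subtype.val hn
    simpa using this
  have key := trivial_of (X := M ⧸ pCore p M) (H1.Cores.pCore_quotient_pCore p) ((B.subgroupOf M).map f)
    ((R.subgroupOf M).map f) (by
      rintro _ ⟨r, hr, rfl⟩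
      obtain ⟨k, hk⟩ := hRZ r hr
      refine ⟨k, r ^ (p ^ k), ?_, map_pow f r _⟩
      exact mem_inf.mpr ⟨(r ^ (p ^ k)).2, by simpa using hk⟩) (x := f ⟨x, hxM⟩) ⟨_, hPR hx, rfl⟩ (by
      rw [mem_centralizer_iff]
      rintro _ ⟨b, hb, rfl⟩
      have h1 : (b : G) * x * (b : G)⁻¹ * x⁻¹ ∈ P ⊓ B := by
        refine mem_inf.mpr ⟨mul_mem (hPB x hx b hb) (inv_mem hx), ?_⟩
        have h2 := (mem_normalizer_iff.mp (hMB hxM) (b : G)⁻¹).mp (inv_mem hb)
        have h3 : (b : G) * x * (b : G)⁻¹ * x⁻¹ = b * (x * (b : G)⁻¹ * x⁻¹) := by group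
        rw [h3]; exact mul_mem hb h2
      have h2 : b * ⟨x, hxM⟩ * b⁻¹ * (⟨x, hxM⟩ : M)⁻¹ ∈ pCore p M := by
        obtain ⟨y, hy, hyx⟩ := hOB (hPBO h1)
        have : y = b * ⟨x, hxM⟩ * b⁻¹ * (⟨x, hxM⟩ : M)⁻¹ := Subtype.ext hyx
        rwa [← this]
      have h3 : f (b * ⟨x, hxM⟩ * b⁻¹ * (⟨x, hxM⟩ : M)⁻¹) = 1 := (QuotientGroup.eq_one_iff _).mpr h2
      rw [map_mul, map_mul, map_mul, map_inv, map_inv, mul_inv_eq_one, mul_inv_eq_iff_eq_mul] at h3
      exact h3) (n := n) (by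
      rw [← map_pow]
      have : (⟨x, hxM⟩ : M) ^ (p ^ n) = 1 := Subtype.ext hn'
      rw [this, map_one])
  have h5 : (⟨x, hxM⟩ : M) ∈ pCore p M := (QuotientGroup.eq_one_iff _).mp key
  exact ⟨_, h5, rfl⟩

theorem main {M₁ M₂ : Subgroup G} (hp : p ≠ 2) (hne : M₁ ≠ M₂) (hP : PairCond M₁ M₂)
    (hinv1 : ¬ Involves (Matrix.SpecialLinearGroup (Fin 2) (ZMod p)) M₁)
    (hinv2 : ¬ Involves (Matrix.SpecialLinearGroup (Fin 2) (ZMod p)) M₂)
    (hc1 : M₁ ⊓ centralizer (opc p M₁ : Set G) ≤ opc p M₁)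
    (hc2 : M₂ ⊓ centralizer (opc p M₂ : Set G) ≤ opc p M₂)
    (hO1 : opc p M₁ ≤ M₁ ⊓ M₂) (hO2 : opc p M₂ ≤ M₁ ⊓ M₂) : False := by
  set D := M₁ ⊓ M₂ with hD
  set T := opc p D with hT
  have hTp : IsPGroup p T := isPGroup_opc
  have hTD : T ≤ D := opc_le
  have hQ1T : opc p M₁ ≤ T := le_opc hO1 (inf_le_left.trans le_normalizer_opc) isPGroup_opc
  have hQ2T : opc p M₂ ≤ T := le_opc hO2 (inf_le_right.trans le_normalizer_opc) isPGroup_opc
  have hbot : ∀ M M' : Subgroup G, opc p M' ≤ M → M ⊓ centralizer (opc p M : Set G) ≤ opc p M →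
      M' ⊓ centralizer (opc p M' : Set G) ≤ opc p M' → M = ⊥ → M' = ⊥ := by
    intro M M' h1 _ h2 h3
    have h4 : opc p M' ≤ ⊥ := h3 ▸ h1
    have h5 : M' ≤ ⊥ := by
      refine le_trans (le_inf le_rfl ?_) (h2.trans h4)
      rw [le_centralizer_iff]
      exact h4.trans bot_le
    exact le_bot_iff.mp h5
  have hM1 : M₁ ≠ ⊥ := fun h => hne (h.trans (hbot M₁ M₂ (hO2.trans inf_le_left) hc1 hc2 h).symm)
  have hM2 : M₂ ≠ ⊥ := fun h => hne ((hbot M₂ M₁ (hO1.trans inf_le_right) hc2 hc1 h).trans h.symm)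
  obtain ⟨R₁, A₁, hR1M, hMR1, hR1Z, hLR1, hA1Z, hA1, hMA1, hcen1⟩ :=
    side hp hinv1 hc1 hTp (hTD.trans inf_le_left) hQ1T hM1
  obtain ⟨R₂, A₂, hR2M, hMR2, hR2Z, hLR2, hA2Z, hA2, hMA2, hcen2⟩ :=
    side hp hinv2 hc2 hTp (hTD.trans inf_le_right) hQ2T hM2
  have hZLT : ZL T ≤ T := inf_le_left.trans (LIn_le _)
  have hB1 : M₁ ⊓ centralizer (ZL (opc p M₁) : Set G) ≤ D := by
    have h1 := (hP A₂ hA2 (hA2Z.trans (hZLT.trans hTD))).2 hMA2
    rw [hD, ← h1]
    refine le_inf inf_le_left ?_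
    exact hcen1.trans ((centralizer_le hA2Z).trans (centralizer_le_normalizer _))
  have hB2 : M₂ ⊓ centralizer (ZL (opc p M₂) : Set G) ≤ D := by
    have h1 := (hP A₁ hA1 (hA1Z.trans (hZLT.trans hTD))).1 hMA1
    rw [hD, ← h1]
    refine le_inf inf_le_left ?_
    exact hcen2.trans ((centralizer_le hA1Z).trans (centralizer_le_normalizer _))
  have key : ∀ M R : Subgroup G, D ≤ M → R ≤ M → M ≤ normalizer (R : Set G) →
      (∀ n ∈ R, ∃ k : ℕ, n ^ (p ^ k) ∈ centralizer (ZL (opc p M) : Set G)) → LIn T ≤ R →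
      M ⊓ centralizer (ZL (opc p M) : Set G) ≤ D → opc p M ≤ T → LIn (opc p M) = LIn T := by
    intro M R hDM hRM hMR hRZ hLR hBD hQT
    apply LIn_eq_of_le hQT
    have h1 : T ⊓ R ≤ opc p M := by
      apply le_opc_of' (Z := ZL (opc p M)) (le_normalizer_opc.trans (normalizer_le_ZL' _)) hRM hMR hRZ inf_le_right
        (hTp.to_le inf_le_left)
      intro x hx b hb
      refine mem_inf.mpr ⟨?_, ?_⟩
      · exact (mem_normalizer_iff.mp (le_normalizer_opc (hBD hb)) x).mp (mem_inf.mp hx).1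
      · exact (mem_normalizer_iff.mp (hMR (mem_inf.mp hb).1) x).mp (mem_inf.mp hx).2
    exact (le_inf (LIn_le T) hLR).trans h1
  have e1 := key M₁ R₁ inf_le_left hR1M hMR1 hR1Z hLR1 hB1 hQ1T
  have e2 := key M₂ R₂ inf_le_right hR2M hMR2 hR2Z hLR2 hB2 hQ2T
  have hLT : LIn T ≠ ⊥ := by
    intro hb
    apply hA1
    rw [eq_bot_iff, ← hb]
    exact hA1Z.trans inf_le_left
  apply hne
  refine eq_of_common hP hLT ((LIn_le T).trans hTD) ?_ ?_
  · rw [← e1]; exact le_normalizer_opc.trans (normalizer_le_LIn _)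
  · rw [← e2]; exact le_normalizer_opc.trans (normalizer_le_LIn _)

end H65.AbPStab
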