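import Cfsg.Agent.Lib.H66.Rad
import Cfsg.Agent.Lib.H66.HomMod
import Cfsg.Agent.Lib.H66.MinQ
import Cfsg.Agent.Lib.H66.FreeAct
import Cfsg.Agent.Lib.H3.Extraspecial

set_option autoImplicit false
set_option linter.style.haveILetI false
set_option linter.unusedSectionVars false
set_option linter.unusedVariables false

/-! Coprime cyclic actions on extraspecial groups: consequences of the critical lemma. -/

namespace H65.CopCrit

open Subgroup Cfsg H66.Weights H66.Crit H66.MinQ H66.Rad H66.EigB Module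
open scoped commutatorElement

/-- coprime action, one coset -/
theorem coset_fixed {X : Type*} [Group X] [Finite X] {p : ℕ} [hp : Fact p.Prime] {P Z : Subgroup X} (hP : IsPGroup p P)
    (hZP : Z ≤ P) {a : X} (hcop : (orderOf a).Coprime p) (haZ : ∀ z ∈ Z, a * z = z * a) {x : X} (hx : x ∈ P)
    (hxa : ⁅x, a⁆ ∈ Z) : a * x = x * a := by
  set c := ⁅a, x⁆ with hc
  have hcZ : c ∈ Z := by
    rw [hc, ← commutatorElement_inv]; exact inv_mem hxa
  have h1 : a * x * a⁻¹ = c * x := by rw [hc, commutatorElement_def]; group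
  have h2 : ∀ m : ℕ, a ^ m * x * (a ^ m)⁻¹ = c ^ m * x := by
    intro m
    induction m with
    | zero => simp
    | succ m ih =>
      have e1 : a ^ (m + 1) * x * (a ^ (m + 1))⁻¹ = a * (a ^ m * x * (a ^ m)⁻¹) * a⁻¹ := by
        rw [pow_succ']; group
      have e2 : a * c ^ m = c ^ m * a := haZ _ (pow_mem hcZ m)
      rw [e1, ih]
      calc a * (c ^ m * x) * a⁻¹ = (a * c ^ m) * x * a⁻¹ := by group
        _ = c ^ m * (a * x * a⁻¹) := by rw [e2]; group
        _ = c ^ (m + 1) * x := by rw [h1, pow_succ]; group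
  have h3 := h2 (orderOf a)
  rw [pow_orderOf_eq_one, one_mul, inv_one, mul_one] at h3
  have h4 : c ^ orderOf a = 1 := (mul_eq_right.mp h3.symm)
  have h5 : orderOf c ∣ orderOf a := orderOf_dvd_of_pow_eq_one h4
  obtain ⟨k, hk⟩ := hP ⟨c, hZP hcZ⟩
  have h6 : orderOf c ∣ p ^ k := orderOf_dvd_of_pow_eq_one (congrArg Subtype.val hk)
  have h7 : orderOf c = 1 := Nat.eq_one_of_dvd_coprimes (hcop.pow_right k) h5 h6
  rw [orderOf_eq_one_iff, hc, commutatorElement_eq_one_iff_mul_comm] at h7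
  exact h7

/-- the configuration for an extraspecial group -/
theorem config {K V Γ : Type*} [Field K] [IsAlgClosed K] [AddCommGroup V] [Module K V] [FiniteDimensional K V]
    [Group Γ] [Finite Γ] (ρ : Representation K Γ V) {q : ℕ} [hq : Fact q.Prime] (Q : Subgroup Γ)
    (hQ : IsExtraspecial q Q) (hqK : (q : K) ≠ 0)
    (hne : ∃ z ∈ (center Q).map Q.subtype, ρ z ≠ 1) :
    ∃ W : Submodule K V, W ≠ ⊥ ∧ CData ρ W Q ((center Q).map Q.subtype) ∧
      ∀ g : Γ, (∀ z ∈ (center Q).map Q.subtype, g * z = z * g) → ∀ w ∈ W, ρ g w ∈ W := by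
  classical
  set Z := (center Q).map Q.subtype with hZ
  obtain ⟨z, hz, hρz⟩ := hne
  have hZcard : Nat.card Z = q := by
    rw [hZ, Subgroup.card_map_of_injective Q.subtype_injective]; exact hQ.2
  have hz1 : z ≠ 1 := by rintro rfl; exact hρz (map_one ρ)
  have hZQ : Z ≤ Q := by
    rw [hZ]; exact map_subtype_le _
  have hzz : zpowers z = Z := by
    apply Subgroup.eq_of_le_of_card_ge (zpowers_le.mpr hz)
    rw [hZcard, Nat.card_zpowers]
    have h1 : orderOf z ∣ q := by
      rw [← hZcard]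
      have := orderOf_dvd_natCard (⟨z, hz⟩ : Z)
      rwa [Subgroup.orderOf_mk] at this
    rcases (Nat.dvd_prime hq.out).mp h1 with h | h
    · exact absurd (orderOf_eq_one_iff.mp h) hz1
    · exact h.ge
  have hoz : orderOf z = q := by rw [← Nat.card_zpowers, hzz, hZcard]
  have hpow : (ρ z) ^ q = 1 := by rw [← map_pow, ← hoz, pow_orderOf_eq_one, map_one]
  have hsup := iSup_eigenspace (ρ z) hqK hpow
  obtain ⟨ζ, hζ1, hζ⟩ : ∃ ζ : K, ζ ≠ 1 ∧ Module.End.eigenspace (ρ z) ζ ≠ ⊥ := by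
    by_contra hcon
    push Not at hcon
    apply hρz
    have h1 : Module.End.eigenspace (ρ z) (1 : K) = ⊤ := by
      rw [eq_top_iff, ← hsup]
      refine iSup_le fun μ => ?_
      by_cases hμ : μ = 1
      · rw [hμ]
      · rw [hcon μ hμ]; exact bot_le
    ext v
    have h2 : v ∈ Module.End.eigenspace (ρ z) (1 : K) := by rw [h1]; trivial
    rw [Module.End.mem_eigenspace_iff, one_smul] at h2
    exact h2
  set W := Module.End.eigenspace (ρ z) ζ with hW
  have hWmem : ∀ w, w ∈ W ↔ ρ z w = ζ • w := fun w => Module.End.mem_eigenspace_iff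
  have hpoww : ∀ k : ℕ, ∀ w ∈ W, ρ (z ^ k) w = ζ ^ k • w := by
    intro k w hw
    induction k with
    | zero => simp
    | succ k ih =>
      rw [pow_succ, map_mul, Module.End.mul_apply, (hWmem w).mp hw, map_smul, ih, smul_smul, pow_succ, mul_comm]
  obtain ⟨v0, hv0, hv00⟩ := (Submodule.ne_bot_iff _).mp hζ
  have hinvg : ∀ g : Γ, g * z = z * g → ∀ w ∈ W, ρ g w ∈ W := by
    intro g hg w hw
    rw [hWmem, ← Module.End.mul_apply, ← map_mul, ← hg, map_mul, Module.End.mul_apply, (hWmem w).mp hw, map_smul]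
  have hzpow : ∀ z' ∈ Z, ∃ k : ℕ, z' = z ^ k := by
    intro z' hz'
    rw [← hzz, ← mem_powers_iff_mem_zpowers] at hz'
    obtain ⟨k, hk⟩ := hz'
    exact ⟨k, hk.symm⟩
  have hcomm : ∀ x ∈ Q, ∀ y ∈ Q, ⁅x, y⁆ ∈ Z := by
    intro x hx y hy
    have h1 : ⁅(⟨x, hx⟩ : Q), ⟨y, hy⟩⁆ ∈ center Q :=
      H3.Extraspecial.commutator_le hQ.1 (commutator_mem_commutator (mem_top _) (mem_top _))
    exact ⟨_, h1, rfl⟩
  have hζord : ∀ k : ℕ, ζ ^ k = 1 → q ∣ k := by
    intro k hk
    by_contra hcon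
    have hcop : Nat.Coprime k q := ((Nat.Prime.coprime_iff_not_dvd hq.out).mpr hcon).symm
    apply hζ1
    have h2 : ζ ^ q = 1 := by
      have h3 := hpoww q v0 hv0
      rw [← hoz, pow_orderOf_eq_one, map_one, Module.End.one_apply, hoz] at h3
      exact (smul_right_cancel' hv00 (by rw [one_smul]; exact h3)).symm
    have h3 := orderOf_dvd_of_pow_eq_one hk
    have h4 := orderOf_dvd_of_pow_eq_one h2
    exact orderOf_eq_one_iff.mp (Nat.eq_one_of_dvd_coprimes hcop h3 h4)
  have hQz : ∀ x ∈ Q, x * z = z * x := by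
    intro x hx
    obtain ⟨z', hz', rfl⟩ := hz
    exact congrArg Subtype.val (mem_center_iff.mp hz' ⟨x, hx⟩)
  refine ⟨W, hζ, ⟨fun x hx => hinvg x (hQz x hx), hZQ, ?_, hcomm, ?_⟩, ?_⟩
  · intro z' hz'
    obtain ⟨k, rfl⟩ := hzpow z' hz'
    exact ⟨ζ ^ k, hpoww k⟩
  · intro x hx h
    refine ⟨⟨x, hx⟩, ?_, rfl⟩
    rw [SetLike.mem_coe, mem_center_iff]
    rintro ⟨y, hy⟩
    apply Subtype.ext
    show y * x = x * y
    obtain ⟨k, hk⟩ := hzpow _ (hcomm x hx y hy)
    have h1 := h y hy v0 hv0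
    rw [hk, hpoww k v0 hv0] at h1
    have h2 : ζ ^ k = 1 := smul_right_cancel' hv00 (by rw [one_smul]; exact h1)
    obtain ⟨j, hj⟩ := hζord k h2
    have h3 : ⁅x, y⁆ = 1 := by rw [hk, hj, pow_mul, ← hoz, pow_orderOf_eq_one, one_pow]
    rw [commutatorElement_eq_one_iff_mul_comm] at h3
    exact h3.symm
  · intro g hg w hw
    exact hinvg g (hg z hz) w hw

/-- lower bound for the centralizer dimension -/
theorem lower {K V : Type*} [Field K] [IsAlgClosed K] [AddCommGroup V] [Module K V] [FiniteDimensional K V]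
    (f : Module.End K V) {M : ℕ} (hM : (M : K) ≠ 0) (hf : f ^ M = 1) (k : ℕ) :
    (2 * k + 1) * finrank K V ≤ finrank K (C f) + M * (k * (k + 1)) := by
  classical
  have hM0 : 0 < M := Nat.pos_of_ne_zero (by rintro rfl; simp at hM)
  obtain ⟨b, ε, hb⟩ := exists_eigenbasis f hM hf
  have hc := card_pairs_le f b ε hb
  set S := Polynomial.nthRootsFinset M (1 : K) with hS
  have hSc : S.card ≤ M := by
    have h3 := (Multiset.toFinset_card_le (Polynomial.nthRoots M (1 : K))).trans (Polynomial.card_nthRoots M 1)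
    have h4 : S.card = (Polynomial.nthRoots M (1 : K)).toFinset.card := by
      rw [hS]
      unfold Polynomial.nthRootsFinset
      congr
    rw [h4]; exact h3
  have hεS : ∀ j, ε j ∈ S := by
    intro j
    rw [hS, Polynomial.mem_nthRootsFinset hM0]
    have h1 : ∀ k : ℕ, (f ^ k) (b j) = ε j ^ k • b j := by
      intro k
      induction k with
      | zero => simp
      | succ k ih => rw [pow_succ, Module.End.mul_apply, hb, map_smul, ih, smul_smul, pow_succ, mul_comm]
    have h2 := h1 M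
    rw [hf, Module.End.one_apply] at h2
    exact (smul_right_cancel' (b.ne_zero j) (by rw [one_smul]; exact h2)).symm
  set m : K → ℕ := fun s => (Finset.univ.filter (fun j => ε j = s)).card with hm
  have h1 : finrank K V = ∑ s ∈ S, m s := by
    conv_lhs => rw [← Fintype.card_fin (finrank K V)]
    rw [← Finset.card_univ]
    exact Finset.card_eq_sum_card_fiberwise (fun j _ => hεS j)
  have h2 : Fintype.card {x : Fin (finrank K V) × Fin (finrank K V) // ε x.1 = ε x.2} = ∑ s ∈ S, m s ^ 2 := by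
    rw [Fintype.card_subtype]
    rw [Finset.card_eq_sum_card_fiberwise (f := fun x : Fin (finrank K V) × Fin (finrank K V) => ε x.1) (t := S)
      (fun x _ => hεS x.1)]
    apply Finset.sum_congr rfl
    intro s _
    rw [hm]
    simp only
    rw [sq, ← Finset.card_product]
    congr 1
    ext ⟨i, j⟩
    simp only [Finset.mem_filter, Finset.mem_univ, true_and, Finset.mem_product]
    constructor
    · rintro ⟨h, h'⟩; exact ⟨h', by rw [← h, h']⟩
    · rintro ⟨h, h'⟩; exact ⟨by rw [h, h'], h⟩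
  have h3 : ∀ s ∈ S, (2 * k + 1) * m s ≤ m s ^ 2 + k * (k + 1) := by
    intro s _
    generalize m s = t
    rcases Nat.lt_or_ge t (k + 1) with ht | ht
    · obtain ⟨d, rfl⟩ : ∃ d, k = t + d := ⟨k - t, by omega⟩
      nlinarith [Nat.zero_le (d * d)]
    · obtain ⟨d, rfl⟩ : ∃ d, t = k + 1 + d := ⟨t - (k + 1), by omega⟩
      nlinarith [Nat.zero_le (d * d)]
  have h4 := Finset.sum_le_sum h3
  rw [← Finset.mul_sum, Finset.sum_add_distrib, Finset.sum_const, smul_eq_mul, ← h1, ← h2] at h4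
  have h5 : S.card * (k * (k + 1)) ≤ M * (k * (k + 1)) := Nat.mul_le_mul_right _ hSc
  omega

/-- arithmetic -/
theorem arith {M N c : ℕ} (hM : 0 < M) (h1 : M * c + 1 ≤ N ^ 2 + M)
    (h2 : ∀ k : ℕ, (2 * k + 1) * N ≤ c + M * (k * (k + 1))) : M ∣ N ∨ M ∣ N - 1 ∨ M ∣ N + 1 := by
  set k := N / M with hk
  set t := N % M with ht
  have hN : N = M * k + t := (Nat.div_add_mod N M).symm
  have htM : t < M := Nat.mod_lt _ hM
  have h3 := h2 k
  have h4 : M * t + 1 ≤ t ^ 2 + M := by
    have h5 : M * ((2 * k + 1) * N) ≤ M * c + M * (M * (k * (k + 1))) := by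
      calc M * ((2 * k + 1) * N) ≤ M * (c + M * (k * (k + 1))) := Nat.mul_le_mul_left _ h3
        _ = _ := by ring
    rw [hN] at h5 h1
    nlinarith
  rcases Nat.eq_zero_or_pos t with h0 | h0
  · left
    rw [hN, h0, add_zero]; exact dvd_mul_right _ _
  · rcases Nat.lt_or_ge 1 t with h1t | h1t
    · have h6 : t + 1 = M := by
        by_contra hne
        obtain ⟨a, ha⟩ : ∃ a, t = a + 2 := ⟨t - 2, by omega⟩
        obtain ⟨b, hb⟩ : ∃ b, M = t + 2 + b := ⟨M - (t + 2), by omega⟩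
        rw [hb, ha] at h4
        nlinarith [Nat.zero_le (a * b), Nat.zero_le a, Nat.zero_le b]
      right; right
      refine ⟨k + 1, ?_⟩
      rw [hN, mul_add, mul_one]; omega
    · right; left
      have : t = 1 := by omega
      rw [hN, this, Nat.add_sub_cancel]; exact dvd_mul_right _ _

/-- general conclusion -/
theorem general {K V Γ : Type*} [Field K] [IsAlgClosed K] [AddCommGroup V] [Module K V] [FiniteDimensional K V]
    [Group Γ] [Finite Γ] {ρ : Representation K Γ V} {W : Submodule K V} {E Z : Subgroup Γ} (D : CData ρ W E Z)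
    (hW : W ≠ ⊥) (hE : (Nat.card E : K) ≠ 0) {g : Γ} (hg : g ∈ normalizer (E : Set Γ)) (hWg : ∀ w ∈ W, ρ g w ∈ W)
    {M : ℕ} (hM : (M : K) ≠ 0) (hM1 : 1 < M)
    (hfix : ∀ i : ℕ, 0 < i → i < M → ∀ x ∈ E, ⁅x, g ^ i⁆ ∈ Z → x ∈ Z)
    (hgM : ∀ w ∈ W, ρ (g ^ M) w = w) :
    ∃ N : ℕ, 0 < N ∧ N ^ 2 * Nat.card Z = Nat.card E ∧ (M ∣ N ∨ M ∣ N - 1 ∨ M ∣ N + 1) := by
  classical
  obtain ⟨U, hUW, hU, hUg, D', hirr⟩ := D.exists_irr hW hE hg hWg (by
    have := hfix 1 (by norm_num) hM1
    simpa using this)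
  have : Nontrivial U := by
    obtain ⟨v, hv, hv0⟩ := (Submodule.ne_bot_iff _).mp hU
    exact ⟨⟨⟨v, hv⟩, 0, fun h => hv0 (congrArg Subtype.val h)⟩⟩
  letI := Fintype.ofFinite (E.subgroupOf (stab ρ U))
  letI := Fintype.ofFinite (Z.subgroupOf (stab ρ U))
  have hE' : (Fintype.card (E.subgroupOf (stab ρ U)) : K) ≠ 0 := by
    rw [← Nat.card_eq_fintype_card, D'.card_E]; exact hE
  have hZ' : (Fintype.card (Z.subgroupOf (stab ρ U)) : K) ≠ 0 := by
    rw [← Nat.card_eq_fintype_card, D'.card_Z]; exact cast_card_ne_zero D'.le hE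
  have hgS : g ∈ stab ρ U := hUg
  refine ⟨finrank K U, finrank_pos, ?_, ?_⟩
  · have := sq_finrank_mul D'.data hirr hE' hZ'
    rwa [D'.card_E, D'.card_Z] at this
  · have h1 := finrank_C_le D'.data hirr hE' hZ' (g := ⟨g, hgS⟩) (M := M) (by
      rw [Subgroup.mem_normalizer_iff]
      intro x
      exact Subgroup.mem_normalizer_iff.mp hg x) (by
      intro i hi0 hiM x hx h
      exact hfix i hi0 hiM x hx h)
    have h2 : (res ρ U ⟨g, hgS⟩) ^ M = 1 := by
      rw [← map_pow]
      ext w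
      rw [res_apply]
      exact hgM w (hUW w.2)
    exact arith (by omega) h1 (lower _ hM h2)

theorem eq_pow_of {p n N : ℕ} [hp : Fact p.Prime] (h : N ^ 2 * p = p ^ (2 * n + 1)) : N = p ^ n := by
  have h1 : p ^ (2 * n + 1) = (p ^ n) ^ 2 * p := by rw [← pow_mul, pow_succ, mul_comm 2 n]
  rw [h1] at h
  exact Nat.pow_left_injective (by norm_num : 2 ≠ 0) (Nat.eq_of_mul_eq_mul_right hp.out.pos h)

/-- the regular representation on functions -/
def reg (G : Type*) [Group G] : Representation ℂ G (G → ℂ) where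
  toFun g := LinearMap.funLeft ℂ ℂ (fun x => x * g)
  map_one' := by
    ext f x
    simp [LinearMap.funLeft_apply]
  map_mul' := by
    intro g h
    ext f x
    simp [LinearMap.funLeft_apply, mul_assoc]

theorem reg_apply {G : Type*} [Group G] (g : G) (f : G → ℂ) (x : G) : reg G g f x = f (x * g) := rfl

/-- `S3767` -/
theorem main67 {G : Type*} [Group G] [Finite G] {p : ℕ} [hp : Fact p.Prime] (P H : Subgroup G)
    (hP : IsExtraspecial p ↥P) (n : ℕ) (hn : Nat.card P = p ^ (2 * n + 1)) (hH : IsCyclic H)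
    (hcop : (Nat.card H).Coprime p) (hHP : H ≤ Subgroup.normalizer (P : Set G))
    (hfix : ∀ x ∈ H, x ≠ 1 → P ⊓ Subgroup.centralizer {x} = (Subgroup.center ↥P).map P.subtype) :
    Nat.card H ∣ p ^ n + 1 ∨ Nat.card H ∣ p ^ n - 1 := by
  classical
  set Z := (center P).map P.subtype with hZ
  have hZcard : Nat.card Z = p := by
    rw [hZ, Subgroup.card_map_of_injective P.subtype_injective]; exact hP.2
  have hZP : Z ≤ P := by rw [hZ]; exact map_subtype_le _
  obtain ⟨⟨g, hgH⟩, hgen⟩ := hH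
  have hHg : zpowers g = H := by
    apply le_antisymm (zpowers_le.mpr hgH)
    intro x hx
    obtain ⟨i, hi⟩ := hgen ⟨x, hx⟩
    exact ⟨i, congrArg Subtype.val hi⟩
  have hog : orderOf g = Nat.card H := by rw [← hHg, Nat.card_zpowers]
  by_cases hg1 : g = 1
  · left
    rw [← hog, hg1, orderOf_one]; exact one_dvd _
  have hM1 : 1 < Nat.card H := by
    rw [← hog]
    have h1 := orderOf_pos g
    have h2 : orderOf g ≠ 1 := fun h => hg1 (orderOf_eq_one_iff.mp h)
    omega
  -- a generator of `Z`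
  obtain ⟨z, hz, hz1⟩ : ∃ z ∈ Z, z ≠ 1 := by
    haveI : Nontrivial Z := by
      rw [← Finite.one_lt_card_iff_nontrivial, hZcard]; exact hp.out.one_lt
    obtain ⟨y, hy⟩ := exists_ne (1 : Z)
    exact ⟨y, y.2, fun h => hy (Subtype.ext h)⟩
  have hρz : reg G z ≠ 1 := by
    intro h
    have h1 := congrFun (LinearMap.congr_fun h (Pi.single (1 : G) (1 : ℂ))) 1
    rw [reg_apply, Module.End.one_apply, one_mul, Pi.single_eq_same, Pi.single_eq_of_ne hz1] at h1
    exact zero_ne_one h1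
  obtain ⟨W, hW, D, hWinv⟩ := config (K := ℂ) (reg G) P hP (by exact_mod_cast hp.out.ne_zero) ⟨z, hz, hρz⟩
  have hxZ : ∀ x ∈ H, x ≠ 1 → ∀ z ∈ Z, x * z = z * x := by
    intro x hx hx1 z hz
    rw [← hfix x hx hx1] at hz
    exact (mem_centralizer_singleton_iff.mp hz.2).symm
  obtain ⟨N, hN0, hN, hdiv⟩ := general D hW (by exact_mod_cast Nat.card_pos.ne') (hHP hgH)
    (hWinv g (hxZ g hgH hg1)) (M := Nat.card H) (by exact_mod_cast Nat.card_pos.ne') hM1 (by
      intro i hi0 hiM x hx hxi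
      have hgi : g ^ i ∈ H := pow_mem hgH i
      have hgi1 : g ^ i ≠ 1 := by
        intro h
        have := Nat.le_of_dvd hi0 (orderOf_dvd_of_pow_eq_one h)
        omega
      show x ∈ Z
      rw [← hfix _ hgi hgi1]
      refine ⟨hx, mem_centralizer_singleton_iff.mpr ?_⟩
      refine (coset_fixed (p := p) (P := P) (Z := Z) hP.1.1 hZP ?_ (hxZ _ hgi hgi1) hx hxi).symm
      refine Nat.Coprime.coprime_dvd_left ?_ hcop
      rw [← hog]; exact orderOf_pow_dvd i) (by
      intro w _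
      rw [← hog, pow_orderOf_eq_one, map_one]; rfl)
  have hNp : N = p ^ n := eq_pow_of (by rw [← hn, ← hN]; exact congrArg (N ^ 2 * ·) hZcard.symm)
  rw [hNp] at hdiv
  rcases hdiv with h | h | h
  · left
    have := Nat.Coprime.eq_one_of_dvd (hcop.pow_right n) h
    rw [this]; exact one_dvd _
  · exact Or.inr h
  · exact Or.inl h

end H65.CopCrit
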