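import Cfsg.Agent.Lib.H65.CopCrit2
import Cfsg.Agent.Lib.H30.BaseCh
import Cfsg.Agent.Lib.H13.CoprimeHyper

set_option autoImplicit false
set_option linter.style.haveILetI false
set_option linter.unusedSectionVars false
set_option linter.unusedVariables false

/-! Hall-Higman type theorems, representation form. -/

namespace H65.CopRep

open Subgroup Cfsg H66.Weights H66.Crit H66.MinQ H66.Rad H66.EigB Module H65.CopCrit
open scoped commutatorElement

variable {X : Type*} [Group X] [Finite X]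

/-- the core theorem, for representations -/
theorem coreRep {K M : Type*} [Field K] [IsAlgClosed K] [AddCommGroup M] [Module K M] [FiniteDimensional K M]
    (ρ : Representation K X M) {q r : ℕ} [hq : Fact q.Prime] [hr : Fact r.Prime] (hqK : (q : K) ≠ 0)
    (hrK : (r : K) ≠ 0) (hqr : q ≠ r) (A Q0 : Subgroup X) (hA : Nat.card A = r) (hQ0 : IsPGroup q Q0)
    (hAQ0 : A ≤ normalizer (Q0 : Set X)) (hAc : ¬ A ≤ centralizer (Q0 : Set X))
    (hQR : ∀ x ∈ Q0, ρ x = 1 → x = 1) (hfix : ∀ v, (∀ a ∈ A, ρ a v = v) → v = 0) :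
    q = 2 ∧ (∃ n : ℕ, r = 2 ^ n + 1) ∧ ¬ (∀ x ∈ Q0, ∀ y ∈ Q0, x * y = y * x) := by
  classical
  obtain ⟨g, hgA, hg1⟩ : ∃ g ∈ A, g ≠ 1 := by
    haveI : Nontrivial A := by
      rw [← Finite.one_lt_card_iff_nontrivial, hA]; exact hr.out.one_lt
    obtain ⟨y, hy⟩ := exists_ne (1 : A)
    exact ⟨y, y.2, fun h => hy (Subtype.ext h)⟩
  obtain ⟨hgz, hgo⟩ := gen_facts hA hgA hg1
  have hAp : IsPGroup r A := IsPGroup.of_card (n := 1) (by rw [hA, pow_one])
  -- minimal Q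
  obtain ⟨Q, hQQ0, hMQ⟩ := exists_MQ le_rfl (le_normalizer (H := A)) hAQ0 hAc
  have hQq : IsPGroup q Q := hQ0.to_le hQQ0
  have hQnil : Group.IsNilpotent Q := hQq.isNilpotent
  have hQs : Group.IsSolvable Q := inferInstance
  have hcopAQ : (Nat.card A).Coprime (Nat.card Q) := IsPGroup.coprime_card_of_ne r q hqr.symm A Q hAp hQq
  have hAK : (Nat.card A : K) ≠ 0 := by rw [hA]; exact hrK
  have hcastQ : ∀ B : Subgroup X, B ≤ Q → (Nat.card B : K) ≠ 0 := by
    intro B hB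
    obtain ⟨n, hn⟩ := IsPGroup.iff_card.mp (hQq.to_le hB)
    rw [hn, Nat.cast_pow]
    exact pow_ne_zero _ hqK
  -- faithfulness
  have hfaith : ∀ Y : Subgroup X, Y ≤ Q → (∀ y ∈ Y, ∀ f : M, ρ y f = f) → Y = ⊥ := by
    intro Y hY htriv
    rw [eq_bot_iff]
    intro y hy
    exact hQR y (hQQ0 (hY hy)) (LinearMap.ext fun f => htriv y hy f)
  have hfixg : ∀ f : M, ρ g f = f → f = 0 := by
    intro f hf
    apply hfix
    intro a ha
    rw [← hgz, ← mem_powers_iff_mem_zpowers] at ha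
    obtain ⟨k, rfl⟩ := ha
    show ρ (g ^ k) f = f
    induction k with
    | zero => rw [pow_zero, map_one]; rfl
    | succ k ih => rw [pow_succ, map_mul, Module.End.mul_apply, hf, ih]
  have hAQ : A ≤ normalizer (Q : Set X) := hMQ.inv
  have hnab : ¬ ∀ x ∈ Q, ∀ y ∈ Q, x * y = y * x := by
    intro hab
    have hW : cmt ρ Q ≠ ⊥ := by
      intro hcon
      have h1 := hfaith Q le_rfl (by
        intro y hy f
        have := mem_cmt (ρ := ρ) hy f
        rw [hcon, Submodule.mem_bot, sub_eq_zero] at this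
        exact this)
      exact hMQ.ne_bot h1
    obtain ⟨χ, hχ⟩ := exists_weight (ρ := ρ) (B := Q) hW (fun b hb w hw => cmt_invariant (le_normalizer hb) hw)
      (fun b hb c hc w _ => by
        rw [← Module.End.mul_apply, ← map_mul, hab b hb c hc, map_mul]; rfl)
    obtain ⟨v, hv, hv0⟩ := (Submodule.ne_bot_iff _).mp hχ
    have hchar := isChar_of_mem hv.1 hv0
    have hstb : stb A Q hAQ χ ≠ ⊥ := by
      intro hcon
      apply hv0
      apply orbit hAQ hAK (hcastQ Q le_rfl) (W := ⊤) (fun _ _ _ _ => trivial)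
        (fun w _ hw => hfix w hw) hv.1 trivial
      intro a ha
      rw [hcon, mem_bot] at ha
      rw [ha, map_one]; rfl
    have hAs : A ≤ stb A Q hAQ χ := by
      obtain ⟨⟨b, hb⟩, hb1'⟩ := Subgroup.ne_bot_iff_exists_ne_one.mp hstb
      have hb1 : b ≠ 1 := fun h' => hb1' (Subtype.ext h')
      exact (gen_facts hA (stb_le hAQ hb) hb1).1.ge.trans (zpowers_le.mpr hb)
    have htriv : ∀ b ∈ Q, χ b = 1 := by
      intro b hb
      rw [← hMQ.commutator_eq hcopAQ hQs] at hb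
      exact trivial_on_commutator hchar hMQ.invD (fun d hd => (hAs hd).2) hb
    apply hv0
    apply eq_zero_of_mem_cmt (hcastQ Q le_rfl) hv.2
    intro b hb
    rw [hv.1 b hb, htriv b hb, one_smul]
  -- nonabelian case
  have hC := hMQ.nonabelian hcopAQ hQnil hnab
  have hQQ : ⁅Q, Q⁆ ≤ Q ⊓ centralizer (Q : Set X) := by rw [← hC]; exact hMQ.derived hQnil
  set Zq := Q ⊓ centralizer (Q : Set X) with hZq
  have hQ'ne : ⁅Q, Q⁆ ≠ ⊥ := by
    intro hcon
    rw [commutator_eq_bot_iff_le_centralizer] at hcon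
    apply hnab
    intro x hx y hy
    exact mem_centralizer_iff.mp (hcon hy) x hx
  -- choice of the weight
  have hW : cmt ρ ⁅Q, Q⁆ ≠ ⊥ := by
    intro hcon
    have h1 := hfaith ⁅Q, Q⁆ (hQQ.trans inf_le_left) (by
      intro y hy f
      have := mem_cmt (ρ := ρ) hy f
      rw [hcon, Submodule.mem_bot, sub_eq_zero] at this
      exact this)
    exact hQ'ne h1
  have hZn : Zq ≤ normalizer ((⁅Q, Q⁆ : Subgroup X) : Set X) :=
    inf_le_left.trans (H1.Coprime2.le_normalizer_commutator_left Q Q)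
  obtain ⟨χ, hχ⟩ := exists_weight (ρ := ρ) (B := Zq) hW (fun b hb w hw => cmt_invariant (hZn hb) hw)
    (fun b hb c hc w _ => by
      have h1 : b * c = c * b := mem_centralizer_iff.mp hc.2 b hb.1
      rw [← Module.End.mul_apply, ← map_mul, h1, map_mul]; rfl)
  obtain ⟨v0, hv0, hv00⟩ := (Submodule.ne_bot_iff _).mp hχ
  have hchar : IsChar Zq χ := isChar_of_mem hv0.1 hv00
  have hχne : ∃ b ∈ ⁅Q, Q⁆, χ b ≠ 1 := by
    by_contra hcon
    push Not at hcon
    apply hv00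
    apply eq_zero_of_mem_cmt (hcastQ ⁅Q, Q⁆ (hQQ.trans inf_le_left)) hv0.2
    intro b hb
    rw [hv0.1 b (hQQ hb), hcon b hb, one_smul]
  set Rd := rad hQQ hchar with hRd
  have hRdne : Rd ≠ Q := rad_ne hQQ hchar hχne
  have hRdle : Rd ≤ Q := rad_le hQQ hchar
  have hZRd : Zq ≤ Rd := center_le hQQ hchar
  obtain ⟨μ, hμ⟩ := exists_mu (ρ := ρ) hQQ hchar (by
    rw [Submodule.ne_bot_iff]; exact ⟨v0, hv0.1, hv00⟩)
  -- `A` centralizes `Zq`
  have hAZ : ∀ a ∈ A, ∀ z ∈ Zq, a * z = z * a := by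
    intro a ha z hz
    rw [← hC] at hz
    exact mem_centralizer_iff.mp hz.2 a ha
  have hARd : A ≤ normalizer (Rd : Set X) := by
    intro a ha
    apply mem_normalizer_rad hQQ hchar (hAQ ha)
    intro b hb
    congr 1
    have := hAZ a ha b hb
    rw [mul_assoc, ← this]; group
  have hARdc : ∀ a ∈ A, ∀ z ∈ Rd, a * z = z * a := by
    intro a ha z hz
    have h1 := hMQ.min Rd hRdle hRdne hARd ha
    exact (mem_centralizer_iff.mp h1 z hz).symm
  have hcommg : ∀ B : Subgroup X, (∀ z ∈ B, g * z = z * g) → ∀ (η : X → K) (w : M),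
      w ∈ wt ρ B η → ρ g w ∈ wt ρ B η := by
    intro B hB η w hw b hb
    rw [← Module.End.mul_apply, ← map_mul, ← hB b hb, map_mul, Module.End.mul_apply, hw b hb, map_smul]
  have hWg : ∀ w ∈ W ρ hQQ hchar μ, ρ g w ∈ W ρ hQQ hchar μ := by
    intro w hw
    exact ⟨hcommg Rd (hARdc g hgA) μ w hw.1, hcommg Zq (hAZ g hgA) χ w hw.2⟩
  have hcd := cdata (ρ := ρ) hQQ hchar hμ
  have hfree : ∀ i : ℕ, 0 < i → i < r → ∀ x ∈ Q, ⁅x, g ^ i⁆ ∈ Rd → x ∈ Rd := by
    intro i hi0 hir x hx hxi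
    have hgi : g ^ i ∈ A := pow_mem hgA i
    have hgi1 : g ^ i ≠ 1 := by
      intro h
      have := Nat.le_of_dvd hi0 (orderOf_dvd_of_pow_eq_one h)
      omega
    obtain ⟨h1, h2⟩ := gen_facts hA hgi hgi1
    have h3 : g ^ i * x = x * g ^ i := coset_fixed (p := q) hQq hRdle (by
      rw [h2]; exact (Nat.coprime_primes hr.out hq.out).mpr hqr.symm) (hARdc _ hgi) hx hxi
    apply hZRd
    rw [← hC]
    refine ⟨hx, mem_centralizer_iff.mpr fun a ha => ?_⟩
    rw [SetLike.mem_coe, ← h1] at ha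
    obtain ⟨j, rfl⟩ := mem_zpowers_iff.mp ha
    exact ((show Commute (g ^ i) x from h3).zpow_left j).eq
  have hgM : ∀ w ∈ W ρ hQQ hchar μ, ρ (g ^ r) w = w := by
    intro w _
    rw [← hgo, pow_orderOf_eq_one, map_one]; rfl
  obtain ⟨N, hN0, hN, hNr⟩ := crit_final hcd hμ (hcastQ Q le_rfl) (hAQ hgA) hWg hrK hfree hgM
    (fun w _ hw => hfixg w hw)
  obtain ⟨N', hN'0, hN', hdiv⟩ := general hcd hμ (hcastQ Q le_rfl) (hAQ hgA) hWg hrK hr.out.one_lt hfree hgM
  have hNN : N' = N := by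
    rw [← hN] at hN'
    exact Nat.pow_left_injective (by norm_num : 2 ≠ 0) (Nat.eq_of_mul_eq_mul_right Nat.card_pos hN')
  rw [hNN] at hdiv
  have hN1 : N ≠ 1 := by
    rintro rfl
    rw [one_pow, one_mul] at hN
    exact hRdne (Subgroup.eq_of_le_of_card_ge hRdle hN.ge)
  have hr1 := fin_arith hN0 hN1 hNr hdiv
  -- `N` is a power of `q`
  obtain ⟨n, hn⟩ : ∃ n, N = q ^ n := by
    obtain ⟨c, hc⟩ := IsPGroup.iff_card.mp hQq
    have h1 : N ∣ q ^ c := by
      rw [← hc, ← hN, sq, mul_assoc]; exact dvd_mul_right _ _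
    obtain ⟨c', _, hc'⟩ := (Nat.dvd_prime_pow hq.out).mp h1
    exact ⟨c', hc'⟩
  have hn0 : n ≠ 0 := by
    rintro rfl
    exact hN1 (by rw [hn, pow_zero])
  have hq2 := q_two hq.out hr.out hn0 (by rw [hr1, hn])
  refine ⟨hq2, ⟨n, by rw [hr1, hn, hq2]⟩, fun hab => hnab fun x hx y hy => hab x (hQQ0 hx) y (hQQ0 hy)⟩


end H65.CopRep
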