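import Cfsg.Agent.Lib.H3.ClassTwo
import Cfsg.Agent.Lib.H3.PBasic
import Cfsg.Agent.Lib.H25.DQ
import Cfsg.Agent.Lib.H28.RelHall
import Cfsg.Prelude.Def_CaseTheorems
import Cfsg.Prelude.Def_PLocal
import Cfsg.Prelude.Def_Transfer

set_option autoImplicit false
set_option linter.style.haveILetI false
set_option linter.unusedSectionVars false

/-! `p`-groups with a self-centralizing cyclic normal subgroup. -/

namespace H65.CycSC

open Subgroup Cfsg
open scoped commutatorElement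

/-- `⟨u⟩` is normal and self-centralizing of order `p ^ n` -/
structure SC {G : Type*} [Group G] (p n : ℕ) (u : G) : Prop where
  o : orderOf u = p ^ n
  nor : ∀ g : G, ∃ k : ℤ, g * u * g⁻¹ = u ^ k
  sc : ∀ g : G, g * u = u * g → g ∈ zpowers u

variable {G : Type*} [Group G] [Finite G] {p n : ℕ} [hpf : Fact p.Prime] {u : G}

theorem zpow_eq_one_iff (h : SC p n u) (a : ℤ) : u ^ a = 1 ↔ ((p : ℤ) ^ n) ∣ a := by
  rw [← orderOf_dvd_iff_zpow_eq_one, h.o]; push_cast; rfl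

omit [Finite G] hpf in
theorem conj_zpow' {g : G} {k : ℤ} (hk : g * u * g⁻¹ = u ^ k) (a : ℤ) : g * u ^ a * g⁻¹ = u ^ (k * a) := by
  rw [← conj_zpow, hk, ← zpow_mul]

omit [Finite G] hpf in
theorem pow_conj {g : G} {k : ℤ} (hk : g * u * g⁻¹ = u ^ k) (m : ℕ) : g ^ m * u * (g ^ m)⁻¹ = u ^ (k ^ m) := by
  induction m with
  | zero => simp
  | succ m ih =>
    have h1 : g ^ (m + 1) * u * (g ^ (m + 1))⁻¹ = g * (g ^ m * u * (g ^ m)⁻¹) * g⁻¹ := by
      rw [pow_succ']; group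
    rw [h1, ih, conj_zpow' hk, pow_succ']

/-- exponents are `≡ 1 mod p` -/
theorem modp (hG : IsPGroup p G) (h : SC p n u) (hn : 1 ≤ n) {g : G} {k : ℤ} (hk : g * u * g⁻¹ = u ^ k) :
    (p : ℤ) ∣ k - 1 := by
  obtain ⟨j, hj⟩ := hG g
  have h1 := pow_conj hk (p ^ j)
  rw [hj, one_mul, inv_one, mul_one] at h1
  have h2 : u ^ (k ^ (p ^ j) - 1) = 1 := by
    rw [zpow_sub, zpow_one, ← h1, mul_inv_cancel]
  rw [zpow_eq_one_iff h] at h2
  have h3 : (p : ℤ) ∣ k ^ (p ^ j) - 1 := (dvd_pow_self _ (by omega)).trans h2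
  have h4 : ((k ^ (p ^ j) - 1 : ℤ) : ZMod p) = 0 := (ZMod.intCast_zmod_eq_zero_iff_dvd _ p).mpr h3
  push_cast at h4
  rw [ZMod.pow_card_pow] at h4
  apply (ZMod.intCast_zmod_eq_zero_iff_dvd _ p).mp
  push_cast
  exact h4

/-- the central element of order `p` -/
theorem z_central (hG : IsPGroup p G) (h : SC p n u) (hn : 1 ≤ n) (a : ℤ) (g : G) :
    g * u ^ ((p : ℤ) ^ (n - 1) * a) = u ^ ((p : ℤ) ^ (n - 1) * a) * g := by
  obtain ⟨k, hk⟩ := h.nor g
  rw [← mul_inv_eq_iff_eq_mul, conj_zpow' hk]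
  obtain ⟨c, hc⟩ := modp hG h hn hk
  have h1 : u ^ (k * ((p : ℤ) ^ (n - 1) * a) - (p : ℤ) ^ (n - 1) * a) = 1 := by
    rw [zpow_eq_one_iff h]
    have h2 : (p : ℤ) ^ n = (p : ℤ) ^ (n - 1) * p := by
      rw [← pow_succ]; congr 1; omega
    refine ⟨c * a, ?_⟩
    rw [h2]
    have : k = 1 + p * c := by linarith
    rw [this]; ring
  rw [zpow_sub] at h1
  exact mul_inv_eq_one.mp h1

theorem ppow (hn : 1 ≤ n) : (p : ℤ) ^ n = (p : ℤ) ^ (n - 1) * p := by
  rw [← pow_succ]; congr 1; omega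

/-- `g` commutes with `u ^ p` iff its exponent is `≡ 1 mod p ^ (n - 1)` -/
theorem comm_up_iff (h : SC p n u) (hn : 1 ≤ n) {g : G} {k : ℤ} (hk : g * u * g⁻¹ = u ^ k) :
    g * u ^ p = u ^ p * g ↔ ((p : ℤ) ^ (n - 1)) ∣ k - 1 := by
  have hp0 : (p : ℤ) ≠ 0 := by exact_mod_cast hpf.out.ne_zero
  have h1 : u ^ p = u ^ (p : ℤ) := (zpow_natCast u p).symm
  rw [h1, ← mul_inv_eq_iff_eq_mul, conj_zpow' hk]
  constructor
  · intro h2
    have h3 : u ^ ((k - 1) * p) = 1 := by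
      rw [sub_mul, one_mul, zpow_sub, h2, mul_inv_cancel]
    rw [zpow_eq_one_iff h, ppow hn] at h3
    exact Int.dvd_of_mul_dvd_mul_right hp0 h3
  · intro h2
    have h3 : u ^ ((k - 1) * p) = 1 := by
      rw [zpow_eq_one_iff h, ppow hn]
      exact mul_dvd_mul_right h2 _
    rw [sub_mul, one_mul, zpow_sub, mul_inv_eq_one] at h3
    exact h3

/-- `n ≥ 2` if `G` is not abelian -/
theorem two_le (hG : IsPGroup p G) (h : SC p n u) (hna : ¬ IsMulCommutative G) : 2 ≤ n := by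
  by_contra hcon
  have h1 : ∀ g : G, g ∈ zpowers u := by
    intro g
    apply h.sc
    rcases Nat.eq_zero_or_pos n with hn | hn
    · have : u = 1 := by
        rw [← orderOf_eq_one_iff, h.o, hn, pow_zero]
      rw [this]; simp
    · have hn1 : n = 1 := by omega
      have := z_central hG h hn 1 g
      rw [hn1] at this
      simpa using this
  apply hna
  refine ⟨⟨fun a b => ?_⟩⟩
  obtain ⟨i, rfl⟩ := mem_zpowers_iff.mp (h1 a)
  obtain ⟨j, rfl⟩ := mem_zpowers_iff.mp (h1 b)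
  exact ((Commute.refl u).zpow_zpow i j).eq

/-- `p` odd: there is `t ∉ ⟨u⟩` commuting with `u ^ p` -/
theorem exists_t_odd (hG : IsPGroup p G) (h : SC p n u) (hn : 2 ≤ n) (hp : p ≠ 2) (hne : ∃ g : G, g ∉ zpowers u) :
    ∃ t : G, t ∉ zpowers u ∧ t * u ^ p = u ^ p * t := by
  classical
  obtain ⟨g, hg⟩ := hne
  obtain ⟨j, hj⟩ := hG g
  have hex : ∃ k, g ^ (p ^ k) ∈ zpowers u := ⟨j, by rw [hj]; exact one_mem _⟩
  have h3 := Nat.find_spec hex
  have h4 : Nat.find hex ≠ 0 := by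
    intro h0
    rw [h0, pow_zero, pow_one] at h3
    exact hg h3
  obtain ⟨m, hm⟩ := Nat.exists_eq_succ_of_ne_zero h4
  have h5 : g ^ (p ^ m) ∉ zpowers u := Nat.find_min hex (by omega)
  rw [hm, Nat.succ_eq_add_one, pow_succ, pow_mul] at h3
  refine ⟨g ^ (p ^ m), h5, ?_⟩
  set t := g ^ (p ^ m) with ht
  obtain ⟨k, hk⟩ := h.nor t
  rw [comm_up_iff h (by omega) hk]
  obtain ⟨i, hi⟩ := mem_zpowers_iff.mp h3
  have h6 := pow_conj hk p
  rw [← hi] at h6
  have h7 : u ^ (k ^ p - 1) = 1 := by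
    rw [zpow_sub, zpow_one, ← h6]
    group
  rw [zpow_eq_one_iff h] at h7
  have h8 := modp hG h (by omega) hk
  have hpk : ¬ (p : ℤ) ∣ k := by
    intro hd
    have : (p : ℤ) ∣ 1 := by
      have := dvd_sub hd h8
      simpa using this
    have := Int.natCast_dvd_natCast.mp (by exact_mod_cast this : ((p : ℕ) : ℤ) ∣ ((1 : ℕ) : ℤ))
    exact hpf.out.one_lt.ne' (Nat.dvd_one.mp this)
  have h9 := Int.emultiplicity_pow_sub_pow hpf.out (hpf.out.odd_of_ne_two hp) (x := k) (y := 1)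
    (by simpa using h8) hpk p
  rw [one_pow] at h9
  have h10 : (n : ℕ∞) ≤ emultiplicity (p : ℤ) (k ^ p - 1) := pow_dvd_iff_le_emultiplicity.mp h7
  have h11 : emultiplicity p p = 1 := by
    have : FiniteMultiplicity p p := Nat.finiteMultiplicity_iff.mpr ⟨hpf.out.ne_one, hpf.out.pos⟩
    exact this.emultiplicity_self
  rw [h9, h11] at h10
  apply pow_dvd_iff_le_emultiplicity.mpr
  have h12 : ((n - 1 : ℕ) : ℕ∞) + 1 = n := by
    have : (n - 1) + 1 = n := by omega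
    exact_mod_cast this
  rw [← h12] at h10
  exact (ENat.add_le_add_iff_right (by simp)).mp h10

/-- `p = 2`, `n ≥ 3`, nothing outside `⟨u⟩` commutes with `u ^ 2`: exponents are `≡ -1 mod 2 ^ (n - 1)` -/
theorem case_two {u : G} (hG : IsPGroup 2 G) (h : SC 2 n u) (hn : 3 ≤ n)
    (hM : ∀ t : G, t * u ^ 2 = u ^ 2 * t → t ∈ zpowers u) {g : G} (hg : g ∉ zpowers u) {k : ℤ}
    (hk : g * u * g⁻¹ = u ^ k) : ((2 : ℤ) ^ (n - 1)) ∣ k + 1 := by
  classical
  haveI : Fact (Nat.Prime 2) := ⟨Nat.prime_two⟩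
  have hmod : ∀ {g : G} {k : ℤ}, g * u * g⁻¹ = u ^ k → (2 : ℤ) ∣ k - 1 := fun hk => by
    have := modp hG h (by omega) hk
    exact_mod_cast this
  have key : ∀ {x : G} {k : ℤ}, x ∉ zpowers u → x * x ∈ zpowers u → x * u * x⁻¹ = u ^ k →
      ((2 : ℤ) ^ (n - 1)) ∣ k + 1 := by
    intro x k hx hxx hk
    obtain ⟨i, hi⟩ := mem_zpowers_iff.mp hxx
    have h6 := pow_conj hk 2
    rw [pow_two, ← hi] at h6
    have h7 : u ^ (k ^ 2 - 1) = 1 := by
      rw [zpow_sub, zpow_one, ← h6]; group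
    rw [zpow_eq_one_iff h] at h7
    push_cast at h7
    obtain ⟨c, hc⟩ := hmod hk
    have hk' : k = 2 * c + 1 := by linarith
    have h8 : (2 : ℤ) ^ n = 2 ^ (n - 2) * 4 := by
      have : n = (n - 2) + 2 := by omega
      conv_lhs => rw [this]
      rw [pow_add]; norm_num
    have h9 : (2 : ℤ) ^ (n - 1) = 2 ^ (n - 2) * 2 := by
      have : n - 1 = (n - 2) + 1 := by omega
      rw [this, pow_succ]
    have h10 : (2 : ℤ) ^ (n - 2) ∣ c * (c + 1) := by
      rw [h8, hk'] at h7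
      have : (2 * c + 1) ^ 2 - 1 = (c * (c + 1)) * 4 := by ring
      rw [this] at h7
      exact Int.dvd_of_mul_dvd_mul_right (by norm_num) h7
    have hcop : IsCoprime c (c + 1) := ⟨-1, 1, by ring⟩
    rcases Int.even_or_odd c with hc2 | hc2
    · exfalso
      have h11 : IsCoprime ((2 : ℤ) ^ (n - 2)) (c + 1) := by
        apply IsCoprime.pow_left
        have h12 : Odd (c + 1) := hc2.add_one
        obtain ⟨d, hd⟩ := h12
        exact ⟨-d, 1, by rw [hd]; ring⟩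
      have h12 : (2 : ℤ) ^ (n - 2) ∣ c := h11.dvd_of_dvd_mul_right h10
      apply hx
      apply hM
      rw [comm_up_iff h (by omega) hk]
      have : k - 1 = c * 2 := by rw [hk']; ring
      rw [this]
      push_cast
      rw [h9]
      exact mul_dvd_mul_right h12 _
    · have h11 : IsCoprime ((2 : ℤ) ^ (n - 2)) c := by
        apply IsCoprime.pow_left
        obtain ⟨d, hd⟩ := hc2
        exact ⟨-d, 1, by rw [hd]; ring⟩
      have h12 : (2 : ℤ) ^ (n - 2) ∣ c + 1 := h11.dvd_of_dvd_mul_left h10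
      have : k + 1 = (c + 1) * 2 := by rw [hk']; ring
      rw [this, h9]
      exact mul_dvd_mul_right h12 _
  -- the last power outside
  obtain ⟨j, hj⟩ := hG g
  have hex : ∃ k, g ^ (2 ^ k) ∈ zpowers u := ⟨j, by rw [hj]; exact one_mem _⟩
  have h3 := Nat.find_spec hex
  have h4 : Nat.find hex ≠ 0 := by
    intro h0
    rw [h0, pow_zero, pow_one] at h3
    exact hg h3
  obtain ⟨m, hm⟩ := Nat.exists_eq_succ_of_ne_zero h4
  have h5 : g ^ (2 ^ m) ∉ zpowers u := Nat.find_min hex (by omega)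
  rw [hm, Nat.succ_eq_add_one, pow_succ, pow_mul, pow_two] at h3
  cases m with
  | zero =>
    rw [pow_zero, pow_one] at h3 h5
    exact key h5 h3 hk
  | succ m =>
    exfalso
    obtain ⟨l, hl⟩ := h.nor (g ^ (2 ^ m))
    have h6 := pow_conj hl 2
    rw [← pow_mul, ← pow_succ] at h6
    have h7 := key h5 h3 h6
    obtain ⟨c, hc⟩ := hmod hl
    have hl' : l = 2 * c + 1 := by linarith
    have h8 : (4 : ℤ) ∣ l ^ 2 + 1 := by
      refine dvd_trans ?_ h7
      have : n - 1 = 2 + (n - 3) := by omega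
      rw [this, pow_add]
      exact Dvd.intro ((2 : ℤ) ^ (n - 3)) (by norm_num)
    rw [hl'] at h8
    have : (2 * c + 1) ^ 2 + 1 = 4 * (c * (c + 1)) + 2 := by ring
    omega

end H65.CycSC
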