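import Cfsg.Agent.Lib.H65.CycSC

set_option autoImplicit false
set_option linter.style.haveILetI false
set_option linter.unusedSectionVars false

/-! `p`-groups with a self-centralizing cyclic normal subgroup: the centralizer of the `p`-th powers. -/

namespace H65.CycSC2

open Subgroup Cfsg H65.CycSC
open scoped commutatorElement

variable {G : Type*} [Group G] [Finite G] {p n : ℕ} [hpf : Fact p.Prime] {u : G}

/-- data: `s` of order dividing `p` outside `⟨u⟩`, `s u s⁻¹ = u ^ (1 + c p ^ (n-1))` -/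
structure Dat (p n : ℕ) (u s : G) (c : ℤ) : Prop where
  hs : s * u * s⁻¹ = u ^ (1 + c * (p : ℤ) ^ (n - 1))
  hc : ¬ (p : ℤ) ∣ c
  hp : s ^ p = 1

theorem int_p_ne : (p : ℤ) ≠ 0 := by exact_mod_cast hpf.out.ne_zero

theorem not_dvd_one : ¬ (p : ℤ) ∣ 1 := by
  intro h
  have := Int.natCast_dvd_natCast.mp (by exact_mod_cast h : ((p : ℕ) : ℤ) ∣ ((1 : ℕ) : ℤ))
  exact hpf.out.one_lt.ne' (Nat.dvd_one.mp this)

/-- the unit -/
theorem isCoprime_unit (hn : 2 ≤ n) (hpn : p ≠ 2 ∨ 3 ≤ n) (a : ℤ) :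
    IsCoprime ((p : ℤ) ^ (n - 1)) (1 - a * (p : ℤ) ^ (n - 2) * (p.choose 2 : ℤ)) := by
  apply IsCoprime.pow_left
  have h1 : (p : ℤ) ∣ (p : ℤ) ^ (n - 2) * (p.choose 2 : ℤ) := by
    rcases hpn with h | h
    · apply Dvd.dvd.mul_left
      have h2 : p ∣ p.choose 2 := by
        apply hpf.out.dvd_choose_self (by norm_num)
        have := hpf.out.two_le
        omega
      exact_mod_cast h2
    · apply Dvd.dvd.mul_right
      exact dvd_pow_self _ (by omega)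
  obtain ⟨d, hd⟩ := h1
  refine ⟨a * d, 1, ?_⟩
  have : a * (p : ℤ) ^ (n - 2) * (p.choose 2 : ℤ) = a * ((p : ℤ) ^ (n - 2) * (p.choose 2 : ℤ)) := by ring
  rw [this, hd]; ring

/-- the power formula `(t u^i)^p` for `t` acting by `1 + c p^(n-1)` -/
theorem mul_pow_formula (hG : IsPGroup p G) (h : SC p n u) (hn : 2 ≤ n) {t : G} {c : ℤ}
    (ht : t * u * t⁻¹ = u ^ (1 + c * (p : ℤ) ^ (n - 1))) (i : ℤ) :
    (t * u ^ i) ^ p = t ^ p * u ^ ((p : ℤ) * (i * (1 - c * (p : ℤ) ^ (n - 2) * (p.choose 2 : ℤ)))) := by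
  have hcm : ⁅u ^ i, t⁆ = u ^ ((p : ℤ) ^ (n - 1) * (-(c * i))) := by
    rw [commutatorElement_def]
    have h1 : t * (u ^ i)⁻¹ * t⁻¹ = u ^ ((1 + c * (p : ℤ) ^ (n - 1)) * (-i)) := by
      rw [← zpow_neg]; exact conj_zpow' ht _
    calc u ^ i * t * (u ^ i)⁻¹ * t⁻¹ = u ^ i * (t * (u ^ i)⁻¹ * t⁻¹) := by group
      _ = u ^ (i + (1 + c * (p : ℤ) ^ (n - 1)) * (-i)) := by rw [h1, ← zpow_add]
      _ = _ := by congr 1; ring
  have hz := z_central hG h (by omega) (-(c * i))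
  have h1 : Commute ⁅u ^ i, t⁆ t := by rw [hcm]; exact (hz t).symm
  have h2 : Commute ⁅u ^ i, t⁆ (u ^ i) := by rw [hcm]; exact (hz (u ^ i)).symm
  rw [H3.ClassTwo.mul_pow_eq h1 h2 p, hcm, mul_assoc]
  congr 1
  rw [← zpow_natCast (u ^ i) p, ← zpow_natCast (u ^ _) (p.choose 2), ← zpow_mul, ← zpow_mul, ← zpow_add]
  congr 1
  have h3 : (p : ℤ) ^ (n - 1) = p * (p : ℤ) ^ (n - 2) := by
    rw [← pow_succ']; congr 1; omega
  rw [h3]; ring

/-- elements of `M` have exponent `1 + c p^(n-1)` -/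
theorem exists_c (h : SC p n u) (hn : 2 ≤ n) {t : G} (ht : t * u ^ p = u ^ p * t) :
    ∃ c : ℤ, t * u * t⁻¹ = u ^ (1 + c * (p : ℤ) ^ (n - 1)) := by
  obtain ⟨k, hk⟩ := h.nor t
  obtain ⟨c, hc⟩ := (comm_up_iff h (by omega) hk).mp ht
  refine ⟨c, ?_⟩
  rw [hk]
  congr 1
  rw [mul_comm c]; linarith

/-- `z` of exponent `1 + c p^(n-1)` commutes with `u` iff `p ∣ c` -/
theorem comm_iff (h : SC p n u) (hn : 2 ≤ n) {t : G} {c : ℤ}
    (ht : t * u * t⁻¹ = u ^ (1 + c * (p : ℤ) ^ (n - 1))) : t * u = u * t ↔ (p : ℤ) ∣ c := by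
  rw [← mul_inv_eq_iff_eq_mul, ht]
  have h1 : u ^ (1 + c * (p : ℤ) ^ (n - 1)) = u ↔ u ^ (c * (p : ℤ) ^ (n - 1)) = 1 := by
    rw [zpow_add, zpow_one, mul_eq_left]
  rw [h1, zpow_eq_one_iff h, ppow (by omega : 1 ≤ n), mul_comm c]
  constructor
  · intro h2
    exact Int.dvd_of_mul_dvd_mul_left (pow_ne_zero _ int_p_ne) h2
  · intro h2
    exact mul_dvd_mul_left _ h2

theorem exists_s (hG : IsPGroup p G) (h : SC p n u) (hn : 2 ≤ n) (hpn : p ≠ 2 ∨ 3 ≤ n) {t : G}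
    (htu : t ∉ zpowers u) (ht : t * u ^ p = u ^ p * t) : ∃ (s : G) (c : ℤ), Dat p n u s c := by
  obtain ⟨c, hc⟩ := exists_c h hn ht
  have hpc : ¬ (p : ℤ) ∣ c := fun hd => htu (h.sc t ((comm_iff h hn hc).mpr hd))
  -- `t ^ p ∈ ⟨u⟩`
  have htp : t ^ p ∈ zpowers u := by
    apply h.sc
    have h1 := pow_conj hc p
    rw [← mul_inv_eq_iff_eq_mul, h1]
    have h2 : u ^ ((1 + c * (p : ℤ) ^ (n - 1)) ^ p - 1) = 1 := by
      rw [zpow_eq_one_iff h]
      have h3 : ((1 + c * (p : ℤ) ^ (n - 1)) - 1) * (∑ i ∈ Finset.range p, (1 + c * (p : ℤ) ^ (n - 1)) ^ i) =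
          (1 + c * (p : ℤ) ^ (n - 1)) ^ p - 1 := by
        rw [mul_comm]; exact geom_sum_mul _ _
      rw [← h3, ppow (by omega : 1 ≤ n)]
      have h4 : (1 + c * (p : ℤ) ^ (n - 1)) - 1 = (p : ℤ) ^ (n - 1) * c := by ring
      rw [h4, mul_assoc]
      apply mul_dvd_mul_left
      apply Dvd.dvd.mul_left
      -- the geometric sum is divisible by p
      apply (ZMod.intCast_zmod_eq_zero_iff_dvd _ p).mp
      push_cast
      have h5 : ((p : ZMod p)) = 0 := ZMod.natCast_self p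
      have h6 : (p : ZMod p) ^ (n - 1) = 0 := by rw [h5, zero_pow (by omega)]
      rw [h6, mul_zero, add_zero]
      simp
    rw [zpow_sub, zpow_one, mul_inv_eq_one] at h2
    exact h2
  obtain ⟨j, hj⟩ := mem_zpowers_iff.mp htp
  -- `p ∣ j`
  have hpj : (p : ℤ) ∣ j := by
    have h1 : t * u ^ j * t⁻¹ = u ^ j := by
      rw [hj, ← pow_succ', pow_succ, mul_inv_cancel_right]
    rw [conj_zpow' hc] at h1
    have h2 : u ^ ((1 + c * (p : ℤ) ^ (n - 1)) * j - j) = 1 := by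
      rw [zpow_sub, h1, mul_inv_cancel]
    rw [zpow_eq_one_iff h] at h2
    have h3 : (1 + c * (p : ℤ) ^ (n - 1)) * j - j = (p : ℤ) ^ (n - 1) * (c * j) := by ring
    rw [h3, ppow (by omega : 1 ≤ n)] at h2
    have h4 := Int.dvd_of_mul_dvd_mul_left (pow_ne_zero _ int_p_ne) h2
    exact (Int.Prime.dvd_mul' hpf.out h4).resolve_left hpc
  obtain ⟨j', hj'⟩ := hpj
  obtain ⟨a, b, hab⟩ := isCoprime_unit (p := p) hn hpn c
  set e := 1 - c * (p : ℤ) ^ (n - 2) * (p.choose 2 : ℤ) with he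
  refine ⟨t * u ^ (-(j' * b)), c, ?_, hpc, ?_⟩
  · have h1 : t * u ^ (-(j' * b)) * u * (t * u ^ (-(j' * b)))⁻¹ = t * u * t⁻¹ := by
      have : u ^ (-(j' * b)) * u = u * u ^ (-(j' * b)) := ((Commute.refl u).zpow_left _).eq
      rw [mul_inv_rev, mul_assoc t, this]; group
    rw [h1, hc]
  · rw [mul_pow_formula hG h hn hc, ← hj, ← zpow_add, zpow_eq_one_iff h, hj', ppow (by omega : 1 ≤ n)]
    have h1 : (p : ℤ) * j' + p * (-(j' * b) * e) = (p : ℤ) ^ (n - 1) * p * (j' * a) := by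
      have h2 : b * e = 1 - a * (p : ℤ) ^ (n - 1) := by linarith
      calc (p : ℤ) * j' + p * (-(j' * b) * e) = p * j' - p * j' * (b * e) := by ring
        _ = _ := by rw [h2]; ring
    rw [← he, h1]
    exact Dvd.intro _ rfl

variable {s : G} {c : ℤ}

/-- the power formula for `s ^ a` -/
theorem pow_s (h : SC p n u) (hn : 2 ≤ n) (hd : Dat p n u s c) (a : ℕ) :
    s ^ a * u * (s ^ a)⁻¹ = u ^ (1 + (a * c) * (p : ℤ) ^ (n - 1)) := by
  induction a with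
  | zero => simp
  | succ a ih =>
    have h1 : s ^ (a + 1) * u * (s ^ (a + 1))⁻¹ = s * (s ^ a * u * (s ^ a)⁻¹) * s⁻¹ := by
      rw [pow_succ']; group
    rw [h1, ih, conj_zpow' hd.hs]
    have h2 : u ^ ((1 + c * (p : ℤ) ^ (n - 1)) * (1 + a * c * (p : ℤ) ^ (n - 1)) -
        (1 + (((a + 1 : ℕ) : ℤ) * c) * (p : ℤ) ^ (n - 1))) = 1 := by
      rw [zpow_eq_one_iff h]
      have h3 : (1 + c * (p : ℤ) ^ (n - 1)) * (1 + a * c * (p : ℤ) ^ (n - 1)) -
        (1 + (((a + 1 : ℕ) : ℤ) * c) * (p : ℤ) ^ (n - 1)) = (p : ℤ) ^ (n - 1) * (p : ℤ) ^ (n - 1) * (a * c * c) := by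
        push_cast; ring
      rw [h3, ← pow_add]
      apply Dvd.dvd.mul_right
      exact pow_dvd_pow _ (by omega)
    rw [zpow_sub, mul_inv_eq_one] at h2
    exact h2

/-- elements of `M` are `s ^ a * u ^ b` -/
theorem mem_M (h : SC p n u) (hn : 2 ≤ n) (hd : Dat p n u s c) {x : G} (hx : x * u ^ p = u ^ p * x) :
    ∃ (a : ℕ) (b : ℤ), x = s ^ a * u ^ b := by
  obtain ⟨d, hd'⟩ := exists_c h hn hx
  -- solve `a c ≡ d mod p`
  have hcop : IsCoprime c (p : ℤ) := by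
    have := (Nat.Prime.coprime_iff_not_dvd hpf.out (n := c.natAbs)).mpr
      (fun h => hd.hc (Int.natCast_dvd.mpr h))
    rw [Int.isCoprime_iff_gcd_eq_one, Int.gcd_comm]
    exact this
  obtain ⟨a', b', hab⟩ := hcop
  have hpp : (0 : ℤ) < p := by exact_mod_cast hpf.out.pos
  set a : ℤ := (d * a') % p with ha
  have ha0 : 0 ≤ a := Int.emod_nonneg _ hpp.ne'
  obtain ⟨a₁, ha₁⟩ := Int.eq_ofNat_of_zero_le ha0
  have hac : (p : ℤ) ∣ a * c - d := by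
    have h1 : (p : ℤ) ∣ a - d * a' := by
      rw [ha]
      exact Int.dvd_iff_emod_eq_zero.mpr (by simp [Int.sub_emod])
    obtain ⟨q, hq⟩ := h1
    have h2 : a = d * a' + p * q := by linarith
    refine ⟨q * c - d * b', ?_⟩
    rw [h2]
    have h3 : a' * c = 1 - b' * p := by linarith
    calc (d * a' + p * q) * c - d = d * (a' * c) + p * q * c - d := by ring
      _ = _ := by rw [h3]; ring
  have h1 : (s ^ a₁)⁻¹ * x ∈ zpowers u := by
    apply h.sc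
    have h2 := pow_s h hn hd a₁
    have h3 : s ^ a₁ * u * (s ^ a₁)⁻¹ = x * u * x⁻¹ := by
      rw [h2, hd']
      have h4 : u ^ ((1 + (a₁ * c) * (p : ℤ) ^ (n - 1)) - (1 + d * (p : ℤ) ^ (n - 1))) = 1 := by
        rw [zpow_eq_one_iff h, ppow (by omega : 1 ≤ n)]
        have h5 : (1 + (a₁ * c) * (p : ℤ) ^ (n - 1)) - (1 + d * (p : ℤ) ^ (n - 1)) =
            (p : ℤ) ^ (n - 1) * (a₁ * c - d) := by ring
        rw [h5]
        apply mul_dvd_mul_left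
        rw [ha₁] at hac
        exact hac
      rw [zpow_sub, mul_inv_eq_one] at h4
      exact h4
    have h5 : (s ^ a₁)⁻¹ * x * u * ((s ^ a₁)⁻¹ * x)⁻¹ = u := by
      calc (s ^ a₁)⁻¹ * x * u * ((s ^ a₁)⁻¹ * x)⁻¹ = (s ^ a₁)⁻¹ * (x * u * x⁻¹) * s ^ a₁ := by group
        _ = u := by rw [← h3]; group
    exact mul_inv_eq_iff_eq_mul.mp h5
  obtain ⟨b, hb⟩ := mem_zpowers_iff.mp h1
  exact ⟨a₁, b, by rw [hb]; group⟩

/-- elements of order dividing `p` in `M` -/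
theorem mem_E (hG : IsPGroup p G) (h : SC p n u) (hn : 2 ≤ n) (hpn : p ≠ 2 ∨ 3 ≤ n) (hd : Dat p n u s c)
    {x : G} (hx : x * u ^ p = u ^ p * x) (hxp : x ^ p = 1) :
    ∃ (a : ℕ) (b : ℤ), x = s ^ a * u ^ ((p : ℤ) ^ (n - 1) * b) := by
  obtain ⟨a, b, hab⟩ := mem_M h hn hd hx
  have h1 := mul_pow_formula hG h hn (pow_s h hn hd a) b
  rw [← hab, hxp, ← pow_mul, mul_comm a p, pow_mul, hd.hp, one_pow, one_mul] at h1
  have h2 := (zpow_eq_one_iff h _).mp h1.symm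
  rw [ppow (by omega : 1 ≤ n), mul_comm _ (p : ℤ)] at h2
  have h3 := Int.dvd_of_mul_dvd_mul_left int_p_ne h2
  have h4 := (isCoprime_unit (p := p) hn hpn (a * c)).dvd_of_dvd_mul_right h3
  obtain ⟨b', hb'⟩ := h4
  exact ⟨a, b', by rw [hab, hb']⟩

end H65.CycSC2
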