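import Cfsg.Agent.Lib.H65.CycSC2
import Cfsg.Agent.Lib.H1.Coprime2

set_option autoImplicit false
set_option linter.style.haveILetI false
set_option linter.unusedSectionVars false
set_option linter.unusedVariables false

/-! `p`-groups with a self-centralizing cyclic normal subgroup: `Ω₁(M)` and the classification for `p = 2`. -/

namespace H65.CycSC3

open Subgroup Cfsg H65.CycSC H65.CycSC2
open scoped commutatorElement

variable {G : Type*} [Group G] [Finite G] {p n : ℕ} [hpf : Fact p.Prime] {u : G}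

abbrev MM (p : ℕ) (u : G) : Subgroup G := centralizer (powerClosure p 1 (zpowers u) : Set G)

omit [Finite G] hpf in
theorem mem_MM {x : G} : x ∈ MM p u ↔ x * u ^ p = u ^ p * x := by
  constructor
  · intro hx
    have h1 : u ^ p ∈ powerClosure p 1 (zpowers u) :=
      subset_closure ⟨u, mem_zpowers u, by rw [pow_one]⟩
    exact (mem_centralizer_iff.mp hx _ h1).symm
  · intro hx
    have h1 : powerClosure p 1 (zpowers u) ≤ centralizer {x} := by
      unfold powerClosure
      rw [closure_le]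
      rintro _ ⟨y, hy, rfl⟩
      obtain ⟨i, rfl⟩ := mem_zpowers_iff.mp hy
      rw [SetLike.mem_coe, mem_centralizer_singleton_iff, pow_one]
      have : (u ^ i) ^ p = (u ^ p) ^ i := by
        rw [← zpow_natCast, ← zpow_mul, mul_comm, zpow_mul, zpow_natCast]
      rw [this]
      exact ((show Commute x (u ^ p) from hx).zpow_right i).eq.symm
    rw [mem_centralizer_iff]
    intro y hy
    exact mem_centralizer_singleton_iff.mp (h1 hy)

variable {s : G} {c : ℤ}

theorem s_notMem (h : SC p n u) (hn : 2 ≤ n) (hd : Dat p n u s c) : s ∉ zpowers u := by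
  intro hs
  obtain ⟨i, rfl⟩ := mem_zpowers_iff.mp hs
  exact hd.hc ((comm_iff h hn hd.hs).mp ((Commute.refl u).zpow_left i).eq)

theorem s_mem_MM (h : SC p n u) (hn : 2 ≤ n) (hd : Dat p n u s c) : s ∈ MM p u := by
  rw [mem_MM, comm_up_iff h (by omega) hd.hs]
  exact ⟨c, by ring⟩

theorem orderOf_s (h : SC p n u) (hn : 2 ≤ n) (hd : Dat p n u s c) : orderOf s = p := by
  have h1 := orderOf_dvd_of_pow_eq_one hd.hp
  rcases (Nat.dvd_prime hpf.out).mp h1 with h2 | h2
  · exfalso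
    rw [orderOf_eq_one_iff] at h2
    exact s_notMem h hn hd (h2 ▸ one_mem _)
  · exact h2

theorem zpowers_s_inf (h : SC p n u) (hn : 2 ≤ n) (hd : Dat p n u s c) : zpowers s ⊓ zpowers u = ⊥ := by
  rw [eq_bot_iff]
  intro x hx
  obtain ⟨hx1, hx2⟩ := mem_inf.mp hx
  by_contra hne
  apply s_notMem h hn hd
  have hp : Nat.card (zpowers s) = p := by rw [Nat.card_zpowers, orderOf_s h hn hd]
  have h1 : zpowers s ⊓ zpowers u = zpowers s := by
    apply Subgroup.eq_of_le_of_card_ge inf_le_left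
    have h2 : Nat.card (zpowers s ⊓ zpowers u : Subgroup G) ∣ p := hp ▸ Subgroup.card_dvd_of_le inf_le_left
    rcases (Nat.dvd_prime hpf.out).mp h2 with h3 | h3
    · rw [Subgroup.card_eq_one] at h3
      rw [h3] at hx
      exact absurd hx hne
    · rw [h3, hp]
  have := h1 ▸ mem_zpowers s
  exact (mem_inf.mp this).2

theorem le_norm_u (h : SC p n u) (H : Subgroup G) : H ≤ normalizer (zpowers u : Set G) := by
  intro g _
  rw [mem_normalizer_iff]
  have key : ∀ g : G, ∀ x ∈ zpowers u, g * x * g⁻¹ ∈ zpowers u := by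
    intro g x hx
    obtain ⟨i, rfl⟩ := mem_zpowers_iff.mp hx
    obtain ⟨k, hk⟩ := h.nor g
    rw [conj_zpow' hk]
    exact zpow_mem (mem_zpowers u) _
  intro x
  refine ⟨key g x, fun hx => ?_⟩
  have := key g⁻¹ _ hx
  have h2 : g⁻¹ * (g * x * g⁻¹) * g⁻¹⁻¹ = x := by group
  rwa [h2] at this

theorem MM_eq (h : SC p n u) (hn : 2 ≤ n) (hd : Dat p n u s c) : MM p u = zpowers s ⊔ zpowers u := by
  apply le_antisymm
  · intro x hx
    obtain ⟨a, b, rfl⟩ := mem_M h hn hd (mem_MM.mp hx)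
    exact mul_mem (mem_sup_left (pow_mem (mem_zpowers s) a)) (mem_sup_right (zpow_mem (mem_zpowers u) b))
  · refine sup_le ?_ ?_
    · rw [zpowers_le]; exact s_mem_MM h hn hd
    · rw [zpowers_le, mem_MM]
      exact ((Commute.refl u).pow_right p).eq

theorem relIndex_MM (h : SC p n u) (hn : 2 ≤ n) (hd : Dat p n u s c) : (zpowers u).relIndex (MM p u) = p := by
  have h1 := H28.RelHall.card_sup_mul_card_inf (H := zpowers s) (N := zpowers u) (le_norm_u h _)
  rw [zpowers_s_inf h hn hd, Subgroup.card_bot, mul_one, ← MM_eq h hn hd, Nat.card_zpowers s,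
    orderOf_s h hn hd] at h1
  have h2 : zpowers u ≤ MM p u := by rw [MM_eq h hn hd]; exact le_sup_right
  have h3 := Subgroup.relIndex_mul_relIndex ⊥ (zpowers u) (MM p u) bot_le h2
  rw [relIndex_bot_left, relIndex_bot_left, h1, mul_comm] at h3
  exact Nat.eq_of_mul_eq_mul_right Nat.card_pos h3

/-- the central element `z` -/
theorem z_comm (hG : IsPGroup p G) (h : SC p n u) (hn : 2 ≤ n) (g : G) :
    g * u ^ ((p : ℤ) ^ (n - 1)) = u ^ ((p : ℤ) ^ (n - 1)) * g := by
  have := z_central hG h (by omega) 1 g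
  rwa [mul_one] at this

theorem orderOf_z (h : SC p n u) (hn : 2 ≤ n) : orderOf (u ^ ((p : ℤ) ^ (n - 1))) = p := by
  have h1 : (u ^ ((p : ℤ) ^ (n - 1))) ^ p = 1 := by
    rw [← zpow_natCast, ← zpow_mul, zpow_eq_one_iff h, ppow (by omega : 1 ≤ n)]
  rcases (Nat.dvd_prime hpf.out).mp (orderOf_dvd_of_pow_eq_one h1) with h2 | h2
  · exfalso
    rw [orderOf_eq_one_iff, zpow_eq_one_iff h, ppow (by omega : 1 ≤ n)] at h2
    have h3 : (p : ℤ) ^ (n - 1) * p ∣ (p : ℤ) ^ (n - 1) * 1 := by rwa [mul_one]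
    exact not_dvd_one (Int.dvd_of_mul_dvd_mul_left (pow_ne_zero _ int_p_ne) h3)
  · exact h2

theorem omega_eq (hG : IsPGroup p G) (h : SC p n u) (hn : 2 ≤ n) (hpn : p ≠ 2 ∨ 3 ≤ n) (hd : Dat p n u s c) :
    omegaOne p (MM p u) = zpowers s ⊔ zpowers (u ^ ((p : ℤ) ^ (n - 1))) := by
  apply le_antisymm
  · unfold omegaOne
    rw [closure_le]
    rintro x ⟨hx1, hx2⟩
    obtain ⟨a, b, rfl⟩ := mem_E hG h hn hpn hd (mem_MM.mp hx1) hx2
    refine mul_mem (mem_sup_left (pow_mem (mem_zpowers s) a)) (mem_sup_right ?_)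
    rw [zpow_mul]
    exact zpow_mem (mem_zpowers _) b
  · refine sup_le ?_ ?_
    · rw [zpowers_le]
      exact subset_closure ⟨s_mem_MM h hn hd, hd.hp⟩
    · rw [zpowers_le]
      refine subset_closure ⟨?_, ?_⟩
      · rw [SetLike.mem_coe.symm, SetLike.mem_coe, mem_MM]
        exact (z_comm hG h hn (u ^ p)).symm
      · have := pow_orderOf_eq_one (u ^ ((p : ℤ) ^ (n - 1)))
        rwa [orderOf_z h hn] at this

theorem omega_facts (hG : IsPGroup p G) (h : SC p n u) (hn : 2 ≤ n) (hpn : p ≠ 2 ∨ 3 ≤ n) (hd : Dat p n u s c) :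
    IsElementaryAbelian p (omegaOne p (MM p u)) ∧ Nat.card (omegaOne p (MM p u)) = p ^ 2 := by
  rw [omega_eq hG h hn hpn hd]
  set z := u ^ ((p : ℤ) ^ (n - 1)) with hz
  have hzc : ∀ g, g * z = z * g := z_comm hG h hn
  have hzp : z ^ p = 1 := by
    have := pow_orderOf_eq_one z
    rwa [hz, orderOf_z h hn, ← hz] at this
  have hnorm : zpowers s ≤ normalizer (zpowers z : Set G) := by
    refine le_trans ?_ (centralizer_le_normalizer _)
    rw [le_centralizer_iff, zpowers_le, mem_centralizer_iff]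
    intro g _
    exact hzc g
  have hmem : ∀ x ∈ zpowers s ⊔ zpowers z, ∃ a b : ℤ, x = s ^ a * z ^ b := by
    intro x hx
    rw [← SetLike.mem_coe, coe_mul_of_left_le_normalizer_right _ _ hnorm, Set.mem_mul] at hx
    obtain ⟨y, hy, w, hw, rfl⟩ := hx
    obtain ⟨a, rfl⟩ := mem_zpowers_iff.mp hy
    obtain ⟨b, rfl⟩ := mem_zpowers_iff.mp hw
    exact ⟨a, b, rfl⟩
  have hsz : Commute s z := hzc s
  refine ⟨⟨⟨⟨?_⟩⟩, ?_⟩, ?_⟩
  · rintro ⟨x, hx⟩ ⟨y, hy⟩
    obtain ⟨a, b, rfl⟩ := hmem x hx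
    obtain ⟨a', b', rfl⟩ := hmem y hy
    apply Subtype.ext
    show s ^ a * z ^ b * (s ^ a' * z ^ b') = s ^ a' * z ^ b' * (s ^ a * z ^ b)
    have e1 : Commute (s ^ a) (s ^ a') := (Commute.refl s).zpow_zpow a a'
    have e2 : Commute (z ^ b) (z ^ b') := (Commute.refl z).zpow_zpow b b'
    have e3 : Commute (s ^ a) (z ^ b') := hsz.zpow_zpow a b'
    have e4 : Commute (z ^ b) (s ^ a') := (hsz.zpow_zpow a' b).symm
    exact (Commute.mul_left (Commute.mul_right e1 e3) (Commute.mul_right e4 e2)).eq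
  · intro x hx
    obtain ⟨a, b, rfl⟩ := hmem x hx
    rw [(hsz.zpow_zpow a b).mul_pow, ← zpow_natCast, ← zpow_mul, mul_comm a, zpow_mul, zpow_natCast, hd.hp,
      one_zpow, one_mul, ← zpow_natCast, ← zpow_mul, mul_comm b, zpow_mul, zpow_natCast, hzp, one_zpow]
  · have h1 := H28.RelHall.card_sup_mul_card_inf (H := zpowers s) (N := zpowers z) hnorm
    have h2 : zpowers s ⊓ zpowers z = ⊥ := by
      rw [eq_bot_iff, ← zpowers_s_inf h hn hd]
      refine inf_le_inf_left _ ?_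
      rw [zpowers_le]
      exact zpow_mem (mem_zpowers u) _
    rw [h2, Subgroup.card_bot, mul_one, Nat.card_zpowers, Nat.card_zpowers, orderOf_s h hn hd,
      hz, orderOf_z h hn] at h1
    rw [hz, h1, pow_two]

/-- a normal elementary abelian subgroup of order `p ^ 2` is `Ω₁(M)` -/
theorem unique (hG : IsPGroup p G) (h : SC p n u) (hn : 2 ≤ n) (hpn : p ≠ 2 ∨ 3 ≤ n) (hd : Dat p n u s c)
    {A : Subgroup G} [hAn : A.Normal] (hA : IsElementaryAbelian p A) (hAc : Nat.card A = p ^ 2) :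
    A = omegaOne p (MM p u) := by
  obtain ⟨hE, hEc⟩ := omega_facts hG h hn hpn hd
  apply Subgroup.eq_of_le_of_card_ge _ (by rw [hEc, hAc])
  intro a ha
  refine subset_closure ⟨?_, hA.2 a ha⟩
  show a ∈ MM p u
  rw [mem_MM]
  obtain ⟨k, hk⟩ := h.nor a
  have h1 : a * u * a⁻¹ * u⁻¹ ∈ A := by
    have h2 : a * u * a⁻¹ * u⁻¹ = a * (u * a⁻¹ * u⁻¹) := by group
    rw [h2]
    exact mul_mem ha (hAn.conj_mem _ (inv_mem ha) u)
  have h2 := hA.2 _ h1
  rw [hk, ← zpow_neg_one, ← zpow_add, ← zpow_natCast, ← zpow_mul] at h2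
  rw [← mul_inv_eq_iff_eq_mul, ← zpow_natCast u p, conj_zpow' hk]
  have h3 : (k + -1) * (p : ℤ) = k * p - p := by ring
  rw [h3, zpow_sub, mul_inv_eq_one] at h2
  exact h2

theorem characteristic (hG : IsPGroup p G) (h : SC p n u) (hn : 2 ≤ n) (hpn : p ≠ 2 ∨ 3 ≤ n)
    (hd : Dat p n u s c) : (omegaOne p (MM p u)).Characteristic := by
  obtain ⟨hE, hEc⟩ := omega_facts hG h hn hpn hd
  set E := omegaOne p (MM p u) with hEdef
  -- normality
  have hMn : ∀ g x : G, x ∈ MM p u → g * x * g⁻¹ ∈ MM p u := by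
    intro g x hx
    rw [mem_MM] at hx ⊢
    obtain ⟨k, hk⟩ := h.nor g⁻¹
    have h1 : g⁻¹ * u ^ p * g = (u ^ p) ^ k := by
      have := conj_zpow' hk (p : ℤ)
      rw [zpow_natCast, inv_inv] at this
      rw [this, mul_comm, zpow_mul, zpow_natCast]
    have h2 : Commute x ((u ^ p) ^ k) := (show Commute x (u ^ p) from hx).zpow_right k
    calc g * x * g⁻¹ * u ^ p = g * (x * (g⁻¹ * u ^ p * g)) * g⁻¹ := by group
      _ = g * ((g⁻¹ * u ^ p * g) * x) * g⁻¹ := by rw [h1, h2.eq]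
      _ = u ^ p * (g * x * g⁻¹) := by group
  have hEn : E.Normal := by
    constructor
    intro x hx g
    have h1 : E ≤ E.comap (MulAut.conj g).toMonoidHom := by
      rw [hEdef]
      unfold omegaOne
      rw [closure_le]
      rintro y ⟨hy1, hy2⟩
      refine subset_closure ⟨hMn g y hy1, ?_⟩
      show (g * y * g⁻¹) ^ p = 1
      rw [conj_pow, hy2]; group
    exact h1 hx
  rw [Subgroup.characteristic_iff_map_eq]
  intro φ
  haveI : (E.map φ.toMonoidHom).Normal := hEn.map _ φ.surjective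
  apply unique hG h hn hpn hd
  · refine ⟨?_, ?_⟩
    · refine ⟨⟨?_⟩⟩
      rintro ⟨_, x, hx, rfl⟩ ⟨_, y, hy, rfl⟩
      apply Subtype.ext
      have := congrArg Subtype.val (hE.1.is_comm.comm ⟨x, hx⟩ ⟨y, hy⟩)
      show φ x * φ y = φ y * φ x
      rw [← map_mul, ← map_mul]
      exact congrArg φ this
    · rintro _ ⟨x, hx, rfl⟩
      show φ x ^ p = 1
      rw [← map_pow, hE.2 x hx, map_one]
  · rw [Subgroup.card_map_of_injective φ.injective]; exact hEc

/-! ### the case `p = 2`, index 2 -/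

theorem classification {u : G} (hG : IsPGroup 2 G) (h : SC 2 n u) (hn : 2 ≤ n) (hne : ∃ g : G, g ∉ zpowers u)
    (hM : 3 ≤ n → ∀ t : G, t * u ^ 2 = u ^ 2 * t → t ∈ zpowers u) :
    Nat.card G = 2 ^ (n + 1) ∧ ((∃ m : ℕ, Nonempty (G ≃* DihedralGroup m)) ∨
      (∃ m : ℕ, Nonempty (G ≃* QuaternionGroup m)) ∨ IsQuasiDihedral G) := by
  haveI : Fact (Nat.Prime 2) := ⟨Nat.prime_two⟩
  have hnn : (2 : ℤ) ^ n = 2 ^ (n - 1) * 2 := by
    have := ppow (p := 2) (n := n) (by omega)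
    exact_mod_cast this
  have hmod : ∀ {g : G} {k : ℤ}, g * u * g⁻¹ = u ^ k → (2 : ℤ) ∣ k - 1 := fun hk => by
    have := modp hG h (by omega) hk
    exact_mod_cast this
  have hone : ∀ a : ℤ, u ^ a = 1 ↔ (2 : ℤ) ^ n ∣ a := fun a => by
    have := zpow_eq_one_iff h a
    exact_mod_cast this
  -- exponents
  have hexp : ∀ {g : G} {k : ℤ}, g ∉ zpowers u → g * u * g⁻¹ = u ^ k →
      ((2 : ℤ) ^ (n - 1)) ∣ k + 1 ∧ (4 : ℤ) ∣ k + 1 := by
    intro g k hg hk
    rcases Nat.lt_or_ge n 3 with h3 | h3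
    · have hn2 : n = 2 := by omega
      subst hn2
      have h4 : (4 : ℤ) ∣ k + 1 := by
        obtain ⟨c, hc⟩ := hmod hk
        have h5 : ¬ (4 : ℤ) ∣ k - 1 := by
          intro h6
          apply hg
          apply h.sc
          rw [← mul_inv_eq_iff_eq_mul, hk]
          have : u ^ (k - 1) = 1 := by rw [hone]; norm_num; exact h6
          rw [zpow_sub, zpow_one, mul_inv_eq_one] at this
          exact this
        omega
      refine ⟨?_, h4⟩
      norm_num
      omega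
    · have h4 := case_two hG h h3 (hM h3) hg hk
      refine ⟨h4, ?_⟩
      refine dvd_trans ?_ h4
      have : n - 1 = 2 + (n - 3) := by omega
      rw [this, pow_add]
      exact Dvd.intro ((2 : ℤ) ^ (n - 3)) (by norm_num)
  have hsq : ∀ {g : G}, g ∉ zpowers u → g * u ^ 2 * g⁻¹ = u ^ (-2 : ℤ) := by
    intro g hg
    obtain ⟨k, hk⟩ := h.nor g
    obtain ⟨d, hd⟩ := (hexp hg hk).1
    have h1 := conj_zpow' hk 2
    rw [show u ^ (2 : ℤ) = u ^ 2 from zpow_natCast u 2] at h1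
    rw [h1]
    have h2 : u ^ (k * 2 - (-2)) = 1 := by
      rw [hone, hnn]
      have : k * 2 - (-2) = 2 ^ (n - 1) * 2 * d := by
        calc k * 2 - (-2) = (k + 1) * 2 := by ring
          _ = _ := by rw [hd]; ring
      rw [this]; exact Dvd.intro _ rfl
    rw [zpow_sub, mul_inv_eq_one] at h2
    exact h2
  -- index 2
  have hidx : ∀ {g x : G}, g ∉ zpowers u → x ∉ zpowers u → g⁻¹ * x ∈ zpowers u := by
    intro g x hg hx
    rcases Nat.lt_or_ge n 3 with h3 | h3
    · have hn2 : n = 2 := by omega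
      subst hn2
      have hinv : ∀ {g : G}, g ∉ zpowers u → g * u * g⁻¹ = u⁻¹ := by
        intro g hg
        obtain ⟨k, hk⟩ := h.nor g
        rw [hk]
        have : u ^ (k + 1) = 1 := by
          rw [hone]; norm_num; exact (hexp hg hk).2
        rw [zpow_add, zpow_one] at this
        exact eq_inv_of_mul_eq_one_left this
      apply h.sc
      rw [← mul_inv_eq_iff_eq_mul]
      have e1 := hinv hx
      have e2 := hinv hg
      calc g⁻¹ * x * u * (g⁻¹ * x)⁻¹ = g⁻¹ * (x * u * x⁻¹) * g := by group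
        _ = g⁻¹ * (g * u * g⁻¹) * g := by rw [e1, ← e2]
        _ = u := by group
    · apply hM h3
      rw [← mul_inv_eq_iff_eq_mul]
      have e1 := hsq hx
      have e2 := hsq hg
      calc g⁻¹ * x * u ^ 2 * (g⁻¹ * x)⁻¹ = g⁻¹ * (x * u ^ 2 * x⁻¹) * g := by group
        _ = g⁻¹ * (g * u ^ 2 * g⁻¹) * g := by rw [e1, ← e2]
        _ = u ^ 2 := by group
  obtain ⟨g, hg⟩ := hne
  have hindex : (zpowers u).index = 2 := by
    rw [Subgroup.index_eq_two_iff']
    refine ⟨g⁻¹, fun b => ?_⟩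
    by_cases hb : b ∈ zpowers u
    · right
      refine ⟨hb, fun h1 => hg ?_⟩
      have := mul_mem hb (inv_mem h1)
      have h2 : b * (g⁻¹ * b)⁻¹ = g := by group
      rwa [h2] at this
    · left
      exact ⟨hidx hg hb, hb⟩
  have hcard : Nat.card G = 2 ^ (n + 1) := by
    rw [← Subgroup.card_mul_index (zpowers u), hindex, Nat.card_zpowers, h.o, pow_succ]
  refine ⟨hcard, ?_⟩
  obtain ⟨k, hk⟩ := h.nor g
  obtain ⟨hk1, hk4⟩ := hexp hg hk
  -- `g ^ 2 ∈ Ω₁⟨u⟩`
  have hgi : g⁻¹ ∉ zpowers u := fun h1 => hg (by simpa using inv_mem h1)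
  have hg2 : g * g ∈ zpowers u := by
    have := hidx hgi hg
    rwa [inv_inv] at this
  obtain ⟨j, hj⟩ := mem_zpowers_iff.mp hg2
  have hj2 : (2 : ℤ) ^ (n - 1) ∣ j := by
    have h1 : g * u ^ j * g⁻¹ = u ^ j := by rw [hj]; group
    rw [conj_zpow' hk] at h1
    have h2 : u ^ (k * j - j) = 1 := by rw [zpow_sub, h1, mul_inv_cancel]
    rw [hone, hnn] at h2
    obtain ⟨d, hd⟩ := hk4
    have h3 : k * j - j = (2 * d - 1) * j * 2 := by
      have : k = 4 * d - 1 := by linarith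
      rw [this]; ring
    rw [h3] at h2
    have h4 := Int.dvd_of_mul_dvd_mul_right (by norm_num) h2
    have h5 : IsCoprime ((2 : ℤ) ^ (n - 1)) (2 * d - 1) := by
      apply IsCoprime.pow_left
      exact ⟨d, -1, by ring⟩
    exact h5.dvd_of_dvd_mul_left h4
  obtain ⟨j', hj'⟩ := hj2
  obtain ⟨d, hd⟩ := hk1
  have hK : ∀ x : G, x ∈ (⊤ : Subgroup G) ↔ (∃ i : ℤ, x = u ^ i) ∨ (∃ i : ℤ, x = g * u ^ i) := by
    intro x
    refine ⟨fun _ => ?_, fun _ => mem_top _⟩
    by_cases hx : x ∈ zpowers u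
    · obtain ⟨i, hi⟩ := mem_zpowers_iff.mp hx
      exact Or.inl ⟨i, hi.symm⟩
    · obtain ⟨i, hi⟩ := mem_zpowers_iff.mp (hidx hg hx)
      exact Or.inr ⟨i, by rw [hi]; group⟩
  have hou : orderOf u = 2 ^ n := h.o
  rcases Int.even_or_odd' d with ⟨d', hd' | hd'⟩
  · -- inverted
    have hinv : g * u * g⁻¹ = u⁻¹ := by
      rw [hk]
      have : u ^ (k + 1) = 1 := by
        rw [hone, hd, hnn, hd']
        exact ⟨d', by ring⟩
      rw [zpow_add, zpow_one] at this
      exact eq_inv_of_mul_eq_one_left this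
    rcases Int.even_or_odd' j' with ⟨j'', hj'' | hj''⟩
    · left
      have hgg : g * g = 1 := by
        rw [← hj, hone, hj', hj'', hnn]
        exact ⟨j'', by ring⟩
      obtain ⟨e⟩ := H25.DQ.nonempty_dihedral (2 ^ n) u g ⊤ hou hgg hinv hg hK
      exact ⟨2 ^ n, ⟨(Subgroup.topEquiv.symm).trans e⟩⟩
    · right; left
      have hgg : g * g = u ^ (2 ^ (n - 1)) := by
        rw [← hj, ← zpow_natCast u]
        have : u ^ (j - ((2 ^ (n - 1) : ℕ) : ℤ)) = 1 := by
          rw [hone, hj', hj'', hnn]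
          exact ⟨j'', by push_cast; ring⟩
        rw [zpow_sub, mul_inv_eq_one] at this
        exact this
      obtain ⟨e⟩ := H25.DQ.nonempty_quaternion (2 ^ (n - 1)) u g ⊤ (by
        rw [hou, ← pow_succ']; congr 1; omega) hgg hinv hg hK
      exact ⟨2 ^ (n - 1), ⟨(Subgroup.topEquiv.symm).trans e⟩⟩
  · -- semidihedral
    right; right
    have hn3 : 3 ≤ n := by
      by_contra hcon
      have hn2 : n = 2 := by omega
      subst hn2
      norm_num at hd
      omega
    have hact : g * u * g⁻¹ = u ^ (2 ^ (n - 1) - 1) := by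
      rw [hk, ← zpow_natCast u]
      have h1 : 1 ≤ 2 ^ (n - 1) := Nat.one_le_two_pow
      have : u ^ (k - ((2 ^ (n - 1) - 1 : ℕ) : ℤ)) = 1 := by
        rw [hone, hnn]
        have h2 : k = 2 ^ (n - 1) * (2 * d' + 1) - 1 := by rw [← hd', ← hd]; ring
        push_cast [Nat.cast_sub h1]
        rw [h2]
        exact ⟨d', by ring⟩
      rw [zpow_sub, mul_inv_eq_one] at this
      exact this
    have hy : ∃ y : G, y ∉ zpowers u ∧ y * y = 1 ∧ y * u * y⁻¹ = u ^ (2 ^ (n - 1) - 1) := by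
      rcases Int.even_or_odd' j' with ⟨j'', hj'' | hj''⟩
      · refine ⟨g, hg, ?_, hact⟩
        rw [← hj, hone, hj', hj'', hnn]
        exact ⟨j'', by ring⟩
      · refine ⟨g * u, ?_, ?_, ?_⟩
        · intro h1
          apply hg
          have := mul_mem h1 (inv_mem (mem_zpowers u))
          rwa [mul_inv_cancel_right] at this
        · have h1 : g * u * (g * u) = (g * u * g⁻¹) * (g * g) * u := by group
          rw [h1, hk, ← hj, ← zpow_add, ← zpow_add_one, hone, hj', hj'', hnn]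
          have h2 : k = 2 ^ (n - 1) * (2 * d' + 1) - 1 := by rw [← hd', ← hd]; ring
          rw [h2]
          exact ⟨d' + j'' + 1, by ring⟩
        · rw [← hact]; group
    obtain ⟨y, hyu, hyy, hyact⟩ := hy
    refine ⟨n, hn3, hcard, u, y, hou, ?_, hyact⟩
    apply orderOf_eq_prime
    · rw [pow_two]; exact hyy
    · rintro rfl
      exact hyu (one_mem _)

end H65.CycSC3
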