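import Cfsg.Agent.Lib.H62.PGXD
import Cfsg.Agent.Lib.H98.PGLMax17
import Cfsg.Agent.Lib.H28.Cj
import Cfsg.Agent.S5891

set_option autoImplicit false
set_option linter.unusedSectionVars false
set_option linter.style.haveILetI false

/-!
S1916, the case `PSL₂(q)`: two commuting outer involutions of `PGL₂(q)` have centralizers which
generate `PSL₂(q)`.
-/

namespace H65.FG

open Matrix H45.SL2 H58.SL2Prod H17.FourGrp H17.QuatPair H50.PSLBasic H50.PSLField H62.PGX
open Subgroup H28.Cj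

local notation "PSL2" F => ProjectiveSpecialLinearGroup (Fin 2) F
local notation "PGL2" F => ProjGenLinGroup (Fin 2) F

variable {F : Type*} [Field F]

/-- `PSL₂ → PGL₂` -/
noncomputable def tp : (PSL2 F) →* (PGL2 F) := ProjectiveSpecialLinearGroup.toPGL

theorem tp_injective : Function.Injective (tp : (PSL2 F) →* (PGL2 F)) :=
  ProjectiveSpecialLinearGroup.toPGL_injective

theorem sc_eq (u : Fˣ) : (sc u : GL (Fin 2) F) = Matrix.GeneralLinearGroup.scalar (Fin 2) u := by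
  apply Units.ext
  rfl

theorem mk_eq_iff {g h : GL (Fin 2) F} :
    ProjGenLinGroup.mk g = ProjGenLinGroup.mk h ↔ (psi g 1 : MulAut (PSL2 F)) = psi h 1 := by
  rw [psi_eq_psi_iff', ProjGenLinGroup.mk_eq_mk_iff]
  constructor
  · rintro ⟨u, hu⟩
    refine ⟨rfl, u⁻¹, ?_⟩
    rw [← sc_eq, ← sc_comm] at hu
    rw [← hu, ← mul_assoc, ← map_mul, inv_mul_cancel, map_one, one_mul]
  · rintro ⟨-, u, hu⟩
    refine ⟨u⁻¹, ?_⟩
    rw [← sc_eq, ← sc_comm, hu, ← mul_assoc, ← map_mul, inv_mul_cancel, map_one, one_mul]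

theorem mk_conj (g : GL (Fin 2) F) (x : PSL2 F) :
    ProjGenLinGroup.mk g * tp x * (ProjGenLinGroup.mk g)⁻¹ = tp (psi g 1 x) := by
  obtain ⟨s, rfl⟩ := exists_pr x
  have h1 : tp (pr s) = ProjGenLinGroup.mk (Matrix.SpecialLinearGroup.toGL s) := rfl
  have h2 : tp (psi g 1 (pr s)) = ProjGenLinGroup.mk (Matrix.SpecialLinearGroup.toGL (semiSL g 1 s)) := rfl
  rw [h1, h2, ← map_inv, ← map_mul, ← map_mul]
  congr 1
  apply Units.ext
  show (g.1 * s.1 * (g⁻¹).1) = (semiSL g 1 s).1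
  rw [semiSL_coe, map_one_eq]

theorem psi_mul1 (g h : GL (Fin 2) F) : (psi (g * h) 1 : MulAut (PSL2 F)) = psi g 1 * psi h 1 :=
  map_mul (H50.PSLCount.psiHom (ι := Fin 2) (F := F)) g h

theorem psi_one1 : (psi (1 : GL (Fin 2) F) 1 : MulAut (PSL2 F)) = 1 :=
  map_one (H50.PSLCount.psiHom (ι := Fin 2) (F := F))

set_option maxRecDepth 10000 in
theorem perm4 : ∀ p : Equiv.Perm (Fin 4), p ^ 6 = 1 → p ^ 2 = 1 ∨ p ^ 3 = 1 := by decide

theorem dih_rot {k : ℕ} {x : DihedralGroup k} (h : x * x ≠ 1) : ∃ i, x = DihedralGroup.r i := by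
  cases x with
  | r i => exact ⟨i, rfl⟩
  | sr i => exact absurd (by rw [DihedralGroup.sr_mul_sr, sub_self]; rfl) h

/-- the numbers -/
theorem numbers {q : ℕ} (h3 : 3 < q) {ε : ℤ} {m' : ℕ}
    (heps : (ε = 1 ∧ q % 4 = 1) ∨ (ε = -1 ∧ q % 4 = 3)) (hm' : 2 * (m' : ℤ) = q + ε) :
    Odd m' ∧ 3 ≤ m' := by
  rw [Nat.odd_iff]
  rcases heps with ⟨rfl, h⟩ | ⟨rfl, h⟩ <;> omega

theorem coprime_q {q : ℕ} {ε : ℤ} {m' : ℕ}
    (heps : (ε = 1 ∧ q % 4 = 1) ∨ (ε = -1 ∧ q % 4 = 3)) (hm' : 2 * (m' : ℤ) = q + ε) {q0 : ℕ}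
    (hq0 : q0 ∣ q) : m'.Coprime q0 := by
  rw [Nat.coprime_iff_gcd_eq_one]
  by_contra hcon
  obtain ⟨l, hl, hd⟩ := Nat.exists_prime_and_dvd hcon
  have h1 : l ∣ m' := hd.trans (Nat.gcd_dvd_left _ _)
  have h2 : l ∣ q := (hd.trans (Nat.gcd_dvd_right _ _)).trans hq0
  have h1' : (l : ℤ) ∣ 2 * m' := Dvd.dvd.mul_left (by exact_mod_cast h1) 2
  have h2' : (l : ℤ) ∣ q := by exact_mod_cast h2
  rw [hm'] at h1'
  have h4 : (l : ℤ) ∣ ε := (Int.dvd_add_right h2').1 h1'
  have h5 : (l : ℤ) ∣ 1 := by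
    rcases heps with ⟨h, -⟩ | ⟨h, -⟩
    · rwa [h] at h4
    · rw [h] at h4; exact (Int.dvd_neg).1 h4
  have h6 : l ∣ 1 := by exact_mod_cast h5
  exact hl.one_lt.ne' (Nat.dvd_one.1 h6)

variable [Fintype F]

theorem two_ne (hodd : Odd (Fintype.card F)) : (2 : F) ≠ 0 := by
  obtain ⟨p, hpc⟩ := CharP.exists F
  haveI hpp : Fact p.Prime := ⟨CharP.char_is_prime F p⟩
  intro h
  have h1 : ((2 : ℕ) : F) = 0 := by exact_mod_cast h
  rw [CharP.cast_eq_zero_iff F p] at h1
  have h2 : p = 2 := (Nat.prime_dvd_prime_iff_eq hpp.out Nat.prime_two).1 h1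
  obtain ⟨n, -, hn⟩ := FiniteField.card F p
  rw [hn, h2] at hodd
  exact (Nat.not_even_iff_odd.2 hodd) (Nat.even_pow.2 ⟨even_two, n.ne_zero⟩)

/-- the tori of outer involutions -/
theorem exists_tor (hodd : Odd (Fintype.card F)) {ε : ℤ} {m' : ℕ}
    (heps : (ε = 1 ∧ Fintype.card F % 4 = 1) ∨ (ε = -1 ∧ Fintype.card F % 4 = 3))
    (hm' : 2 * (m' : ℤ) = Fintype.card F + ε) {g : GL (Fin 2) F}
    (hα : psi g 1 * psi g 1 = (1 : MulAut (PSL2 F))) (nα : ¬ IsSquare g.1.det) :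
    ∃ T, TorA (PD F) (psi g 1) m' T := by
  have h2 := two_ne hodd
  have hα1 : psi g 1 ≠ (1 : MulAut (PSL2 F)) := by
    intro h
    apply nα
    rw [← inner_iff]
    exact ⟨1, by rw [h, map_one]⟩
  apply torA_invol h2 hα hα1
  obtain ⟨-, c1, -, c2⟩ := card_torus_invol h2 (g := g)
  have hpos : 1 ≤ Fintype.card F := Fintype.card_pos
  rcases heps with ⟨h, h'⟩ | ⟨h, h'⟩
  · rw [c1 ⟨h', nα⟩]; omega
  · rw [c2 ⟨h', nα⟩]; omega

theorem exists_gen {α : MulAut (PSL2 F)} {m' : ℕ} {T : Subgroup (PSL2 F)} (h : TorA (PD F) α m' T) :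
    ∃ t ∈ T, orderOf t = m' := by
  haveI := h.cyc
  obtain ⟨⟨t, ht⟩, hg⟩ := IsCyclic.exists_generator (α := T)
  refine ⟨t, ht, ?_⟩
  rw [← h.card, ← Subgroup.orderOf_mk t ht]
  exact orderOf_eq_card_of_forall_mem_zpowers hg

/-- no proper maximal subgroup -/
theorem no_max (hodd : Odd (Fintype.card F)) (h3 : 3 < Fintype.card F) {g h : GL (Fin 2) F}
    (hα : psi g 1 * psi g 1 = (1 : MulAut (PSL2 F))) (hβ : psi h 1 * psi h 1 = (1 : MulAut (PSL2 F)))
    (hc : (psi g 1 : MulAut (PSL2 F)) * psi h 1 = psi h 1 * psi g 1)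
    (hne : (psi g 1 : MulAut (PSL2 F)) ≠ psi h 1)
    (nα : ¬ IsSquare g.1.det) (nβ : ¬ IsSquare h.1.det)
    (M : Subgroup (PGL2 F)) (hM : IsCoatom M) (hA : ProjGenLinGroup.mk g ∈ M)
    (hB : ProjGenLinGroup.mk h ∈ M) (h1 : ∀ x, (psi g 1 : MulAut (PSL2 F)) x = x → tp x ∈ M)
    (h2 : ∀ x, (psi h 1 : MulAut (PSL2 F)) x = x → tp x ∈ M) : False := by
  classical
  haveI : Finite (PSL2 F) := inferInstanceAs (Finite (_ ⧸ _))
  haveI hfP : Finite (PGL2 F) := inferInstanceAs (Finite (_ ⧸ _))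
  have hoddN : Odd (Nat.card F) := by rw [Nat.card_eq_fintype_card]; exact hodd
  set A : PGL2 F := ProjGenLinGroup.mk g with hAdef
  set B : PGL2 F := ProjGenLinGroup.mk h with hBdef
  have hA2 : A * A = 1 := by
    rw [hAdef, ← map_mul, ← map_one ProjGenLinGroup.mk, mk_eq_iff, psi_mul1, hα, psi_one1]
  have hB2 : B * B = 1 := by
    rw [hBdef, ← map_mul, ← map_one ProjGenLinGroup.mk, mk_eq_iff, psi_mul1, hβ, psi_one1]
  have hAB : A * B = B * A := by
    rw [hAdef, hBdef, ← map_mul, ← map_mul, mk_eq_iff, psi_mul1, psi_mul1, hc]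
  have hALL : A ∉ H98.PGLMax1.LL F := fun h => nα ((H98.PGLMax1.mk_mem_LL g).1 h)
  have hBLL : B ∉ H98.PGLMax1.LL F := fun h' => nβ ((H98.PGLMax1.mk_mem_LL h).1 h')
  have hA1 : A ≠ 1 := fun h => hALL (h ▸ one_mem _)
  have hB1 : B ≠ 1 := fun h => hBLL (h ▸ one_mem _)
  have hneAB : A ≠ B := fun h => hne (mk_eq_iff.1 h)
  -- numbers
  obtain ⟨ε, m, m', heps, hm, hm'⟩ := exists_eps hodd
  obtain ⟨hmo, hm3⟩ := numbers h3 heps hm'
  obtain ⟨Ta, hTa⟩ := exists_tor hodd heps hm' hα nα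
  obtain ⟨Tb, hTb⟩ := exists_tor hodd heps hm' hβ nβ
  obtain ⟨t, ht, hot⟩ := exists_gen hTa
  obtain ⟨t', ht', hot'⟩ := exists_gen hTb
  have htM : tp t ∈ M := h1 t (hTa.fix t ht)
  have htM' : tp t' ∈ M := h2 t' (hTb.fix t' ht')
  have hotp : orderOf (tp t) = m' := by rw [orderOf_injective tp tp_injective, hot]
  have hotp' : orderOf (tp t') = m' := by rw [orderOf_injective tp tp_injective, hot']
  have hsq : ∀ {H : Type _} [Group H] (x : H), orderOf x = m' → x * x ≠ 1 := by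
    intro H _ x hx h
    have : orderOf x ∣ 2 := orderOf_dvd_of_pow_eq_one (by rw [pow_two]; exact h)
    rw [hx] at this
    have := Nat.le_of_dvd (by norm_num) this
    omega
  have hmM : m' ∣ Nat.card M := by
    rw [← hotp]
    have := orderOf_dvd_natCard (⟨tp t, htM⟩ : M)
    rwa [Subgroup.orderOf_mk] at this
  have hML : ¬ (Matrix.ProjGenLinGroup.mk.comp Matrix.SpecialLinearGroup.toGL).range ≤ M := by
    intro hle
    have hle' : H98.PGLMax1.LL F ≤ M := hle
    have e1 := H98.PGLMax17.two_card_inter hoddN (P := M) (fun h => hALL (h hA))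
    have e2 := H98.PGLMax17.two_card_inter hoddN (P := ⊤) (fun h => hALL (h (mem_top A)))
    rw [inf_eq_right.2 hle'] at e1
    rw [top_inf_eq] at e2
    apply hM.1
    apply Subgroup.eq_top_of_card_eq
    rw [← e1, e2, Subgroup.card_top]
  have hdih : ∀ k : ℕ, (M ≃* DihedralGroup k) → False := by
    intro k f
    obtain ⟨i, hi⟩ := dih_rot (x := f ⟨tp t, htM⟩) (by
      rw [← map_mul]
      intro h
      rw [map_eq_one_iff f f.injective] at h
      exact hsq _ hotp (congrArg Subtype.val h))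
    obtain ⟨j, hj⟩ := dih_rot (x := f ⟨tp t', htM'⟩) (by
      rw [← map_mul]
      intro h
      rw [map_eq_one_iff f f.injective] at h
      exact hsq _ hotp' (congrArg Subtype.val h))
    have hcomm : (⟨tp t, htM⟩ : M) * ⟨tp t', htM'⟩ = ⟨tp t', htM'⟩ * ⟨tp t, htM⟩ := by
      apply f.injective
      rw [map_mul, map_mul, hi, hj, DihedralGroup.r_mul_r, DihedralGroup.r_mul_r, add_comm]
    have hcomm' : t' * t = t * t' := by
      apply tp_injective
      rw [map_mul, map_mul]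
      exact (congrArg Subtype.val hcomm).symm
    have h4 : t' ∈ Ta := hTa.cen t ht (hsq t hot) t' hcomm'
    have h5 := hTa.inv (psi h 1) ⟨h, rfl⟩ hβ (by
      intro h6
      apply nβ
      rw [← inner_iff]
      exact ⟨1, by rw [h6, map_one]⟩) hne.symm hc t' h4
    have h6 := hTb.fix t' ht'
    rw [h6] at h5
    apply hsq t' hot'
    nth_rewrite 2 [h5]
    exact mul_inv_cancel t'
  rcases Cfsg.Agent.S5891.result hodd h3 M hM hML with c | ⟨-, ⟨f⟩⟩ | ⟨⟨f⟩⟩ | ⟨-, -, ⟨f⟩⟩ | ⟨F0, i1, i2, r, hr, hro, hF0, ⟨f⟩⟩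
  · -- point stabiliser
    rcases heps with ⟨he, hq⟩ | ⟨he, hq⟩
    · rw [c] at hmM
      have hcop := coprime_q (Or.inl ⟨he, hq⟩) hm' (dvd_refl (Fintype.card F))
      have h4 := hcop.dvd_of_dvd_mul_left hmM
      rw [he] at hm'
      have h5 : m' ∣ 2 := by
        have h6 : m' ∣ Fintype.card F - 1 + 2 := by
          have : Fintype.card F - 1 + 2 = 2 * m' := by omega
          rw [this]; exact Dvd.intro_left 2 rfl
        exact (Nat.dvd_add_right h4).1 h6
      have := Nat.le_of_dvd (by norm_num) h5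
      omega
    · have h4 : 4 ∣ Nat.card M := by
        have hP : IsPair (⟨A, hA⟩ : M) ⟨B, hB⟩ :=
          ⟨fun h => hA1 (congrArg Subtype.val h), fun h => hB1 (congrArg Subtype.val h),
            fun h => hneAB (congrArg Subtype.val h), Subtype.ext hA2, Subtype.ext hB2, Subtype.ext hAB⟩
        rw [← card_four hP]
        exact Subgroup.card_subgroup_dvd_card _
      rw [c] at h4
      obtain ⟨j, hj⟩ : ∃ j, Fintype.card F = 4 * j + 3 := ⟨Fintype.card F / 4, by omega⟩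
      rw [hj] at h4
      have h5 : (4 * j + 3) * (4 * j + 3 - 1) = 4 * (4 * j * j + 5 * j + 1) + 2 := by
        have : 4 * j + 3 - 1 = 4 * j + 2 := by omega
        rw [this]; ring
      rw [h5] at h4
      omega
  · exact hdih _ f
  · exact hdih _ f
  · -- S₄
    have h24 : Nat.card M = 24 := by
      rw [Nat.card_congr f.toEquiv, Nat.card_eq_fintype_card, Fintype.card_perm, Fintype.card_fin]
      rfl
    rw [h24] at hmM
    have hm4 : m' = 3 := by
      have h5 : m' ∣ 3 := by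
        have h6 : m' ∣ 8 * 3 := hmM
        have h7 : m'.Coprime 8 := by
          have : m'.Coprime (2 ^ 3) := Nat.Coprime.pow_right 3 (Nat.coprime_two_right.2 hmo)
          exact this
        exact h7.dvd_of_dvd_mul_left h6
      rcases (Nat.dvd_prime Nat.prime_three).1 h5 with h | h
      · omega
      · exact h
    have hcx : tp t * A = A * tp t := by
      have := mk_conj g t
      rw [hTa.fix t ht] at this
      exact (mul_inv_eq_iff_eq_mul.1 this).symm
    have hcx' : Commute (tp t) A := hcx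
    have ht3 : (tp t) ^ 3 = 1 := by rw [← hm4, ← hotp, pow_orderOf_eq_one]
    have hxM : tp t * A ∈ M := mul_mem htM hA
    have hx6 : (tp t * A) ^ 6 = 1 := by
      rw [hcx'.mul_pow]
      have e1 : (tp t) ^ 6 = 1 := by
        rw [show 6 = 3 * 2 by norm_num, pow_mul, ht3, one_pow]
      have e2 : A ^ 6 = 1 := by
        rw [show 6 = 2 * 3 by norm_num, pow_mul, pow_two, hA2, one_pow]
      rw [e1, e2, one_mul]
    have hx : (⟨tp t * A, hxM⟩ : M) ^ 6 = 1 := Subtype.ext hx6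
    rcases perm4 (f ⟨tp t * A, hxM⟩) (by rw [← map_pow, hx, map_one]) with h6 | h6
    · rw [← map_pow, map_eq_one_iff f f.injective] at h6
      have h7 : (tp t * A) ^ 2 = 1 := congrArg Subtype.val h6
      rw [hcx'.mul_pow, pow_two A, hA2, mul_one] at h7
      rw [pow_two] at h7
      exact hsq _ hotp h7
    · rw [← map_pow, map_eq_one_iff f f.injective] at h6
      have h7 : (tp t * A) ^ 3 = 1 := congrArg Subtype.val h6
      rw [hcx'.mul_pow, ht3, one_mul] at h7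
      apply hA1
      calc A = A ^ 3 * (A * A)⁻¹ := by group
        _ = 1 := by rw [h7, hA2]; group
  · -- subfield
    have hc1 : Nat.card M = (Nat.card F0 + 1) * (Nat.card F0 * (Nat.card F0 - 1)) := by
      rw [Nat.card_congr f.toEquiv]
      exact H98.DicksonPGL.card_pgl_eq F0
    rw [Nat.card_eq_fintype_card (α := F0)] at hc1
    set q0 := Fintype.card F0 with hq0
    have hq0d : q0 ∣ Fintype.card F := by rw [hF0]; exact dvd_pow_self _ hr.ne_zero
    have hcop := coprime_q heps hm' hq0d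
    have h4 : m' ∣ q0 * ((q0 + 1) * (q0 - 1)) := by
      rw [hc1] at hmM
      convert hmM using 1
      ring
    have h5 := hcop.dvd_of_dvd_mul_left h4
    have hq01 : 1 < q0 := Fintype.one_lt_card
    have hr3 : 3 ≤ r := by
      have := hr.two_le
      rcases Nat.eq_or_lt_of_le this with h6 | h6
      · rw [← h6] at hro; exact absurd hro (by decide)
      · exact h6
    have hq03 : 3 ≤ q0 := by
      have : Odd q0 := by
        by_contra hcon
        rw [Nat.not_odd_iff_even] at hcon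
        apply (Nat.not_even_iff_odd.2 hodd)
        rw [hF0]
        exact Nat.even_pow.2 ⟨hcon, hr.ne_zero⟩
      obtain ⟨j, hj⟩ := this
      omega
    have h6 : m' ≤ (q0 + 1) * (q0 - 1) := Nat.le_of_dvd (Nat.mul_pos (by omega) (by omega)) h5
    have h7 : q0 ^ 3 ≤ Fintype.card F := by
      rw [hF0]; exact Nat.pow_le_pow_right (by omega) hr3
    have h8 : Fintype.card F ≤ 2 * m' + 1 := by
      rcases heps with ⟨h, -⟩ | ⟨h, -⟩ <;> rw [h] at hm' <;> omega
    obtain ⟨j, hj⟩ : ∃ j, q0 = j + 3 := ⟨q0 - 3, by omega⟩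
    have h9 : q0 - 1 = j + 2 := by omega
    rw [h9] at h6
    rw [hj] at h6 h7
    have h10 : (j + 3) ^ 3 ≤ 2 * ((j + 3 + 1) * (j + 2)) + 1 := by omega
    have h11 : (j + 3) ^ 3 = j ^ 3 + 9 * j ^ 2 + 27 * j + 27 := by ring
    have h12 : 2 * ((j + 3 + 1) * (j + 2)) + 1 = 2 * j ^ 2 + 12 * j + 17 := by ring
    rw [h11, h12] at h10
    nlinarith [Nat.zero_le (j ^ 3), Nat.zero_le (j ^ 2)]

/-- **the centralizers of two commuting outer involutions generate `PSL₂(q)`** -/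
theorem gen_top (hodd : Odd (Fintype.card F)) (h3 : 3 < Fintype.card F) {g h : GL (Fin 2) F}
    (hα : psi g 1 * psi g 1 = (1 : MulAut (PSL2 F))) (hβ : psi h 1 * psi h 1 = (1 : MulAut (PSL2 F)))
    (hc : (psi g 1 : MulAut (PSL2 F)) * psi h 1 = psi h 1 * psi g 1)
    (hne : (psi g 1 : MulAut (PSL2 F)) ≠ psi h 1)
    (nα : ¬ IsSquare g.1.det) (nβ : ¬ IsSquare h.1.det) (H : Subgroup (PSL2 F))
    (h1 : ∀ x, (psi g 1 : MulAut (PSL2 F)) x = x → x ∈ H)
    (h2 : ∀ x, (psi h 1 : MulAut (PSL2 F)) x = x → x ∈ H)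
    (hg : ∀ x ∈ H, (psi g 1 : MulAut (PSL2 F)) x ∈ H)
    (hh : ∀ x ∈ H, (psi h 1 : MulAut (PSL2 F)) x ∈ H) : H = ⊤ := by
  classical
  haveI : Finite (PSL2 F) := inferInstanceAs (Finite (_ ⧸ _))
  haveI hfP : Finite (PGL2 F) := inferInstanceAs (Finite (_ ⧸ _))
  set N := normalizer ((H.map tp : Subgroup (PGL2 F)) : Set (PGL2 F)) with hN
  have hNtop : N = ⊤ := by
    rcases eq_top_or_exists_le_coatom N with h4 | ⟨M, hM, hle⟩
    · exact h4
    · exfalso
      have hmem : ∀ k : GL (Fin 2) F, (∀ x ∈ H, (psi k 1 : MulAut (PSL2 F)) x ∈ H) →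
          ProjGenLinGroup.mk k ∈ N := by
        intro k hk
        apply mem_normalizer_of_cj_le
        rw [cj_le_iff]
        rintro _ ⟨x, hx, rfl⟩
        rw [mem_cj, inv_inv, mk_conj]
        exact ⟨_, hk x hx, rfl⟩
      have hHN : ∀ x ∈ H, tp x ∈ N := fun x hx => le_normalizer (mem_map_of_mem tp hx)
      exact no_max hodd h3 hα hβ hc hne nα nβ M hM (hle (hmem g hg)) (hle (hmem h hh))
        (fun x hx => hle (hHN x (h1 x hx))) (fun x hx => hle (hHN x (h2 x hx)))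
  have hnorm : H.Normal := by
    refine ⟨fun x hx c => ?_⟩
    have h4 : tp c ∈ N := by rw [hNtop]; trivial
    have h5 := (mem_normalizer_iff.1 h4 (tp x)).1 (mem_map_of_mem tp hx)
    rw [← map_inv, ← map_mul, ← map_mul] at h5
    obtain ⟨y, hy, e⟩ := h5
    rwa [← tp_injective e]
  have hsimp : IsSimpleGroup (PSL2 F) :=
    Matrix.ProjectiveSpecialLinearGroup.rank_two_simple (by
      rw [Nat.card_eq_fintype_card]; omega)
  rcases hsimp.eq_bot_or_eq_top_of_normal H hnorm with h4 | h4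
  · exfalso
    obtain ⟨ε, m, m', heps, hm, hm'⟩ := exists_eps hodd
    obtain ⟨hmo, hm3⟩ := numbers h3 heps hm'
    obtain ⟨Ta, hTa⟩ := exists_tor hodd heps hm' hα nα
    obtain ⟨t, ht, hot⟩ := exists_gen hTa
    have h5 := h1 t (hTa.fix t ht)
    rw [h4, mem_bot] at h5
    rw [h5, orderOf_one] at hot
    omega
  · exact h4

end H65.FG
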