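import Cfsg.Agent.Lib.H65.FG1
import Cfsg.Agent.Lib.H62.PGXE
import Cfsg.Agent.Lib.H59.G8s
import Cfsg.Agent.Lib.H28.GW8A
import Cfsg.Agent.Lib.H28.GW8C

set_option autoImplicit false
set_option linter.unusedSectionVars false
set_option linter.style.haveILetI false

/-!
S1916, the conclusion: a four-group acting on a simple group with dihedral Sylow 2-subgroups.
-/

universe u

namespace H65.FG

open Matrix H45.SL2 H58.SL2Prod H17.FourGrp H17.QuatPair H50.PSLBasic H50.PSLField H62.PGX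
open Subgroup H28.Cj

local notation "PSL2" F => ProjectiveSpecialLinearGroup (Fin 2) F
local notation "PGL2" F => ProjGenLinGroup (Fin 2) F

/-- the property of `P` -/
def Gd (P : Type*) [Group P] : Prop :=
  ∀ α β : MulAut P, α * α = 1 → β * β = 1 → α * β = β * α →
    (∃ a b : P, IsPair a b ∧ α a = a ∧ α b = b) ∨ (∃ a b : P, IsPair a b ∧ β a = a ∧ β b = b) ∨
    α = β ∨ ∀ H : Subgroup P, (∀ x, α x = x → x ∈ H) → (∀ x, β x = x → x ∈ H) →
      (∀ x ∈ H, α x ∈ H) → (∀ x ∈ H, β x ∈ H) → H = ⊤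

theorem isPair_map {P Q : Type*} [Group P] [Group Q] (f : P →* Q) (hf : Function.Injective f) {a b : P}
    (h : IsPair a b) : IsPair (f a) (f b) :=
  ⟨fun h1 => h.ha (hf (by rw [h1, map_one])), fun h1 => h.hb (hf (by rw [h1, map_one])),
    fun h1 => h.hab (hf h1), by rw [← map_mul, h.haa, map_one], by rw [← map_mul, h.hbb, map_one],
    by rw [← map_mul, ← map_mul, h.hcomm]⟩

theorem Gd.of_equiv {P Q : Type*} [Group P] [Group Q] (h : Gd P) (e : Q ≃* P) : Gd Q := by
  intro α β hα hβ hc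
  set Φ := MulAut.congr e with hΦ
  have key : ∀ (γ : MulAut Q) (x : Q), (Φ γ) (e x) = e (γ x) := by
    intro γ x
    show e (γ (e.symm (e x))) = _
    rw [e.symm_apply_apply]
  have pair : ∀ γ : MulAut Q, (∃ a b : P, IsPair a b ∧ Φ γ a = a ∧ Φ γ b = b) →
      ∃ a b : Q, IsPair a b ∧ γ a = a ∧ γ b = b := by
    rintro γ ⟨a, b, hab, h1, h2⟩
    refine ⟨e.symm a, e.symm b, isPair_map e.symm.toMonoidHom e.symm.injective hab, ?_, ?_⟩
    · apply e.injective
      rw [← key, e.apply_symm_apply, h1]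
    · apply e.injective
      rw [← key, e.apply_symm_apply, h2]
  rcases h (Φ α) (Φ β) (by rw [← map_mul, hα, map_one]) (by rw [← map_mul, hβ, map_one])
    (by rw [← map_mul, ← map_mul, hc]) with h1 | h1 | h1 | h1
  · exact Or.inl (pair α h1)
  · exact Or.inr (Or.inl (pair β h1))
  · exact Or.inr (Or.inr (Or.inl (Φ.injective h1)))
  · refine Or.inr (Or.inr (Or.inr fun H h2 h3 h4 h5 => ?_))
    have h6 : H.map e.toMonoidHom = ⊤ := by
      have hm : ∀ x : Q, e x ∈ H.map e.toMonoidHom ↔ x ∈ H := by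
        intro x
        constructor
        · rintro ⟨y, hy, hxy⟩
          rwa [← e.injective hxy]
        · intro hx; exact ⟨x, hx, rfl⟩
      apply h1
      · intro x hx
        obtain ⟨x, rfl⟩ := e.surjective x
        rw [hm]
        rw [key] at hx
        exact h2 x (e.injective hx)
      · intro x hx
        obtain ⟨x, rfl⟩ := e.surjective x
        rw [hm]
        rw [key] at hx
        exact h3 x (e.injective hx)
      · intro x hx
        obtain ⟨x, rfl⟩ := e.surjective x
        rw [key, hm]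
        exact h4 x ((hm x).1 hx)
      · intro x hx
        obtain ⟨x, rfl⟩ := e.surjective x
        rw [key, hm]
        exact h5 x ((hm x).1 hx)
    rw [eq_top_iff]
    intro x _
    have h7 : e x ∈ H.map e.toMonoidHom := by rw [h6]; trivial
    obtain ⟨y, hy, hxy⟩ := h7
    rwa [← e.injective hxy]

/-! ### `PSL₂` -/

section

variable {F : Type*} [Field F] [Fintype F]

theorem pair_or_out (hodd : Odd (Fintype.card F)) (h3 : 3 < Fintype.card F) (α : MulAut (PSL2 F))
    (hα : α * α = 1) : (∃ a b : PSL2 F, IsPair a b ∧ α a = a ∧ α b = b) ∨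
      ∃ g : GL (Fin 2) F, α = psi g 1 ∧ ¬ IsSquare g.1.det := by
  haveI : Finite (PSL2 F) := inferInstanceAs (Finite (_ ⧸ _))
  obtain ⟨g, σ, rfl⟩ := H59.G8.aut_psi α
  have h2 := two_ne hodd
  by_cases hσ : σ = 1
  · subst hσ
    by_cases hs : IsSquare g.1.det
    · left
      obtain ⟨c, hc⟩ := (inner_iff g).2 hs
      by_cases hc1 : c = 1
      · subst hc1
        obtain ⟨x, y, hxy, -, -⟩ := exists_qp_fixed h2 (1 : F ≃+* F)
        refine ⟨pr x, pr y, isPair_pr h2 hxy, ?_, ?_⟩ <;> rw [hc, map_one] <;> rfl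
      · have hcc : c * c = 1 := by
          rw [hc, ← map_mul] at hα
          have h4 : c * c ∈ Subgroup.center (PSL2 F) := by
            rw [Subgroup.mem_center_iff]
            intro y
            have h5 : MulAut.conj (c * c) y = y := by rw [hα]; rfl
            rw [MulAut.conj_apply] at h5
            exact (mul_inv_eq_iff_eq_mul.1 h5).symm
          rw [H50.PSLBal.center_psl] at h4
          exact Subgroup.mem_bot.1 h4
        obtain ⟨ε, m, m', heps, hm, hm'⟩ := exists_eps hodd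
        obtain ⟨s, -, hs⟩ := (fct_top (MulEquiv.refl (PSL2 F)) rfl hodd h3 heps hm hm').exists_pair
          (mem_top c) hcc hc1
        refine ⟨c, s, hs, ?_, ?_⟩
        · rw [hc, MulAut.conj_apply, mul_inv_cancel_right]
        · rw [hc, MulAut.conj_apply, hs.hcomm, mul_inv_cancel_right]
    · right; exact ⟨g, rfl, hs⟩
  · left; exact four_of_field h2 hα hσ

theorem gd_psl (hodd : Odd (Fintype.card F)) (h3 : 3 < Fintype.card F) : Gd (PSL2 F) := by
  intro α β hα hβ hc
  rcases pair_or_out hodd h3 α hα with h | ⟨g, rfl, hg⟩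
  · exact Or.inl h
  rcases pair_or_out hodd h3 β hβ with h | ⟨h, rfl, hh⟩
  · exact Or.inr (Or.inl h)
  by_cases hne : (psi g 1 : MulAut (PSL2 F)) = psi h 1
  · exact Or.inr (Or.inr (Or.inl hne))
  · exact Or.inr (Or.inr (Or.inr fun H => gen_top hodd h3 hα hβ hc hne hg hh H))

end

/-! ### `A₇` -/

open Equiv

theorem cyc2 {σ : Perm (Fin 7)} (h2 : orderOf σ = 2) :
    ∃ n, σ.cycleType = Multiset.replicate n 2 ∧ σ.support.card = 2 * n ∧ 1 ≤ n ∧ n ≤ 3 := by
  obtain ⟨n, hn⟩ := Perm.cycleType_prime_order (σ := σ) (by rw [h2]; exact Nat.prime_two)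
  rw [h2] at hn
  have h3 : σ.cycleType.sum ≤ 7 := by
    rw [Perm.sum_cycleType]
    exact (Finset.card_le_univ _).trans (by simp)
  have h4 := Perm.sum_cycleType σ
  rw [hn, Multiset.sum_replicate, smul_eq_mul] at h3 h4
  exact ⟨n + 1, hn, by rw [← h4, mul_comm], by omega, by omega⟩

theorem conj_of_support {σ τ : Perm (Fin 7)} (hσ : orderOf σ = 2) (hτ : orderOf τ = 2)
    (h : σ.support.card = τ.support.card) : ∃ c : Perm (Fin 7), c * σ * c⁻¹ = τ := by
  obtain ⟨n, h1, h2, -⟩ := cyc2 hσ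
  obtain ⟨k, h3, h4, -⟩ := cyc2 hτ
  have h5 : n = k := by omega
  subst h5
  exact isConj_iff.1 (Perm.isConj_of_cycleType_eq (h1.trans h3.symm))

theorem s7_pair (σ : Perm (Fin 7)) (h : σ * σ = 1) :
    ∃ a b : Perm (Fin 7), IsPair a b ∧ Perm.sign a = 1 ∧ Perm.sign b = 1 ∧ σ * a = a * σ ∧ σ * b = b * σ := by
  have hred : ∀ τ : Perm (Fin 7), (∃ c : Perm (Fin 7), c * σ * c⁻¹ = τ) →
      (∃ a b : Perm (Fin 7), IsPair a b ∧ Perm.sign a = 1 ∧ Perm.sign b = 1 ∧ τ * a = a * τ ∧ τ * b = b * τ) →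
      ∃ a b : Perm (Fin 7), IsPair a b ∧ Perm.sign a = 1 ∧ Perm.sign b = 1 ∧ σ * a = a * σ ∧ σ * b = b * σ := by
    rintro τ ⟨c, rfl⟩ ⟨a, b, hab, h1, h2, h3, h4⟩
    have hs : ∀ x : Perm (Fin 7), Perm.sign (MulAut.conj c⁻¹ x) = Perm.sign x := by
      intro x
      rw [MulAut.conj_apply, inv_inv, map_mul, map_mul, map_inv, mul_comm, mul_inv_cancel_left]
    have hc : MulAut.conj c⁻¹ (c * σ * c⁻¹) = σ := by
      rw [MulAut.conj_apply]; group
    refine ⟨MulAut.conj c⁻¹ a, MulAut.conj c⁻¹ b,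
      isPair_map (MulAut.conj c⁻¹).toMonoidHom (MulAut.conj c⁻¹).injective hab, by rw [hs, h1], by rw [hs, h2], ?_, ?_⟩
    · rw [← hc, ← map_mul, ← map_mul, h3]
    · rw [← hc, ← map_mul, ← map_mul, h4]
  by_cases h1 : σ = 1
  · refine ⟨H59.G8.v0, H59.G8.w0, ⟨by decide, by decide, by decide, by decide, by decide, by decide⟩,
      by decide, by decide, ?_, ?_⟩ <;> rw [h1, one_mul, mul_one]
  have ho : orderOf σ = 2 := H5.Dihedral.orderOf_eq_two h h1
  obtain ⟨n, hn, hs, h5, h6⟩ := cyc2 ho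
  interval_cases n
  · apply hred (swap 0 1)
    · exact conj_of_support ho (H5.Dihedral.orderOf_eq_two (by decide) (by decide)) (by rw [hs]; decide)
    · exact ⟨swap 2 3 * swap 4 5, swap 2 4 * swap 3 5, ⟨by decide, by decide, by decide, by decide, by decide, by decide⟩,
        by decide, by decide, by decide, by decide⟩
  · apply hred (swap 0 1 * swap 2 3)
    · exact conj_of_support ho (H5.Dihedral.orderOf_eq_two (by decide) (by decide)) (by rw [hs]; decide)
    · exact ⟨H59.G8.v0, H59.G8.w0, ⟨by decide, by decide, by decide, by decide, by decide, by decide⟩,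
        by decide, by decide, by decide, by decide⟩
  · apply hred (swap 0 1 * swap 2 3 * swap 4 5)
    · exact conj_of_support ho (H5.Dihedral.orderOf_eq_two (by decide) (by decide)) (by rw [hs]; decide)
    · exact ⟨H59.G8.v0, H59.G8.w0, ⟨by decide, by decide, by decide, by decide, by decide, by decide⟩,
        by decide, by decide, by decide, by decide⟩

theorem gd_alt : Gd (alternatingGroup (Fin 7)) := by
  intro α β hα _ _
  left
  have h4 : 4 ≤ Fintype.card (Fin 7) := by simp
  have h6 : Fintype.card (Fin 7) ≠ 6 := by simp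
  obtain ⟨σ, rfl⟩ := H40.AutAlt.surjective_conjNormal h4 h6 α
  have h1 : σ * σ = 1 := H40.AutAlt.injective_conjNormal h4 (by rw [map_mul, hα, map_one])
  obtain ⟨a, b, hab, ha, hb, h2, h3⟩ := s7_pair σ h1
  refine ⟨⟨a, Perm.mem_alternatingGroup.2 ha⟩, ⟨b, Perm.mem_alternatingGroup.2 hb⟩,
    ⟨fun h => hab.ha (congrArg Subtype.val h), fun h => hab.hb (congrArg Subtype.val h),
      fun h => hab.hab (congrArg Subtype.val h), Subtype.ext hab.haa, Subtype.ext hab.hbb,
      Subtype.ext hab.hcomm⟩, ?_, ?_⟩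
  · apply Subtype.ext
    show σ * a * σ⁻¹ = a
    rw [h2, mul_inv_cancel_right]
  · apply Subtype.ext
    show σ * b * σ⁻¹ = b
    rw [h3, mul_inv_cancel_right]

theorem gd_known {P : Type*} [Group P] (h : H28.GW8.Known P) : Gd P := by
  rcases h with ⟨F, i1, i2, h1, h2, ⟨e⟩⟩ | ⟨⟨e⟩⟩
  · exact (gd_psl h1 h2).of_equiv e
  · exact gd_alt.of_equiv e

/-! ### groups -/

theorem no_pair {C : Type*} [Group C] [Finite C] (h : ∀ R : Sylow 2 C, IsCyclic R) {a b : C}
    (hab : IsPair a b) : False := by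
  haveI : Fact (Nat.Prime 2) := ⟨Nat.prime_two⟩
  have h1 : IsPGroup 2 (four a b hab) := IsPGroup.of_card (n := 2) (by rw [card_four]; norm_num)
  obtain ⟨R, hR⟩ := h1.exists_le_sylow
  haveI := h R
  haveI := isKlein_four hab
  have h2 : IsCyclic (four a b hab) := by
    apply isCyclic_of_injective (Subgroup.inclusion hR) (inclusion_injective hR)
  exact IsKleinFour.not_isCyclic h2

theorem main (gw : H28.GW8.GWThm.{u}) {G : Type u} [Group G] [Finite G] (L : Subgroup G) (hL : IsSimpleGroup L)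
    (hLn : ¬ IsMulCommutative L)
    (hD : ∀ P : Sylow 2 L, ∃ n : ℕ, Nonempty (↥(P : Subgroup L) ≃* DihedralGroup n))
    (a b : G) (ha : orderOf a = 2) (hb : orderOf b = 2) (hc : a * b = b * a)
    (haL : a ∈ Subgroup.normalizer (L : Set G)) (hbL : b ∈ Subgroup.normalizer (L : Set G))
    (hCa : ∀ R : Sylow 2 ↥(L ⊓ Subgroup.centralizer ({a} : Set G)), IsCyclic R)
    (hCb : ∀ R : Sylow 2 ↥(L ⊓ Subgroup.centralizer ({b} : Set G)), IsCyclic R)
    (hgen : ¬ L ≤ Subgroup.closure ({a, b} : Set G) ⊔ (L ⊓ Subgroup.centralizer ({a} : Set G)) ⊔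
      (L ⊓ Subgroup.centralizer ({b} : Set G))) :
    a * b ∈ Subgroup.centralizer (L : Set G) := by
  have hns : ¬ Group.IsSolvable L := by
    intro h
    apply hLn
    haveI := hL
    exact ⟨⟨fun x y => IsSimpleGroup.comm_iff_isSolvable.2 h x y⟩⟩
  have haa : a * a = 1 := by rw [← pow_two, ← ha, pow_orderOf_eq_one]
  have hbb : b * b = 1 := by rw [← pow_two, ← hb, pow_orderOf_eq_one]
  have hDS : H28.GW8.DS L := by
    obtain ⟨P⟩ : Nonempty (Sylow 2 L) := inferInstance
    obtain ⟨n, ⟨e⟩⟩ := hD P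
    refine ⟨P, n, ?_, ⟨e⟩⟩
    by_contra hn
    have hn' : n = 0 ∨ n = 1 := by omega
    rcases hn' with rfl | rfl
    · haveI : Finite (DihedralGroup 0) := Finite.of_equiv _ e.toEquiv
      have h1 : Nat.card (DihedralGroup 0) = 2 * 0 := DihedralGroup.nat_card
      have h2 : 0 < Nat.card (DihedralGroup 0) := Nat.card_pos
      omega
    · apply hns
      apply H28.GW8.solvable_of_cyclic P
      haveI : Fact (Nat.Prime 2) := ⟨Nat.prime_two⟩
      apply isCyclic_of_prime_card (p := 2)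
      rw [Nat.card_congr e.toEquiv, DihedralGroup.nat_card]
  have hgd := gd_known (gw L hL hDS)
  set α : MulAut L := L.normalizerMonoidHom ⟨a, haL⟩ with hα
  set β : MulAut L := L.normalizerMonoidHom ⟨b, hbL⟩ with hβ
  have eα : ∀ x : L, ((α x : L) : G) = a * x * a⁻¹ := fun x => rfl
  have eβ : ∀ x : L, ((β x : L) : G) = b * x * b⁻¹ := fun x => rfl
  have fα : ∀ x : L, α x = x ↔ (x : G) ∈ Subgroup.centralizer ({a} : Set G) := by
    intro x
    rw [Subtype.ext_iff, eα, mul_inv_eq_iff_eq_mul, mem_centralizer_singleton_iff, eq_comm]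
  have fβ : ∀ x : L, β x = x ↔ (x : G) ∈ Subgroup.centralizer ({b} : Set G) := by
    intro x
    rw [Subtype.ext_iff, eβ, mul_inv_eq_iff_eq_mul, mem_centralizer_singleton_iff, eq_comm]
  have hnp : ∀ c : G, (∀ R : Sylow 2 ↥(L ⊓ Subgroup.centralizer ({c} : Set G)), IsCyclic R) →
      ∀ x y : L, IsPair x y → (x : G) ∈ Subgroup.centralizer ({c} : Set G) →
        (y : G) ∈ Subgroup.centralizer ({c} : Set G) → False := by
    intro c hcc x y hxy hx hy
    have e1 := congrArg Subtype.val hxy.haa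
    have e2 := congrArg Subtype.val hxy.hbb
    have e3 := congrArg Subtype.val hxy.hcomm
    have n1 : (x : G) ≠ 1 := fun h => hxy.ha (Subtype.ext h)
    have n2 : (y : G) ≠ 1 := fun h => hxy.hb (Subtype.ext h)
    have n3 : (x : G) ≠ y := fun h => hxy.hab (Subtype.ext h)
    exact no_pair hcc (a := ⟨x, x.2, hx⟩) (b := ⟨y, y.2, hy⟩)
      ⟨fun h => n1 (congrArg Subtype.val h), fun h => n2 (congrArg Subtype.val h),
        fun h => n3 (Subtype.mk.inj h), Subtype.ext e1, Subtype.ext e2, Subtype.ext e3⟩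
  rcases hgd α β (by rw [hα, ← map_mul, ← map_one (L.normalizerMonoidHom)]; congr 1; exact Subtype.ext haa)
    (by rw [hβ, ← map_mul, ← map_one (L.normalizerMonoidHom)]; congr 1; exact Subtype.ext hbb)
    (by rw [hα, hβ, ← map_mul, ← map_mul]; congr 1; exact Subtype.ext hc) with h | h | h | h
  · obtain ⟨x, y, hxy, hx, hy⟩ := h
    exact (hnp a hCa x y hxy ((fα x).1 hx) ((fα y).1 hy)).elim
  · obtain ⟨x, y, hxy, hx, hy⟩ := h
    exact (hnp b hCb x y hxy ((fβ x).1 hx) ((fβ y).1 hy)).elim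
  · rw [mem_centralizer_iff]
    intro x hx
    have h1 : a * x * a⁻¹ = b * x * b⁻¹ := by
      rw [← eα ⟨x, hx⟩, h, eβ]
    have h2 : a⁻¹ = a := inv_eq_of_mul_eq_one_left haa
    have h3 : b⁻¹ = b := inv_eq_of_mul_eq_one_left hbb
    rw [h2, h3] at h1
    calc x * (a * b) = a * (a * x * a) * b := by
          rw [show a * (a * x * a) * b = (a * a) * x * (a * b) by group, haa, one_mul]
      _ = a * (b * x * b) * b := by rw [h1]
      _ = a * b * x * (b * b) := by group
      _ = a * b * x := by rw [hbb, mul_one]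
  · exfalso
    set K := (L ⊓ Subgroup.centralizer ({a} : Set G)) ⊔ (L ⊓ Subgroup.centralizer ({b} : Set G)) with hK
    have hKL : K ≤ L := sup_le inf_le_left inf_le_left
    -- conjugation
    have hcj : ∀ c : G, c ∈ Subgroup.normalizer (L : Set G) → c * a = a * c → c * b = b * c →
        ∀ x ∈ K, c * x * c⁻¹ ∈ K := by
      intro c hcL hca hcb x hx
      have h1 : ∀ d : G, c * d = d * c → ∀ y ∈ L ⊓ Subgroup.centralizer ({d} : Set G),
          c * y * c⁻¹ ∈ L ⊓ Subgroup.centralizer ({d} : Set G) := by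
        intro d hd y hy
        refine ⟨(mem_normalizer_iff.1 hcL y).1 hy.1, ?_⟩
        have h2 := mem_centralizer_singleton_iff.1 hy.2
        refine mem_centralizer_singleton_iff.2 ?_
        have h3 : c⁻¹ * d = d * c⁻¹ := by
          rw [inv_mul_eq_iff_eq_mul, ← mul_assoc, hd, mul_inv_cancel_right]
        calc c * y * c⁻¹ * d = c * y * (c⁻¹ * d) := by group
          _ = c * (y * d) * c⁻¹ := by rw [h3]; group
          _ = c * (d * y) * c⁻¹ := by rw [h2]
          _ = (c * d) * y * c⁻¹ := by group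
          _ = d * (c * y * c⁻¹) := by rw [hd]; group
      have h4 : K ≤ K.comap (MulAut.conj c).toMonoidHom := by
        rw [hK]
        apply sup_le
        · intro y hy
          exact mem_sup_left (h1 a hca y hy)
        · intro y hy
          exact mem_sup_right (h1 b hcb y hy)
      exact h4 hx
    have h5 := h (K.subgroupOf L)
      (fun x hx => mem_subgroupOf.2 (mem_sup_left ⟨x.2, (fα x).1 hx⟩))
      (fun x hx => mem_subgroupOf.2 (mem_sup_right ⟨x.2, (fβ x).1 hx⟩))
      (fun x hx => by rw [mem_subgroupOf, eα]; exact hcj a haL rfl hc _ (mem_subgroupOf.1 hx))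
      (fun x hx => by rw [mem_subgroupOf, eβ]; exact hcj b hbL hc.symm rfl _ (mem_subgroupOf.1 hx))
    rw [subgroupOf_eq_top] at h5
    apply hgen
    refine h5.trans ?_
    rw [hK, sup_assoc]
    exact le_sup_right

end H65.FG
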