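import Mathlib

/-! T-GW4, [FINISH arithmetic] of readme 71. -/

namespace H65.GWArith

/-- From `w^2 N = m^2 (4w+1)(2w+1)` and `gcd (N, m) = 1`: `N = (4m+d)(2m+d)` with `d = ±1`. -/
theorem shape (N m : ℕ) (hcop : Nat.Coprime N m) (w : ℤ) (hw : w ≠ 0)
    (h : w ^ 2 * (N : ℤ) = (m : ℤ) ^ 2 * ((4 * w + 1) * (2 * w + 1))) :
    ∃ d : ℤ, (d = 1 ∨ d = -1) ∧ (N : ℤ) = (4 * m + d) * (2 * m + d) := by
  have hc : IsCoprime w ((4 * w + 1) * (2 * w + 1)) := by
    refine IsCoprime.mul_right ?_ ?_
    · exact ⟨-4, 1, by ring⟩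
    · exact ⟨-2, 1, by ring⟩
  have hc2 : IsCoprime (w ^ 2) ((4 * w + 1) * (2 * w + 1)) := hc.pow_left
  have hdvd : w ^ 2 ∣ (m : ℤ) ^ 2 := by
    apply hc2.dvd_of_dvd_mul_right
    rw [← h]
    exact Dvd.intro _ rfl
  have hdvd1 : w ∣ (m : ℤ) := (Int.pow_dvd_pow_iff two_ne_zero).1 hdvd
  obtain ⟨d, hd⟩ := hdvd1
  have hw2 : w ^ 2 ≠ 0 := pow_ne_zero _ hw
  have hNd : (N : ℤ) = d ^ 2 * ((4 * w + 1) * (2 * w + 1)) := by
    apply mul_left_cancel₀ hw2
    rw [h, hd]; ring
  have hdN : d ∣ (N : ℤ) := by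
    rw [hNd]; exact Dvd.intro _ (by ring : d * (d * ((4 * w + 1) * (2 * w + 1))) = _)
  have hdm : d ∣ (m : ℤ) := by rw [hd]; exact Dvd.intro_left _ rfl
  have hcopZ : IsCoprime (N : ℤ) (m : ℤ) := Nat.isCoprime_iff_coprime.2 hcop
  have hdu : IsUnit d := hcopZ.isUnit_of_dvd' hdN hdm
  have hd1 : d = 1 ∨ d = -1 := Int.isUnit_iff.1 hdu
  refine ⟨d, hd1, ?_⟩
  rw [hNd, hd]
  rcases hd1 with h1 | h1 <;> subst h1 <;> ring

set_option maxHeartbeats 1600000 in
/-- The final arithmetical contradiction of the case `|S| = 4` of Gorenstein-Walter. -/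
theorem finish (N m p k tau q : ℕ) (e : ℤ) (he : e = 1 ∨ e = -1) (hp3 : 3 ≤ p) (hpo : Odd p)
    (hko : Odd k) (hk1 : 1 < k) (hk : 2 * k ≤ p + 1) (htau : 0 < tau) (hptau : p ∣ tau)
    (hm : m = p * k * tau) (hq : (q : ℤ) = 4 * tau + e) (hqpp : IsPrimePow q) (hqN : q ∣ N)
    (hN : 0 < N) (hcop : Nat.Coprime N m) (w : ℤ) (hw : w ≠ 0)
    (h : w ^ 2 * (N : ℤ) = (m : ℤ) ^ 2 * ((4 * w + 1) * (2 * w + 1))) : False := by
  obtain ⟨d, hd1, hNd⟩ := shape N m hcop w hw h
  obtain ⟨r, hr⟩ := hptau
  have hr0 : 0 < r := by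
    rcases Nat.eq_zero_or_pos r with h0 | h0
    · subst h0; omega
    · exact h0
  have hpZ : (3 : ℤ) ≤ p := by exact_mod_cast hp3
  have hkZ : (1 : ℤ) < k := by exact_mod_cast hk1
  have hk2 : 2 * (k : ℤ) ≤ p + 1 := by exact_mod_cast hk
  have hrZ : (1 : ℤ) ≤ r := by exact_mod_cast hr0
  have htZ : (tau : ℤ) = p * r := by rw [hr]; push_cast; ring
  have hq4 : (4 * (p : ℤ) - 1) ≤ q := by
    rw [hq, htZ]
    rcases he with h1 | h1 <;> subst h1 <;> nlinarith
  have hmZ : (m : ℤ) = p * k * tau := by rw [hm]; push_cast; ring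
  -- `q` divides one of the factors
  have hqZ : (q : ℤ) ∣ (4 * m + d) * (2 * m + d) := by
    rw [← hNd]; exact_mod_cast hqN
  have hcopf : IsCoprime (4 * (m : ℤ) + d) (2 * m + d) := by
    rcases hd1 with h1 | h1 <;> subst h1
    · exact ⟨-1, 2, by ring⟩
    · exact ⟨1, -2, by ring⟩
  have hor : (q : ℤ) ∣ (4 * m + d) ∨ (q : ℤ) ∣ (2 * m + d) := by
    obtain ⟨l, a, hl, ha, hla⟩ := hqpp
    have hlp : Prime (l : ℤ) := Nat.prime_iff_prime_int.1 (Nat.prime_iff.2 hl)
    have hqe : (q : ℤ) = (l : ℤ) ^ a := by rw [← hla]; push_cast; ring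
    rw [hqe] at hqZ ⊢
    by_cases hla' : (l : ℤ) ∣ (4 * m + d)
    · left
      have : IsCoprime ((l : ℤ) ^ a) (2 * m + d) := by
        apply IsCoprime.pow_left
        rw [Prime.coprime_iff_not_dvd hlp]
        intro hcon
        exact hlp.not_isUnit (hcopf.isUnit_of_dvd' hla' hcon)
      exact this.dvd_of_dvd_mul_right hqZ
    · right
      have : IsCoprime ((l : ℤ) ^ a) (4 * m + d) := by
        apply IsCoprime.pow_left
        rw [Prime.coprime_iff_not_dvd hlp]
        exact hla'
      exact this.dvd_of_dvd_mul_left hqZ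
  have hee : e * e = 1 := by rcases he with h1 | h1 <;> subst h1 <;> norm_num
  have hpk : Odd ((p : ℤ) * k) := by
    have := hpo.mul hko
    exact_mod_cast this
  have hpk_pos : (0 : ℤ) < p * k := by positivity
  have hpk9 : (6 : ℤ) ≤ p * k := by nlinarith
  have hqpos : (0 : ℤ) < q := by linarith
  have hqp : (q : ℤ) = p * (4 * r) + e := by rw [hq, htZ]; ring
  rcases hor with hA | hB
  · -- q | pk - ed
    have h1 : (q : ℤ) ∣ p * k - e * d := by
      have h2 : (p : ℤ) * k - e * d = q * (p * k) * e - e * (4 * m + d) + (1 - e * e) * (p * k) := by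
        rw [hq, hmZ]; ring
      rw [h2, hee]
      have : q * (p * k) * e - e * (4 * m + d) + (1 - 1) * ((p : ℤ) * k)
          = q * ((p * k) * e) - e * (4 * m + d) := by ring
      rw [this]
      exact dvd_sub (Dvd.intro _ rfl) (Dvd.dvd.mul_left hA _)
    obtain ⟨c, hc⟩ := h1
    have hcpos : 0 < c := by
      by_contra hcon
      push Not at hcon
      have : (q : ℤ) * c ≤ 0 := by nlinarith
      rcases he with h1 | h1 <;> rcases hd1 with h2 | h2 <;> subst h1 <;> subst h2 <;> linarith
    -- c ≡ -d mod p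
    have hpc : (p : ℤ) ∣ c + d := by
      have h3 : c + d = e * (p * (k - 4 * r * c)) + (1 - e * e) * c + (1 - e * e) * d := by
        have h4 : (p : ℤ) * k = q * c + e * d := by linarith
        have h5 : e * ((p : ℤ) * (k - 4 * r * c)) = e * (p * k) - e * (p * (4 * r)) * c := by ring
        rw [h5, h4, hqp]; ring
      rw [h3, hee]
      have : e * ((p : ℤ) * (k - 4 * r * c)) + (1 - 1) * c + (1 - 1) * d
        = p * (e * (k - 4 * r * c)) := by ring
      rw [this]
      exact Dvd.intro _ rfl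
    have hbig : (p : ℤ) - 1 ≤ c := by
      obtain ⟨u, hu⟩ := hpc
      by_contra hcon
      push Not at hcon
      rcases hd1 with h2 | h2 <;> subst h2
      · have : (0 : ℤ) < p * u := by linarith
        have hu1 : 0 < u := by
          by_contra h6; push Not at h6; nlinarith
        nlinarith
      · -- c - 1 = p u, c < p - 1 and c > 0 so u = 0, c = 1
        have hu0 : u = 0 := by
          have hlt : p * u < (p : ℤ) * 1 := by linarith
          have h7 : u < 1 := lt_of_mul_lt_mul_left hlt (by linarith)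
          have hge : (p : ℤ) * (-1) < p * u := by linarith
          have h8 : -1 < u := lt_of_mul_lt_mul_left hge (by linarith)
          omega
        subst hu0
        have hc1 : c = 1 := by linarith
        subst hc1
        -- pk + e = q = 4 tau + e
        have h9 : (p : ℤ) * k = 4 * tau := by
          have := hc; rw [hq] at this; linarith
        rw [h9] at hpk
        have h10 : Even (4 * (tau : ℤ)) := ⟨2 * tau, by ring⟩
        exact (Int.not_even_iff_odd.2 hpk) h10
    have h11 : (q : ℤ) * c ≤ p * k + 1 := by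
      rw [← hc]
      rcases he with h1 | h1 <;> rcases hd1 with h2 | h2 <;> subst h1 <;> subst h2 <;> linarith
    have h12 : (4 * (p : ℤ) - 1) * (p - 1) ≤ q * c := by
      apply mul_le_mul hq4 hbig (by linarith) (by linarith)
    nlinarith
  · have h1 : (q : ℤ) ∣ p * k - 2 * e * d := by
      have h2 : (p : ℤ) * k - 2 * e * d
          = q * (p * k) * e - 2 * e * (2 * m + d) + (1 - e * e) * (p * k) := by
        rw [hq, hmZ]; ring
      rw [h2, hee]
      have : q * (p * k) * e - 2 * e * (2 * m + d) + (1 - 1) * ((p : ℤ) * k)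
          = q * ((p * k) * e) - 2 * e * (2 * m + d) := by ring
      rw [this]
      exact dvd_sub (Dvd.intro _ rfl) (Dvd.dvd.mul_left hB _)
    obtain ⟨c, hc⟩ := h1
    have hcpos : 0 < c := by
      by_contra hcon
      push Not at hcon
      have : (q : ℤ) * c ≤ 0 := by nlinarith
      rcases he with h1 | h1 <;> rcases hd1 with h2 | h2 <;> subst h1 <;> subst h2 <;> linarith
    have hpc : (p : ℤ) ∣ c + 2 * d := by
      have h3 : c + 2 * d
          = e * (p * (k - 4 * r * c)) + (1 - e * e) * c + (1 - e * e) * (2 * d) := by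
        have h4 : (p : ℤ) * k = q * c + 2 * e * d := by linarith
        have h5 : e * ((p : ℤ) * (k - 4 * r * c)) = e * (p * k) - e * (p * (4 * r)) * c := by ring
        rw [h5, h4, hqp]; ring
      rw [h3, hee]
      have : e * ((p : ℤ) * (k - 4 * r * c)) + (1 - 1) * c + (1 - 1) * (2 * d)
        = p * (e * (k - 4 * r * c)) := by ring
      rw [this]
      exact Dvd.intro _ rfl
    have hcodd : Odd c := by
      have h6 : Odd ((p : ℤ) * k - 2 * e * d) := by
        have : Even (2 * e * d) := ⟨e * d, by ring⟩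
        exact hpk.sub_even this
      rw [hc] at h6
      exact (Int.odd_mul.1 h6).2
    have hbig : (p : ℤ) - 2 ≤ c := by
      obtain ⟨u, hu⟩ := hpc
      by_contra hcon
      push Not at hcon
      rcases hd1 with h2 | h2 <;> subst h2
      · have : (0 : ℤ) < p * u := by linarith
        have hu1 : 0 < u := by
          by_contra h6; push Not at h6; nlinarith
        nlinarith
      · have hu0 : u = 0 := by
          have hlt : p * u < (p : ℤ) * 1 := by linarith
          have h7 : u < 1 := lt_of_mul_lt_mul_left hlt (by linarith)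
          have hge : (p : ℤ) * (-1) < p * u := by linarith
          have h8 : -1 < u := lt_of_mul_lt_mul_left hge (by linarith)
          omega
        subst hu0
        have hc1 : c = 2 := by linarith
        subst hc1
        exact absurd hcodd (by decide)
    have h11 : (q : ℤ) * c ≤ p * k + 2 := by
      rw [← hc]
      rcases he with h1 | h1 <;> rcases hd1 with h2 | h2 <;> subst h1 <;> subst h2 <;> linarith
    have h12 : (4 * (p : ℤ) - 1) * (p - 2) ≤ q * c := by
      apply mul_le_mul hq4 hbig (by linarith) (by linarith)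
    nlinarith

end H65.GWArith
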