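import Mathlib
import Cfsg.Agent.Lib.H65.GWP9

set_option autoImplicit false
set_option linter.style.haveILetI false

/-! T-GW8, PATH COUNT: the final contradiction for dihedral Sylow 2-subgroups of order at least 8. -/

namespace H65.GWP2

open Subgroup H28.Cj MulAction Matrix
open scoped H98.Moebius

/-- numerics, `ε = -1` -/
theorem num8_minus (p τ j I : ℤ) (hp : 3 ≤ p) (hτ : 4 * p ≤ τ) (hj : 2 * j = (τ - 1) * (τ - 2))
    (hI : 2 * I ≤ 3 * (p * (p + 1) * τ) ^ 2)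
    (h : (p - 1) ^ 2 * j ^ 2 * (j - 1) ≤ I * (p * (p + 1))) : False := by
  have hp0 : 0 < p := by linarith
  have hp1 : 0 < p - 1 := by linarith
  have hpp : 0 < p * (p + 1) := by positivity
  have hτ0 : 0 < τ := by linarith
  -- 8 (j - 1) ≥ 3 τ²
  have hj1 : 3 * τ ^ 2 ≤ 8 * (j - 1) := by nlinarith
  have hj0 : 3 * τ ^ 2 ≤ 8 * j := by linarith
  have hjp : 0 < j := by nlinarith
  have h1 : (p - 1) ^ 2 * (3 * τ ^ 2) ^ 2 * (3 * τ ^ 2) ≤ (p - 1) ^ 2 * (8 * j) ^ 2 * (8 * (j - 1)) := by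
    have a0 : 0 ≤ 3 * τ ^ 2 := by positivity
    apply mul_le_mul _ hj1 a0 (by positivity)
    apply mul_le_mul_of_nonneg_left _ (by positivity)
    exact pow_le_pow_left₀ a0 hj0 2
  have h2 : 2 * ((p - 1) ^ 2 * j ^ 2 * (j - 1)) ≤ 3 * (p * (p + 1) * τ) ^ 2 * (p * (p + 1)) := by
    calc 2 * ((p - 1) ^ 2 * j ^ 2 * (j - 1)) ≤ 2 * (I * (p * (p + 1))) := by linarith
      _ = (2 * I) * (p * (p + 1)) := by ring
      _ ≤ _ := mul_le_mul_of_nonneg_right hI hpp.le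
  have h3 : 27 * (p - 1) ^ 2 * τ ^ 4 * τ ^ 2 ≤ 768 * p ^ 3 * (p + 1) ^ 3 * τ ^ 2 := by
    calc 27 * (p - 1) ^ 2 * τ ^ 4 * τ ^ 2 = (p - 1) ^ 2 * (3 * τ ^ 2) ^ 2 * (3 * τ ^ 2) := by ring
      _ ≤ _ := h1
      _ = 256 * (2 * ((p - 1) ^ 2 * j ^ 2 * (j - 1))) := by ring
      _ ≤ 256 * (3 * (p * (p + 1) * τ) ^ 2 * (p * (p + 1))) := by linarith
      _ = _ := by ring
  have hτ2 : 0 < τ ^ 2 := by positivity
  have h4 : 27 * (p - 1) ^ 2 * τ ^ 4 ≤ 768 * p ^ 3 * (p + 1) ^ 3 := le_of_mul_le_mul_right h3 hτ2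
  have h5 : (4 * p) ^ 4 ≤ τ ^ 4 := pow_le_pow_left₀ (by linarith) hτ 4
  have h6 : 27 * (p - 1) ^ 2 * (4 * p) ^ 4 ≤ 768 * p ^ 3 * (p + 1) ^ 3 := by
    refine le_trans ?_ h4
    apply mul_le_mul_of_nonneg_left h5 (by positivity)
  have hp3 : 0 < 256 * p ^ 3 := by positivity
  have h8 : 27 * p * (p - 1) ^ 2 ≤ 3 * (p + 1) ^ 3 := by
    apply le_of_mul_le_mul_right _ hp3
    calc 27 * p * (p - 1) ^ 2 * (256 * p ^ 3) = 27 * (p - 1) ^ 2 * (4 * p) ^ 4 := by ring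
      _ ≤ 768 * p ^ 3 * (p + 1) ^ 3 := h6
      _ = 3 * (p + 1) ^ 3 * (256 * p ^ 3) := by ring
  obtain ⟨r, rfl⟩ : ∃ r, p = r + 3 := ⟨p - 3, by ring⟩
  have hr : 0 ≤ r := by linarith
  have : 0 < 24 * r ^ 3 + 153 * r ^ 2 + 288 * r + 132 := by positivity
  nlinarith

/-- numerics, `ε = 1` -/
theorem num8_plus (p τ j I : ℤ) (hp : 3 ≤ p) (hτ : 4 * p ≤ τ) (hj : 2 * j = (τ + 1) * (τ + 2))
    (hI : 2 * I ≤ 3 * (p * (p + 1) * τ) ^ 2)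
    (h : (p - 1) ^ 2 * j ^ 2 * (p * (j - 1) - (τ + 1) * (τ + 1 - 1)) ≤ p * (I * (p * (p + 1)))) :
    False := by
  have hp0 : 0 < p := by linarith
  have hp1 : 0 < p - 1 := by linarith
  have hp2 : 0 < p - 2 := by linarith
  have hpp : 0 < p * (p + 1) := by positivity
  have hτ0 : 0 < τ := by linarith
  have hj0 : τ ^ 2 ≤ 2 * j := by nlinarith
  have hjp : 0 < j := by nlinarith
  have h8 : τ ^ 2 * (p - 2) ≤ 2 * (p * (j - 1) - (τ + 1) * (τ + 1 - 1)) := by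
    have e : 2 * (p * (j - 1) - (τ + 1) * (τ + 1 - 1)) = p * (2 * j - 2) - 2 * ((τ + 1) * τ) := by ring
    rw [e, hj]; nlinarith
  have h1 : (p - 1) ^ 2 * (τ ^ 2) ^ 2 * (τ ^ 2 * (p - 2)) ≤
      (p - 1) ^ 2 * (2 * j) ^ 2 * (2 * (p * (j - 1) - (τ + 1) * (τ + 1 - 1))) := by
    have a0 : 0 ≤ τ ^ 2 := by positivity
    apply mul_le_mul _ h8 (by positivity) (by positivity)
    apply mul_le_mul_of_nonneg_left _ (by positivity)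
    exact pow_le_pow_left₀ a0 hj0 2
  have h2 : 2 * ((p - 1) ^ 2 * j ^ 2 * (p * (j - 1) - (τ + 1) * (τ + 1 - 1))) ≤
      p * (3 * (p * (p + 1) * τ) ^ 2 * (p * (p + 1))) := by
    calc 2 * ((p - 1) ^ 2 * j ^ 2 * (p * (j - 1) - (τ + 1) * (τ + 1 - 1)))
        ≤ 2 * (p * (I * (p * (p + 1)))) := by linarith
      _ = p * ((2 * I) * (p * (p + 1))) := by ring
      _ ≤ _ := mul_le_mul_of_nonneg_left (mul_le_mul_of_nonneg_right hI hpp.le) hp0.le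
  have h3 : (p - 1) ^ 2 * (p - 2) * τ ^ 4 * τ ^ 2 ≤ 12 * p ^ 4 * (p + 1) ^ 3 * τ ^ 2 := by
    calc (p - 1) ^ 2 * (p - 2) * τ ^ 4 * τ ^ 2 = (p - 1) ^ 2 * (τ ^ 2) ^ 2 * (τ ^ 2 * (p - 2)) := by ring
      _ ≤ _ := h1
      _ = 4 * (2 * ((p - 1) ^ 2 * j ^ 2 * (p * (j - 1) - (τ + 1) * (τ + 1 - 1)))) := by ring
      _ ≤ 4 * (p * (3 * (p * (p + 1) * τ) ^ 2 * (p * (p + 1)))) := by linarith
      _ = _ := by ring
  have hτ2 : 0 < τ ^ 2 := by positivity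
  have h4 : (p - 1) ^ 2 * (p - 2) * τ ^ 4 ≤ 12 * p ^ 4 * (p + 1) ^ 3 := le_of_mul_le_mul_right h3 hτ2
  have h5 : (4 * p) ^ 4 ≤ τ ^ 4 := pow_le_pow_left₀ (by linarith) hτ 4
  have h6 : (p - 1) ^ 2 * (p - 2) * (4 * p) ^ 4 ≤ 12 * p ^ 4 * (p + 1) ^ 3 := by
    refine le_trans ?_ h4
    apply mul_le_mul_of_nonneg_left h5 (by positivity)
  have hp4 : 0 < 4 * p ^ 4 := by positivity
  have h10 : 64 * (p - 1) ^ 2 * (p - 2) ≤ 3 * (p + 1) ^ 3 := by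
    apply le_of_mul_le_mul_right _ hp4
    calc 64 * (p - 1) ^ 2 * (p - 2) * (4 * p ^ 4) = (p - 1) ^ 2 * (p - 2) * (4 * p) ^ 4 := by ring
      _ ≤ 12 * p ^ 4 * (p + 1) ^ 3 := h6
      _ = 3 * (p + 1) ^ 3 * (4 * p ^ 4) := by ring
  obtain ⟨r, rfl⟩ : ∃ r, p = r + 3 := ⟨p - 3, by ring⟩
  have hr : 0 ≤ r := by linarith
  have : 0 < 61 * r ^ 3 + 284 * r ^ 2 + 368 * r + 64 := by positivity
  nlinarith

variable {G : Type*} [Group G] [Finite G] {p : ℕ} [hp : Fact p.Prime] {X0 : Subgroup G}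
  {Q Z : G → Subgroup G}

variable {F : Type*} [Field F] [Finite F] [DecidableEq F] {L : Subgroup G}
  {σ : L →* ProjGenLinGroup (Fin 2) F}

/-- **the path count for `|S| ≥ 8`**: `q = τ + ε`, `|J| = (τ+ε)(τ+2ε)/2`, `p ∣ τ`, `τ ≥ 4p`,
`n_I ≤ (3/2) (p(p+1)τ)²` -/
theorem final8 (D : LDat p X0 Z L σ) (C : Conf p X0 Q Z) (hp3 : 3 ≤ p) (τ : ℕ) (ε : ℤ)
    (hε : ε = 1 ∨ ε = -1) (hpτ : p ∣ τ) (h4 : 4 * p ≤ τ) (hF : (Nat.card F : ℤ) = τ + ε)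
    (hj : 2 * ((J X0).ncard : ℤ) = (τ + ε) * (τ + 2 * ε))
    (hI : 2 * {s : G | Iv s}.ncard ≤ 3 * (p * (p + 1) * τ) ^ 2) : False := by
  have hIZ : 2 * ({s : G | Iv s}.ncard : ℤ) ≤ 3 * (p * (p + 1) * τ) ^ 2 := by exact_mod_cast hI
  have h4Z : 4 * (p : ℤ) ≤ τ := by exact_mod_cast h4
  have hp3Z : (3 : ℤ) ≤ p := by exact_mod_cast hp3
  rcases hε with rfl | rfl
  · have hF' : Nat.card F = τ + 1 := by exact_mod_cast hF
    have h1 := path_plus D C hp3 (by rw [hF']; simpa using hpτ)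
    rw [hF] at h1
    exact num8_plus p τ (J X0).ncard {s : G | Iv s}.ncard hp3Z h4Z (by rw [hj]; ring) hIZ h1
  · have hF' : Nat.card F + 1 = τ := by
      have : (Nat.card F : ℤ) + 1 = τ := by rw [hF]; ring
      exact_mod_cast this
    have h1 := path_minus D C hp3 (by rw [hF']; exact hpτ)
    exact num8_minus p τ (J X0).ncard {s : G | Iv s}.ncard hp3Z h4Z (by rw [hj]; ring) hIZ h1

end H65.GWP2
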