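import Cfsg.Agent.Lib.H57.Mc5

set_option autoImplicit false
set_option linter.unusedVariables false

/-! S5316, pieces EV and EV5: eigenvalues on the lower central factors of a group of maximal class. -/

namespace H65.MXEV

open Subgroup H67.HallPetrescu H57.Mc
open scoped commutatorElement

/-- bilinearity with central commutator -/
theorem comm_zz {Q : Type*} [Group Q] {z g w t : Q} (l m : ℤ) (hk : ∀ x : Q, Commute ⁅z, g⁆ x)
    (hw : ∀ x : Q, Commute w x) (ht : Commute z t) : ⁅z ^ l * w, g ^ m * t⁆ = ⁅z, g⁆ ^ (l * m) := by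
  set k : Q := ⁅z, g⁆ with hkdef
  have h1 : g⁻¹ * z * g = k * z := by
    have h2 : z * g = k * g * z := by rw [hkdef, commutatorElement_def]; group
    calc g⁻¹ * z * g = g⁻¹ * (z * g) := by rw [mul_assoc]
      _ = g⁻¹ * (k * g * z) := by rw [h2]
      _ = g⁻¹ * (g * k * z) := by rw [(hk g).eq]
      _ = k * z := by group
  have h2 : g⁻¹ * z ^ l * g = k ^ l * z ^ l := by
    have h3 : (g⁻¹ * z * g) ^ l = g⁻¹ * z ^ l * g := by
      have := conj_zpow (i := l) (a := g⁻¹) (b := z)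
      rwa [inv_inv] at this
    rw [← h3, h1, (hk z).mul_zpow]
  have hkl : ∀ x : Q, Commute (k ^ l) x := fun x => (hk x).zpow_left l
  have h3 : z ^ l * g * (z ^ l)⁻¹ = k ^ l * g := by
    have h4 : z ^ l * g = g * (k ^ l * z ^ l) := by rw [← h2]; group
    rw [h4, ← mul_assoc, ← (hkl g).eq]; group
  have h4 : z ^ l * g ^ m * (z ^ l)⁻¹ = k ^ (l * m) * g ^ m := by
    have h5 := conj_zpow (i := m) (a := z ^ l) (b := g)
    rw [← h5, h3, (hkl g).mul_zpow, ← zpow_mul]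
  have h6 : Commute (z ^ l) t := ht.zpow_left l
  rw [commutatorElement_def, mul_inv_rev, mul_inv_rev]
  calc z ^ l * w * (g ^ m * t) * (w⁻¹ * (z ^ l)⁻¹) * (t⁻¹ * (g ^ m)⁻¹)
      = z ^ l * (w * (g ^ m * t)) * w⁻¹ * (z ^ l)⁻¹ * t⁻¹ * (g ^ m)⁻¹ := by group
    _ = z ^ l * (g ^ m * t * w) * w⁻¹ * (z ^ l)⁻¹ * t⁻¹ * (g ^ m)⁻¹ := by rw [(hw (g ^ m * t)).eq]
    _ = z ^ l * g ^ m * (t * (z ^ l)⁻¹) * t⁻¹ * (g ^ m)⁻¹ := by group
    _ = z ^ l * g ^ m * ((z ^ l)⁻¹ * t) * t⁻¹ * (g ^ m)⁻¹ := by rw [(h6.inv_left).symm.eq]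
    _ = (z ^ l * g ^ m * (z ^ l)⁻¹) * (g ^ m)⁻¹ := by group
    _ = k ^ (l * m) := by rw [h4]; group

variable {G : Type*} [Group G]

theorem eig_step (σ : MulAut G) {j : ℕ} {z g w t : G} {l m : ℤ} (hk : ⁅z, g⁆ ∈ lcsF G (j + 1))
    (hw : w ∈ lcsF G (j + 1)) (ht : ⁅z, t⁆ ∈ lcsF G (j + 2)) (hz : σ z = z ^ l * w)
    (hg : σ g = g ^ m * t) : ∃ w' ∈ lcsF G (j + 2), σ ⁅z, g⁆ = ⁅z, g⁆ ^ (l * m) * w' := by
  refine ⟨(⁅z, g⁆ ^ (l * m))⁻¹ * σ ⁅z, g⁆, ?_, by group⟩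
  set φ : G →* G ⧸ lcsF G (j + 2) := QuotientGroup.mk' (lcsF G (j + 2)) with hφ
  have hφ1 : ∀ x : G, φ x = 1 ↔ x ∈ lcsF G (j + 2) := fun x => QuotientGroup.eq_one_iff x
  have hcen : ∀ x ∈ lcsF G (j + 1), ∀ y : G ⧸ lcsF G (j + 2), Commute (φ x) y := by
    intro x hx y
    obtain ⟨y, rfl⟩ := QuotientGroup.mk'_surjective _ y
    have h1 : ⁅x, y⁆ ∈ lcsF G (j + 2) := comm_memK' hx y
    have h2 := (hφ1 _).2 h1
    rw [map_commutatorElement] at h2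
    exact commutatorElement_eq_one_iff_mul_comm.1 h2
  have h4 : Commute (φ z) (φ t) := by
    have h2 := (hφ1 _).2 ht
    rw [map_commutatorElement] at h2
    exact commutatorElement_eq_one_iff_mul_comm.1 h2
  have h5 := comm_zz (z := φ z) (g := φ g) (w := φ w) (t := φ t) l m
    (by rw [← map_commutatorElement]; exact hcen _ hk) (hcen _ hw) h4
  have h6 : σ ⁅z, g⁆ = ⁅z ^ l * w, g ^ m * t⁆ := by rw [map_commutatorElement, hz, hg]
  rw [← hφ1, map_mul, map_inv, h6, map_zpow, map_commutatorElement, map_commutatorElement, map_mul,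
    map_mul, map_zpow, map_zpow, h5, inv_mul_cancel]

variable [Finite G] {p n : ℕ} [hp : Fact p.Prime]

/-- exponents modulo `p` -/
theorem dvd_of_zpow (h : MC p n G) {i : ℕ} (hi : 2 ≤ i) (hin : i < n) {x : G} (hx : x ∈ lcsF G i)
    (hx' : x ∉ lcsF G (i + 1)) {j : ℤ} (hj : x ^ j ∈ lcsF G (i + 1)) : (p : ℤ) ∣ j := by
  have h1 : x ^ p ∈ lcsF G (i + 1) := by
    have h2 := Subgroup.pow_index_mem ((lcsF G (i + 1)).subgroupOf (lcsF G i)) (⟨x, hx⟩ : lcsF G i)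
    have h3 : ((lcsF G (i + 1)).subgroupOf (lcsF G i)).index = p := h.relIndex hi hin
    rw [h3] at h2
    exact Subgroup.mem_subgroupOf.1 h2
  by_contra hd
  have h2 : IsCoprime (p : ℤ) j := (Prime.coprime_iff_not_dvd (Nat.prime_iff_prime_int.1 hp.out)).2 hd
  obtain ⟨u, v, huv⟩ := h2
  apply hx'
  have h3 : x = (x ^ p) ^ u * (x ^ j) ^ v := by
    rw [← zpow_natCast, ← zpow_mul, ← zpow_mul, ← zpow_add, mul_comm (p : ℤ) u, mul_comm j v, huv,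
      zpow_one]
  rw [h3]
  exact mul_mem (zpow_mem h1 u) (zpow_mem hj v)

theorem exists_exp_top (h : MC p n G) (hn : 4 ≤ n) {s : G} (hs : s ∉ TC G 2) (x : G) :
    ∃ m : ℤ, ∃ t ∈ TC G 2, x = s ^ m * t := by
  have hN : (TC G 2).Normal := h.normal_P1 hn
  have h1 : zpowers s ⊔ TC G 2 = ⊤ :=
    h.eq_top_of hn le_rfl (by omega) le_sup_right hs ((le_sup_left : zpowers s ≤ _) (mem_zpowers s))
  have h2 : x ∈ zpowers s ⊔ TC G 2 := by rw [h1]; exact mem_top x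
  obtain ⟨y, ⟨m, rfl⟩, t, ht, rfl⟩ := mem_sup_of_normal_right.1 h2
  exact ⟨m, t, ht, rfl⟩

theorem exists_exp_P1 (h : MC p n G) (hn : 4 ≤ n) {y : G} (hy : y ∈ TC G 2) (hy' : y ∉ lcsF G 2)
    {x : G} (hx : x ∈ TC G 2) : ∃ m : ℤ, ∃ t ∈ lcsF G 2, x = y ^ m * t := by
  have h1 : TC G 2 ≤ zpowers y ⊔ lcsF G 2 :=
    h.le_of_P1 hn le_sup_right hy hy' ((le_sup_left : zpowers y ≤ _) (mem_zpowers y))
  obtain ⟨_, ⟨m, rfl⟩, t, ht, rfl⟩ := mem_sup_of_normal_right.1 (h1 hx)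
  exact ⟨m, t, ht, rfl⟩

theorem map_lcsF (σ : MulAut G) (i : ℕ) {x : G} (hx : x ∈ lcsF G i) : σ x ∈ lcsF G i := by
  have h1 : (lcsF G i).Characteristic := by unfold lcsF; infer_instance
  have h2 := characteristic_iff_map_eq.1 h1 σ
  rw [← h2]; exact mem_map_of_mem _ hx

theorem map_TC (σ : MulAut G) (i : ℕ) {x : G} (hx : x ∈ TC G i) : σ x ∈ TC G i := by
  rw [mem_TC] at hx ⊢
  intro z hz
  have h1 : (σ⁻¹ : MulAut G) z ∈ lcsF G i := map_lcsF σ⁻¹ i hz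
  have h2 := map_lcsF σ (i + 2) (hx _ h1)
  rw [map_commutatorElement] at h2
  have h3 : σ ((σ⁻¹ : MulAut G) z) = z := MulAut.apply_inv_self G σ z
  rwa [h3] at h2

end H65.MXEV
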