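import Cfsg.Agent.Lib.H65.MXEVCore

set_option autoImplicit false
set_option linter.unusedVariables false

/-! S5316, pieces EV and EV5 (main part; `Even n` / `TC 2 ≤ TC 3` as hypotheses). -/

namespace H65.MXEV

open Subgroup H67.HallPetrescu H57.Mc
open scoped commutatorElement

variable {G : Type*} [Group G] [Finite G] {p n : ℕ} [hp : Fact p.Prime]

theorem small {p : ℕ} (h5 : 5 ≤ p) {x : ℤ} (h1 : -2 ≤ x) (h2 : x ≤ 2) (hd : (p : ℤ) ∣ x) : x = 0 := by
  obtain ⟨k, hk⟩ := hd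
  have hp : (5 : ℤ) ≤ p := by exact_mod_cast h5
  rcases lt_trichotomy k 0 with h | h | h
  · exfalso
    have : (p : ℤ) * k ≤ p * (-1) := by
      apply mul_le_mul_of_nonneg_left _ (by omega)
      omega
    omega
  · rw [hk, h, mul_zero]
  · exfalso
    have : (p : ℤ) * 1 ≤ p * k := by
      apply mul_le_mul_of_nonneg_left _ (by omega)
      omega
    omega

theorem arith {p : ℕ} (hp : p.Prime) (h5 : 5 ≤ p) {a b c m ν : ℤ} (ha : a = 1 ∨ a = -1)
    (hb : b = 1 ∨ b = -1) (hc : c = 1 ∨ c = -1) {l : ℕ} (h1 : (p : ℤ) ∣ ν * m ^ (2 * l + 3) - b)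
    (h2 : (p : ℤ) ∣ c * m - b) (h3 : (p : ℤ) ∣ b * ν - a) : a = b * c := by
  have hp' := Fact.mk hp
  have e : ∀ x : ℤ, (p : ℤ) ∣ x ↔ ((x : ℤ) : ZMod p) = 0 := fun x => (ZMod.intCast_zmod_eq_zero_iff_dvd x p).symm
  rw [e] at h1 h2 h3
  push_cast at h1 h2 h3
  have hA : ((a : ℤ) : ZMod p) * a = 1 := by rcases ha with rfl | rfl <;> push_cast <;> ring
  have hB : ((b : ℤ) : ZMod p) * b = 1 := by rcases hb with rfl | rfl <;> push_cast <;> ring
  have hC : ((c : ℤ) : ZMod p) * c = 1 := by rcases hc with rfl | rfl <;> push_cast <;> ring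
  have hd : (p : ℤ) ∣ b * c - a := by
    rw [e]
    push_cast
    have hM : (m : ZMod p) = c * b := by linear_combination (c : ZMod p) * h2 - (m : ZMod p) * hC
    have hMM : (m : ZMod p) * m = 1 := by
      rw [hM]; linear_combination (b : ZMod p) * b * hC + hB
    have hpow : (m : ZMod p) ^ (2 * l + 3) = m := by
      have h6 : (m : ZMod p) ^ (2 * l + 3) = (m * m : ZMod p) ^ l * (m * m) * m := by
        rw [pow_add, pow_mul]; ring
      rw [h6, hMM]; ring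
    rw [hpow] at h1
    have hN : (ν : ZMod p) = c := by
      have h7 : (ν : ZMod p) = (ν * m) * m := by rw [mul_assoc, hMM, mul_one]
      have h8 : (ν : ZMod p) * m = b := by linear_combination h1
      rw [h7, h8, hM]; linear_combination (c : ZMod p) * hB
    rw [hN] at h3
    linear_combination h3
  have hs := small h5 (x := b * c - a) (by rcases ha with rfl | rfl <;> rcases hb with rfl | rfl <;> rcases hc with rfl | rfl <;> norm_num)
    (by rcases ha with rfl | rfl <;> rcases hb with rfl | rfl <;> rcases hc with rfl | rfl <;> norm_num) hd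
  omega

theorem eig_of (h : MC p n G) (h5 : 5 ≤ p) (hn : 6 ≤ n) (hev : Even n)
    (hex : ¬ TC G 2 ≤ TC G (n - 2)) (σ : MulAut G)
    {a b c : ℤ} (ha : a = 1 ∨ a = -1) (hb : b = 1 ∨ b = -1) (hc : c = 1 ∨ c = -1)
    (h1 : ∀ z ∈ lcsF G (n - 1), σ z = z ^ a) (h2 : ∀ z ∈ lcsF G (n - 2), z ^ (-b) * σ z ∈ lcsF G (n - 1))
    (h3 : ∀ z ∈ lcsF G (n - 3), z ^ (-c) * σ z ∈ lcsF G (n - 2)) : a = b * c := by
  obtain ⟨k, rfl⟩ := Nat.exists_eq_add_of_le' hn
  have e1 : k + 6 - 1 = k + 5 := rfl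
  have e2 : k + 6 - 2 = k + 4 := rfl
  have e3 : k + 6 - 3 = k + 3 := rfl
  rw [e1] at h1 h2
  rw [e2] at hex h2 h3
  rw [e3] at h3
  obtain ⟨y, hy, hyT⟩ : ∃ y ∈ TC G 2, y ∉ TC G (k + 4) := Set.not_subset.1 hex
  have hy2 : y ∉ lcsF G 2 := fun h => hyT (K2_le_TC (k + 4) h)
  obtain ⟨s, hs⟩ := h.exists_unif (by omega) (by omega)
  have hs2 : s ∉ TC G 2 := hs 2 le_rfl (by omega)
  have hTC : ∀ i, 2 ≤ i → i < k + 4 → TC G i = TC G 2 := fun i hi hin =>
    h.TC_eq hi (by omega) ((h.blackburn (by omega) (by omega)).1 i hi hin)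
  obtain ⟨m, t, ht, hσs⟩ := exists_exp_top h (by omega) hs2 (σ s)
  obtain ⟨ν, u, hu, hσy⟩ := exists_exp_P1 h (by omega) hy hy2 (map_TC σ 2 hy)
  have hTt : ∀ i, 2 ≤ i → i < k + 4 → ∀ x ∈ lcsF G i, ⁅x, t⁆ ∈ lcsF G (i + 2) := by
    intro i hi hin
    have : t ∈ TC G i := by rw [hTC i hi hin]; exact ht
    exact mem_TC.1 this
  have hyt : ⁅y, t⁆ ∈ lcsF G 3 := by
    obtain ⟨j, u', hu', rfl⟩ := exists_exp_P1 h (by omega) hy hy2 ht
    have h6 : ⁅y, y ^ j * u'⁆ = y ^ j * ⁅y, u'⁆ * (y ^ j)⁻¹ := by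
      simp only [commutatorElement_def, mul_inv_rev]; group
    rw [h6]
    exact (normalK 3).conj_mem _ (comm_memK'' hu' y) _
  -- the chain
  let x : ℕ → G := fun i => Nat.rec y (fun _ z => ⁅z, s⁆) i
  have hx0 : x 0 = y := rfl
  have hxs : ∀ i, x (i + 1) = ⁅x i, s⁆ := fun i => rfl
  have key : ∀ i, i + 3 ≤ k + 6 → (1 ≤ i → x i ∈ lcsF G (i + 1) ∧ x i ∉ lcsF G (i + 2)) ∧
      ∃ w ∈ lcsF G (i + 2), σ (x i) = x i ^ (ν * m ^ i) * w := by
    intro i
    induction i with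
    | zero =>
      intro _
      refine ⟨fun h => absurd h (by omega), u, hu, ?_⟩
      rw [pow_zero, mul_one]; exact hσy
    | succ i ih =>
      intro hi
      obtain ⟨hx, w, hw, hσ⟩ := ih (by omega)
      rcases Nat.eq_zero_or_pos i with h0 | h0
      · subst h0
        refine ⟨fun _ => ⟨comm_memK' (i := 1) (mem_top _) s, h.stepP (by omega) hs2 hy hy2⟩, ?_⟩
        have h6 := eig_step σ (j := 1) (z := y) (g := s) (w := u) (t := t) (l := ν) (m := m)
          (comm_memK' (i := 1) (mem_top _) s) hu hyt hσy hσs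
        obtain ⟨w', hw', h7⟩ := h6
        refine ⟨w', hw', ?_⟩
        rw [zero_add, pow_one]; exact h7
      · obtain ⟨hx1, hx2⟩ := hx h0
        refine ⟨fun _ => ⟨comm_memK' hx1 s, h.step (by omega) (by omega) (hs (i + 1) (by omega) (by omega)) hx1 hx2⟩, ?_⟩
        have h6 := eig_step σ (j := i + 1) (z := x i) (g := s) (w := w) (t := t) (l := ν * m ^ i) (m := m)
          (comm_memK' hx1 s) hw (hTt (i + 1) (by omega) (by omega) _ hx1) hσ hσs
        obtain ⟨w', hw', h7⟩ := h6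
        refine ⟨w', hw', ?_⟩
        rw [pow_succ, ← mul_assoc]; exact h7
  obtain ⟨hX, w, hw, hσX⟩ := key (k + 3) (by omega)
  obtain ⟨hX1, hX2⟩ := hX (by omega)
  obtain ⟨hX', -⟩ := key (k + 2) (by omega)
  obtain ⟨hX'1, hX'2⟩ := hX' (by omega)
  -- first divisibility
  have d1 : (p : ℤ) ∣ ν * m ^ (k + 3) - b := by
    apply dvd_of_zpow h (i := k + 4) (by omega) (by omega) hX1 hX2
    have h6 := h2 _ hX1
    rw [hσX, ← mul_assoc, ← zpow_add] at h6
    have h7 := mul_mem h6 (inv_mem hw)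
    rw [mul_inv_cancel_right] at h7
    have e : ν * m ^ (k + 3) - b = -b + ν * m ^ (k + 3) := by ring
    rw [e]; exact h7
  have d2 : (p : ℤ) ∣ c * m - b := by
    apply dvd_of_zpow h (i := k + 4) (by omega) (by omega) hX1 hX2
    have h6 := h3 _ hX'1
    have h8 : σ (x (k + 2)) = x (k + 2) ^ c * (x (k + 2) ^ (-c) * σ (x (k + 2))) := by
      rw [← mul_assoc, ← zpow_add]; simp
    obtain ⟨w', hw', h9⟩ := eig_step σ (j := k + 3) (z := x (k + 2)) (g := s) (t := t) (m := m)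
      (comm_memK' hX'1 s) h6 (hTt (k + 3) (by omega) (by omega) _ hX'1) h8 hσs
    have h10 := h2 _ hX1
    have h11 : σ (x (k + 3)) = x (k + 3) ^ (c * m) * w' := h9
    rw [h11, ← mul_assoc, ← zpow_add] at h10
    have h7 := mul_mem h10 (inv_mem hw')
    rw [mul_inv_cancel_right] at h7
    have e : c * m - b = -b + c * m := by ring
    rw [e]; exact h7
  have d3 : (p : ℤ) ∣ b * ν - a := by
    rw [mem_TC] at hyT
    push Not at hyT
    obtain ⟨z, hz, hzy⟩ := hyT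
    have hzy1 : ⁅z, y⁆ ∈ lcsF G (k + 5) := comm_memK' hz y
    apply dvd_of_zpow h (i := k + 5) (by omega) (by omega) hzy1 hzy
    have h8 : σ z = z ^ b * (z ^ (-b) * σ z) := by
      rw [← mul_assoc, ← zpow_add]; simp
    obtain ⟨w', hw', h9⟩ := eig_step σ (j := k + 4) (z := z) (g := y) (t := u) (m := ν)
      hzy1 (h2 z hz) (comm_memK hz hu) h8 hσy
    have h10 := h1 _ hzy1
    rw [h10] at h9
    have h11 : ⁅z, y⁆ ^ (b * ν - a) = w'⁻¹ := by
      have h12 : w' = (⁅z, y⁆ ^ (b * ν))⁻¹ * ⁅z, y⁆ ^ a := by rw [h9]; group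
      rw [h12, zpow_sub, mul_inv_rev, inv_inv]
      exact ((Commute.refl ⁅z, y⁆).zpow_zpow _ _ |>.inv_right).eq
    rw [h11]; exact inv_mem hw'
  obtain ⟨l, hl⟩ : ∃ l, k = 2 * l := by
    obtain ⟨r, hr⟩ := hev
    exact ⟨r - 3, by omega⟩
  subst hl
  exact arith hp.out h5 ha hb hc d1 d2 d3

theorem eig5_of (h : MC p 5 G) (h5 : 5 ≤ p) (hle : TC G 2 ≤ TC G 3) (σ : MulAut G)
    {a b c : ℤ} (ha : a = 1 ∨ a = -1) (hb : b = 1 ∨ b = -1) (hc : c = 1 ∨ c = -1)
    (h1 : ∀ z ∈ lcsF G 4, σ z = z ^ a) (h2 : ∀ z ∈ lcsF G 3, z ^ (-b) * σ z ∈ lcsF G 4)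
    (h3 : ∀ z ∈ lcsF G 2, z ^ (-c) * σ z ∈ lcsF G 3) : a = c := by
  have hp' := hp
  obtain ⟨s, hs⟩ := h.exists_unif (by omega) (by omega)
  have hs2 : s ∉ TC G 2 := hs 2 le_rfl (by omega)
  obtain ⟨m, t, ht, hσs⟩ := exists_exp_top h (by omega) hs2 (σ s)
  have ht3 : t ∈ TC G 3 := hle ht
  obtain ⟨x, hx, hx'⟩ := h.exists_mem (i := 2) le_rfl (by omega)
  have hX1 : ⁅x, s⁆ ∈ lcsF G 3 := comm_memK' hx s
  have hX2 : ⁅x, s⁆ ∉ lcsF G 4 := h.step le_rfl (by omega) hs2 hx hx'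
  have hY1 : ⁅⁅x, s⁆, s⁆ ∈ lcsF G 4 := comm_memK' hX1 s
  have hY2 : ⁅⁅x, s⁆, s⁆ ∉ lcsF G 5 := h.step (by omega) (by omega) (hs 3 (by omega) (by omega)) hX1 hX2
  have d2 : (p : ℤ) ∣ c * m - b := by
    apply dvd_of_zpow h (i := 3) (by omega) (by omega) hX1 hX2
    have h8 : σ x = x ^ c * (x ^ (-c) * σ x) := by
      rw [← mul_assoc, ← zpow_add]; simp
    obtain ⟨w', hw', h9⟩ := eig_step σ (j := 2) (z := x) (g := s) (t := t) (m := m)
      hX1 (h3 x hx) (mem_TC.1 ht x hx) h8 hσs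
    have h10 := h2 _ hX1
    rw [h9, ← mul_assoc, ← zpow_add] at h10
    have h7 := mul_mem h10 (inv_mem hw')
    rw [mul_inv_cancel_right] at h7
    have e : c * m - b = -b + c * m := by ring
    rw [e]; exact h7
  have d3 : (p : ℤ) ∣ b * m - a := by
    apply dvd_of_zpow h (i := 4) (by omega) (by omega) hY1 hY2
    have h8 : σ ⁅x, s⁆ = ⁅x, s⁆ ^ b * (⁅x, s⁆ ^ (-b) * σ ⁅x, s⁆) := by
      rw [← mul_assoc, ← zpow_add]; simp
    obtain ⟨w', hw', h9⟩ := eig_step σ (j := 3) (z := ⁅x, s⁆) (g := s) (t := t) (m := m)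
      hY1 (h2 _ hX1) (mem_TC.1 ht3 _ hX1) h8 hσs
    have h10 := h1 _ hY1
    rw [h10] at h9
    have h11 : ⁅⁅x, s⁆, s⁆ ^ (b * m - a) = w'⁻¹ := by
      have h12 : w' = (⁅⁅x, s⁆, s⁆ ^ (b * m))⁻¹ * ⁅⁅x, s⁆, s⁆ ^ a := by rw [h9]; group
      rw [h12, zpow_sub, mul_inv_rev, inv_inv]
      exact ((Commute.refl ⁅⁅x, s⁆, s⁆).zpow_zpow _ _ |>.inv_right).eq
    rw [h11]; exact inv_mem hw'
  have hd : (p : ℤ) ∣ c - a := by
    have h6 : c - a = (b * m - a) - b * (c * m - b) * c + (c - b * b * c) + (b * c * m * c - b * m) := by ring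
    have h7 : b * b = 1 := by rcases hb with rfl | rfl <;> norm_num
    have h8 : c * c = 1 := by rcases hc with rfl | rfl <;> norm_num
    have h9 : c - a = (b * m - a) - b * c * (c * m - b) := by
      have : b * c * (c * m - b) = b * m * (c * c) - (b * b) * c := by ring
      rw [this, h7, h8]; ring
    rw [h9]
    exact dvd_sub d3 (Dvd.dvd.mul_left d2 _)
  have hs := small h5 (x := c - a) (by rcases ha with rfl | rfl <;> rcases hc with rfl | rfl <;> norm_num)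
    (by rcases ha with rfl | rfl <;> rcases hc with rfl | rfl <;> norm_num) hd
  omega

end H65.MXEV
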