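import Mathlib
import Cfsg.Prelude.Def_Local
import Cfsg.Agent.Lib.H65.Semi
import Cfsg.Agent.Lib.H1.Cores

set_option autoImplicit false

/-! Maximal `p`-local subgroups. -/

namespace H65.MaxLocal

open Subgroup Cfsg

variable {G : Type*} [Group G]

/-- `p`-local subgroups -/
def IsLoc (p : ℕ) (M : Subgroup G) : Prop :=
  ∃ T : Subgroup G, IsPGroup p T ∧ T ≠ ⊥ ∧ M = normalizer (T : Set G)

/-- maximal `p`-local subgroups -/
def IsMaxLoc (p : ℕ) (M : Subgroup G) : Prop :=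
  IsLoc p M ∧ ∀ L : Subgroup G, IsLoc p L → M ≤ L → L = M

/-- `O_p(M)` as a subgroup of `G` -/
def opc (p : ℕ) (M : Subgroup G) : Subgroup G := (pCore p M).map M.subtype

/-- `S` is a maximal `p`-subgroup of `M` -/
def IsSylOf (p : ℕ) (S M : Subgroup G) : Prop :=
  S ≤ M ∧ IsPGroup p S ∧ ∀ T : Subgroup G, IsPGroup p T → T ≤ M → S ≤ T → T = S

theorem opc_le {p : ℕ} {M : Subgroup G} : opc p M ≤ M := Subgroup.map_subtype_le _

theorem isPGroup_opc {p : ℕ} {M : Subgroup G} : IsPGroup p (opc p M) := (H1.Cores.isPGroup_pCore p).map _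

theorem le_normalizer_opc {p : ℕ} {M : Subgroup G} : M ≤ normalizer (opc p M : Set G) := by
  rw [le_normalizer_iff]
  rintro m hm _ ⟨x, hx, rfl⟩
  have hn : (pCore p M).Normal := inferInstance
  exact ⟨⟨m, hm⟩ * x * ⟨m, hm⟩⁻¹, hn.conj_mem x hx ⟨m, hm⟩, rfl⟩

theorem le_opc {p : ℕ} {M T : Subgroup G} (hTM : T ≤ M) (hMT : M ≤ normalizer (T : Set G)) (hT : IsPGroup p T) :
    T ≤ opc p M := by
  have hn : (T.subgroupOf M).Normal := (Subgroup.normal_subgroupOf_iff_le_normalizer hTM).mpr hMT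
  have h1 : T.subgroupOf M ≤ pCore p M := H1.Cores.le_pCore hn (hT.comap_of_injective _ M.subtype_injective)
  have h2 := Subgroup.map_mono (f := M.subtype) h1
  rwa [Subgroup.map_subgroupOf_eq_of_le hTM] at h2

theorem map_conj_opc {p : ℕ} (M : Subgroup G) (g : G) :
    (opc p M).map (MulAut.conj g).toMonoidHom ≤ opc p (M.map (MulAut.conj g).toMonoidHom) := by
  apply le_opc (Subgroup.map_mono opc_le)
  · rw [le_normalizer_iff]
    rintro _ ⟨m, hm, rfl⟩ _ ⟨x, hx, rfl⟩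
    rw [← map_inv, ← map_mul, ← map_mul]
    exact Subgroup.mem_map_of_mem _ ((mem_normalizer_iff.mp (le_normalizer_opc hm) x).mp hx)
  · exact isPGroup_opc.map _

theorem normalizer_map_conj (T : Subgroup G) (g : G) :
    normalizer ((T.map (MulAut.conj g).toMonoidHom : Subgroup G) : Set G) =
      (normalizer (T : Set G)).map (MulAut.conj g).toMonoidHom := by
  have key : ∀ (T : Subgroup G) (g : G), (normalizer (T : Set G)).map (MulAut.conj g).toMonoidHom ≤
      normalizer ((T.map (MulAut.conj g).toMonoidHom : Subgroup G) : Set G) := by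
    intro T g
    rw [le_normalizer_iff]
    rintro _ ⟨m, hm, rfl⟩ _ ⟨x, hx, rfl⟩
    rw [← map_inv, ← map_mul, ← map_mul]
    exact Subgroup.mem_map_of_mem _ ((mem_normalizer_iff.mp hm x).mp hx)
  apply le_antisymm ?_ (key T g)
  have h1 := Subgroup.map_mono (f := (MulAut.conj g).toMonoidHom) (key (T.map (MulAut.conj g).toMonoidHom) g⁻¹)
  rwa [H65.Semi.map_conj_map_conj_inv, H65.Semi.map_conj_inv_map_conj] at h1

theorem isLoc_conj {p : ℕ} {M : Subgroup G} (h : IsLoc p M) (g : G) :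
    IsLoc p (M.map (MulAut.conj g).toMonoidHom) := by
  obtain ⟨T, hT, hT1, rfl⟩ := h
  refine ⟨T.map (MulAut.conj g).toMonoidHom, hT.map _, ?_, (normalizer_map_conj T g).symm⟩
  intro h
  exact hT1 ((Subgroup.map_eq_bot_iff_of_injective _ (MulAut.conj g).injective).mp h)

theorem isMaxLoc_conj {p : ℕ} {M : Subgroup G} (h : IsMaxLoc p M) (g : G) :
    IsMaxLoc p (M.map (MulAut.conj g).toMonoidHom) := by
  refine ⟨isLoc_conj h.1 g, fun L hL hle => ?_⟩
  have h1 := h.2 _ (isLoc_conj hL g⁻¹) (by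
    have := Subgroup.map_mono (f := (MulAut.conj g⁻¹).toMonoidHom) hle
    rwa [H65.Semi.map_conj_inv_map_conj] at this)
  rw [← h1, H65.Semi.map_conj_map_conj_inv]

theorem exists_maxLoc_ge [Finite G] {p : ℕ} {L : Subgroup G} (hL : IsLoc p L) :
    ∃ M : Subgroup G, IsMaxLoc p M ∧ L ≤ M := by
  obtain ⟨M, ⟨hM, hLM⟩, hmax⟩ := (Set.toFinite {M : Subgroup G | IsLoc p M ∧ L ≤ M}).exists_maximal ⟨L, hL, le_rfl⟩
  exact ⟨M, ⟨hM, fun K hK hMK => le_antisymm (hmax ⟨hK, hLM.trans hMK⟩ hMK) hMK⟩, hLM⟩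

theorem opc_ne_bot {p : ℕ} {M : Subgroup G} (h : IsLoc p M) : opc p M ≠ ⊥ := by
  obtain ⟨T, hT, hT1, rfl⟩ := h
  intro hb
  exact hT1 (le_bot_iff.mp (hb ▸ le_opc le_normalizer le_rfl hT))

theorem normalizer_opc {p : ℕ} {M : Subgroup G} (h : IsMaxLoc p M) : normalizer (opc p M : Set G) = M :=
  h.2 _ ⟨opc p M, isPGroup_opc, opc_ne_bot h.1, rfl⟩ le_normalizer_opc

/-- A nontrivial `p`-subgroup normal in a maximal `p`-local `M` has normalizer `M`. -/
theorem normalizer_eq_of_isPGroup {p : ℕ} {M T : Subgroup G} (h : IsMaxLoc p M) (hT : IsPGroup p T)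
    (hT1 : T ≠ ⊥) (hMT : M ≤ normalizer (T : Set G)) : normalizer (T : Set G) = M :=
  h.2 _ ⟨T, hT, hT1, rfl⟩ hMT

theorem normalizer_self {p : ℕ} {M : Subgroup G} (h : IsMaxLoc p M) : normalizer (M : Set G) = M := by
  apply le_antisymm ?_ le_normalizer
  intro g hg
  rw [← normalizer_opc h]
  have h1 := H65.Semi.map_conj_eq_of_mem_normalizer hg
  have h2 := map_conj_opc (p := p) M g
  rw [h1] at h2
  have h3 := map_conj_opc (p := p) M g⁻¹
  rw [H65.Semi.map_conj_eq_of_mem_normalizer (inv_mem hg)] at h3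
  rw [mem_normalizer_iff]
  intro x
  constructor
  · intro hx
    exact h2 ⟨x, hx, rfl⟩
  · intro hx
    have := h3 ⟨g * x * g⁻¹, hx, rfl⟩
    simpa [mul_assoc] using this

/-- The normalizer of any nontrivial normal subgroup of a maximal `p`-local subgroup of characteristic `p`. -/
theorem normalizer_eq [Finite G] {p : ℕ} [Fact p.Prime] {M A : Subgroup G} (h : IsMaxLoc p M)
    (hchar : centralizer (pCore p M : Set M) ≤ pCore p M) (hAM : A ≤ M) (hA : A ≠ ⊥)
    (hMA : M ≤ normalizer (A : Set G)) : normalizer (A : Set G) = M := by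
  have hn : (A.subgroupOf M).Normal := (Subgroup.normal_subgroupOf_iff_le_normalizer hAM).mpr hMA
  have h1 : (A.subgroupOf M) ⊓ pCore p M ≠ ⊥ := by
    intro hbot
    have h2 : A.subgroupOf M ≤ centralizer (pCore p M : Set M) := by
      rw [← Subgroup.commutator_eq_bot_iff_le_centralizer, eq_bot_iff, ← hbot]
      exact Subgroup.commutator_le_inf _ _
    rw [inf_eq_left.mpr (h2.trans hchar)] at hbot
    apply hA
    rw [← Subgroup.map_subgroupOf_eq_of_le hAM, hbot, Subgroup.map_bot]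
  -- O_p(A)
  have h3 : opc p A ≠ ⊥ := by
    intro hbot
    apply h1
    have h4 : (A ⊓ opc p M) ≤ opc p A := by
      apply le_opc inf_le_left
      · exact H65.Semi.le_normalizer_inf le_normalizer (hAM.trans le_normalizer_opc)
      · exact isPGroup_opc.to_le inf_le_right
    rw [hbot, le_bot_iff] at h4
    rw [eq_bot_iff]
    intro x hx
    have h5 : (x : G) ∈ A ⊓ opc p M := mem_inf.mpr ⟨mem_subgroupOf.mp (mem_inf.mp hx).1, ⟨x, (mem_inf.mp hx).2, rfl⟩⟩
    rw [h4, mem_bot] at h5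
    rw [mem_bot]
    exact Subtype.ext h5
  have h6 : normalizer (A : Set G) ≤ normalizer (opc p A : Set G) := by
    intro g hg
    have e1 := map_conj_opc (p := p) A g
    rw [H65.Semi.map_conj_eq_of_mem_normalizer hg] at e1
    have e2 := map_conj_opc (p := p) A g⁻¹
    rw [H65.Semi.map_conj_eq_of_mem_normalizer (inv_mem hg)] at e2
    rw [mem_normalizer_iff]
    intro x
    constructor
    · intro hx
      exact e1 ⟨x, hx, rfl⟩
    · intro hx
      have := e2 ⟨g * x * g⁻¹, hx, rfl⟩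
      simpa [mul_assoc] using this
  have h7 := normalizer_eq_of_isPGroup h isPGroup_opc h3 (hMA.trans h6)
  exact le_antisymm (h6.trans h7.le) hMA

theorem opc_le_of_isSylOf {p : ℕ} {S M : Subgroup G} (h : IsSylOf p S M) : opc p M ≤ S := by
  have h1 : IsPGroup p (S ⊔ opc p M : Subgroup G) :=
    h.2.1.to_sup_of_normal_right' isPGroup_opc (h.1.trans le_normalizer_opc)
  have h2 := h.2.2 _ h1 (sup_le h.1 opc_le) le_sup_left
  rw [← h2]
  exact le_sup_right

/-- If `S` is a non-maximal `p`-subgroup of `M`, it is not self-normalizing in some larger one. -/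
theorem exists_gt_normalizer [Finite G] {p : ℕ} [Fact p.Prime] {S M : Subgroup G} (hSM : S ≤ M) (hS : IsPGroup p S)
    (h : ¬ IsSylOf p S M) : ∃ T : Subgroup G, S < T ∧ T ≤ M ∧ T ≤ normalizer (S : Set G) ∧ IsPGroup p T := by
  have h1 : ∃ T : Subgroup G, IsPGroup p T ∧ T ≤ M ∧ S ≤ T ∧ T ≠ S := by
    by_contra hcon
    push Not at hcon
    exact h ⟨hSM, hS, fun T hT hTM hST => hcon T hT hTM hST⟩
  obtain ⟨T, hT, hTM, hST, hne⟩ := h1
  have hlt : S.subgroupOf T < ⊤ := by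
    rw [lt_top_iff_ne_top]
    intro h2
    rw [Subgroup.subgroupOf_eq_top] at h2
    exact hne (le_antisymm h2 hST)
  have : Group.IsNilpotent T := hT.isNilpotent
  have h3 := Group.normalizerCondition_of_isNilpotent (G := T) (S.subgroupOf T) hlt
  refine ⟨T ⊓ normalizer (S : Set G), ?_, inf_le_left.trans hTM, inf_le_right, hT.to_le inf_le_left⟩
  refine lt_of_le_of_ne (le_inf hST le_normalizer) ?_
  intro heq
  apply h3.ne
  apply le_antisymm le_normalizer
  intro x hx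
  rw [mem_subgroupOf, heq]
  refine mem_inf.mpr ⟨x.2, ?_⟩
  rw [mem_normalizer_iff] at hx ⊢
  intro y
  constructor
  · intro hy
    exact (hx ⟨y, hST hy⟩).mp hy
  · intro hy
    have h4 : y ∈ T := by
      have := mul_mem (mul_mem (inv_mem x.2) (hST hy)) x.2
      simpa [mul_assoc] using this
    exact (hx ⟨y, h4⟩).mpr hy

/-- Two distinct maximal `p`-local subgroups with intersection of order divisible by `p` give two distinct
maximal `p`-local subgroups with a common Sylow `p`-subgroup. -/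
theorem exists_common_sylow [Finite G] {p : ℕ} [Fact p.Prime]
    (h : ∃ M₁ M₂ : Subgroup G, IsMaxLoc p M₁ ∧ IsMaxLoc p M₂ ∧ M₁ ≠ M₂ ∧ p ∣ Nat.card (M₁ ⊓ M₂ : Subgroup G)) :
    ∃ M₁ M₂ S : Subgroup G, IsMaxLoc p M₁ ∧ IsMaxLoc p M₂ ∧ M₁ ≠ M₂ ∧ IsSylOf p S M₁ ∧ IsSylOf p S M₂ := by
  classical
  let Φ : Set (Subgroup G) := {S | S ≠ ⊥ ∧ IsPGroup p S ∧ ∃ M₁ M₂ : Subgroup G, IsMaxLoc p M₁ ∧ IsMaxLoc p M₂ ∧
    M₁ ≠ M₂ ∧ S ≤ M₁ ∧ S ≤ M₂}
  have hne : Φ.Nonempty := by
    obtain ⟨M₁, M₂, h1, h2, h3, h4⟩ := h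
    obtain ⟨x, hx⟩ := exists_prime_orderOf_dvd_card' p h4
    refine ⟨zpowers (x : G), ?_, ?_, M₁, M₂, h1, h2, h3, zpowers_le.mpr (mem_inf.mp x.2).1,
      zpowers_le.mpr (mem_inf.mp x.2).2⟩
    · intro hb
      rw [zpowers_eq_bot] at hb
      have : x = 1 := Subtype.ext hb
      rw [this, orderOf_one] at hx
      exact (Fact.out : p.Prime).one_lt.ne hx
    · rw [IsPGroup.iff_card, Nat.card_zpowers, Subgroup.orderOf_coe, hx]
      exact ⟨1, (pow_one p).symm⟩
  obtain ⟨S, ⟨hS1, hSp, M₁, M₂, hM1, hM2, hne12, hSM1, hSM2⟩, hmax⟩ := (Set.toFinite Φ).exists_maximal hne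
  obtain ⟨M, hM, hNM⟩ := exists_maxLoc_ge (⟨S, hSp, hS1, rfl⟩ : IsLoc p (normalizer (S : Set G)))
  -- if S is not Sylow in a member then that member is M
  have key : ∀ L : Subgroup G, IsMaxLoc p L → S ≤ L → ¬ IsSylOf p S L → L = M := by
    intro L hL hSL hnot
    obtain ⟨T, hST, hTL, hTN, hT⟩ := exists_gt_normalizer hSL hSp hnot
    by_contra hLM
    have : T ∈ Φ := ⟨fun hb => hS1 (le_bot_iff.mp (hb ▸ hST.le)), hT, L, M, hL, hM, hLM, hTL, hTN.trans hNM⟩
    exact absurd (hmax this hST.le) (not_le_of_gt hST)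
  have key2 : ∀ L L' : Subgroup G, IsMaxLoc p L → IsMaxLoc p L' → S ≤ L → S ≤ L' → ¬ IsSylOf p S L →
      IsSylOf p S L' → ∃ M₁ M₂ S : Subgroup G, IsMaxLoc p M₁ ∧ IsMaxLoc p M₂ ∧ M₁ ≠ M₂ ∧
        IsSylOf p S M₁ ∧ IsSylOf p S M₂ := by
    intro L L' hL hL' hSL hSL' hnot hsyl
    obtain ⟨T, hST, hTL, hTN, hT⟩ := exists_gt_normalizer hSL hSp hnot
    obtain ⟨t, htT, htS⟩ := SetLike.exists_of_lt hST
    have hSt : S.map (MulAut.conj t).toMonoidHom = S := H65.Semi.map_conj_eq_of_mem_normalizer (hTN htT)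
    have hSt' : S.map (MulAut.conj t⁻¹).toMonoidHom = S :=
      H65.Semi.map_conj_eq_of_mem_normalizer (inv_mem (hTN htT))
    have htL' : t ∉ L' := by
      intro ht
      have h1 : IsPGroup p (zpowers t ⊔ S : Subgroup G) := by
        apply hT.to_le
        exact sup_le (zpowers_le.mpr htT) hST.le
      have h2 := hsyl.2.2 _ h1 (sup_le (zpowers_le.mpr ht) hSL') le_sup_right
      apply htS
      rw [← h2]
      exact mem_sup_left (mem_zpowers t)
    refine ⟨L', L'.map (MulAut.conj t).toMonoidHom, S, hL', isMaxLoc_conj hL' t, ?_, hsyl, ?_, hSp, ?_⟩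
    · intro heq
      apply htL'
      rw [← normalizer_self hL', mem_normalizer_iff]
      intro x
      constructor
      · intro hx
        rw [heq]
        exact ⟨x, hx, rfl⟩
      · intro hx
        rw [heq] at hx
        obtain ⟨y, hy, hyx⟩ := hx
        have : y = x := (MulAut.conj t).injective hyx
        rwa [← this]
    · rw [← hSt]
      exact Subgroup.map_mono hSL'
    · intro U hU hUL hSU
      have h1 := hsyl.2.2 (U.map (MulAut.conj t⁻¹).toMonoidHom) (hU.map _) (by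
        have := Subgroup.map_mono (f := (MulAut.conj t⁻¹).toMonoidHom) hUL
        rwa [H65.Semi.map_conj_inv_map_conj] at this) (by
        rw [← hSt']
        exact Subgroup.map_mono hSU)
      rw [← H65.Semi.map_conj_map_conj_inv U t, h1, hSt]
  by_cases h1 : IsSylOf p S M₁
  · by_cases h2 : IsSylOf p S M₂
    · exact ⟨M₁, M₂, S, hM1, hM2, hne12, h1, h2⟩
    · exact key2 M₂ M₁ hM2 hM1 hSM2 hSM1 h2 h1
  · by_cases h2 : IsSylOf p S M₂
    · exact key2 M₁ M₂ hM1 hM2 hSM1 hSM2 h1 h2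
    · exact absurd ((key M₁ hM1 hSM1 h1).trans (key M₂ hM2 hSM2 h2).symm) hne12

end H65.MaxLocal
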