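import Mathlib

/-!
Groups in which every nontrivial subgroup of a cyclic subgroup of even order has the same
normalizer: elementwise form and first consequences.
-/
set_option autoImplicit false

namespace H65.NX

open Subgroup

/-- elementwise form of the hypothesis -/
structure Nest (G : Type*) [Group G] : Prop where
  cyc : ∀ t x c : G, t ≠ 1 → t * t = 1 → t ∈ zpowers x → c * t = t * c → c * x * c⁻¹ ∈ zpowers x
  odd : ∀ t x g : G, t ≠ 1 → t * t = 1 → x ≠ 1 → Odd (orderOf x) → x * t = t * x →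
    g * x * g⁻¹ ∈ zpowers x → g * t = t * g
  odd' : ∀ t x c : G, t ≠ 1 → t * t = 1 → Odd (orderOf x) → x * t = t * x → c * t = t * c →
    c * x * c⁻¹ ∈ zpowers x

section basic

variable {G : Type*} [Group G]

theorem orderOf_inv_two {t : G} (h1 : t ≠ 1) (h2 : t * t = 1) : orderOf t = 2 :=
  orderOf_eq_prime (by rw [pow_two, h2]) h1

theorem mem_normalizer_zpowers [Finite G] {x g : G} :
    g ∈ normalizer ((zpowers x : Subgroup G) : Set G) ↔ g * x * g⁻¹ ∈ zpowers x := by
  constructor
  · intro h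
    exact (mem_normalizer_iff.mp h x).mp (mem_zpowers x)
  · intro h
    have hle : (zpowers x).map (MulAut.conj g).toMonoidHom ≤ zpowers x := by
      rw [map_le_iff_le_comap, zpowers_le]
      exact h
    have hcard : Nat.card ((zpowers x).map (MulAut.conj g).toMonoidHom) = Nat.card (zpowers x) :=
      Nat.card_congr ((zpowers x).equivMapOfInjective _ (MulAut.conj g).injective).toEquiv.symm
    have heq := Subgroup.eq_of_le_of_card_ge hle hcard.ge
    rw [mem_normalizer_iff]
    intro y
    constructor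
    · intro hy
      rw [← heq]
      exact ⟨y, hy, rfl⟩
    · intro hy
      rw [← heq] at hy
      obtain ⟨z, hz, hzy⟩ := hy
      have : z = y := (MulAut.conj g).injective hzy
      rwa [← this]

theorem comm_of_conj_mem {t g : G} (h1 : t ≠ 1) (h2 : t * t = 1)
    (h : g * t * g⁻¹ ∈ zpowers t) : g * t = t * g := by
  obtain ⟨k, hk⟩ := h
  have hk : t ^ k = g * t * g⁻¹ := hk
  rcases Int.even_or_odd' k with ⟨m, rfl | rfl⟩
  · exfalso
    apply h1
    have h3 : t ^ (2 * m) = 1 := by rw [zpow_mul]; simp [zpow_ofNat, pow_two, h2]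
    rw [h3] at hk
    have : g * t * g⁻¹ = 1 := hk.symm
    calc t = g⁻¹ * (g * t * g⁻¹) * g := by group
      _ = 1 := by rw [this]; group
  · have h3 : t ^ (2 * m + 1) = t := by
      rw [zpow_add, zpow_mul]; simp [zpow_ofNat, pow_two, h2]
    rw [h3] at hk
    calc g * t = (g * t * g⁻¹) * g := by group
      _ = t * g := by rw [← hk]

theorem conj_mem_of_comm {t g : G} (h : g * t = t * g) : g * t * g⁻¹ ∈ zpowers t := by
  rw [h, mul_inv_cancel_right]; exact mem_zpowers t

theorem of_hii [Finite G]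
    (hii : ∀ X : Subgroup G, IsCyclic ↥X → Even (Nat.card ↥X) → ∀ Y : Subgroup G, Y ≤ X → Y ≠ ⊥ →
      Subgroup.normalizer (X : Set G) = Subgroup.normalizer (Y : Set G)) : Nest G := by
  have key : ∀ x y : G, Even (orderOf x) → y ∈ zpowers x → y ≠ 1 →
      normalizer ((zpowers x : Subgroup G) : Set G) = normalizer ((zpowers y : Subgroup G) : Set G) := by
    intro x y hx hy hy1
    apply hii (zpowers x) inferInstance (by rwa [Nat.card_zpowers]) (zpowers y)
      (by rwa [zpowers_le])
    rwa [Ne, zpowers_eq_bot]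
  have hev : ∀ x t : G, t ≠ 1 → t * t = 1 → t ∈ zpowers x → Even (orderOf x) := by
    intro x t h1 h2 h3
    rw [even_iff_two_dvd, ← orderOf_inv_two h1 h2]
    exact orderOf_dvd_of_mem_zpowers h3
  have hprod : ∀ x t : G, t ≠ 1 → t * t = 1 → Odd (orderOf x) → x * t = t * x →
      x ∈ zpowers (t * x) ∧ t ∈ zpowers (t * x) := by
    intro x t h1 h2 h3 h4
    have hc : Commute t x := h4.symm
    constructor
    · obtain ⟨k, hk⟩ := h3
      refine ⟨((2 * k + 1 + 1 : ℕ) : ℤ), ?_⟩
      show (t * x) ^ ((2 * k + 1 + 1 : ℕ) : ℤ) = x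
      rw [zpow_natCast, hc.mul_pow]
      have h5 : t ^ (2 * k + 1 + 1) = 1 := by
        rw [show 2 * k + 1 + 1 = 2 * (k + 1) by ring, pow_mul, pow_two, h2, one_pow]
      rw [h5, one_mul, pow_succ, ← hk, pow_orderOf_eq_one, one_mul]
    · refine ⟨(orderOf x : ℤ), ?_⟩
      show (t * x) ^ ((orderOf x : ℕ) : ℤ) = t
      rw [zpow_natCast, hc.mul_pow, pow_orderOf_eq_one, mul_one]
      obtain ⟨k, hk⟩ := h3
      rw [hk, pow_succ, pow_mul, pow_two, h2, one_pow, one_mul]
  refine ⟨?_, ?_, ?_⟩
  · intro t x c h1 h2 h3 h4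
    rw [← mem_normalizer_zpowers, key x t (hev x t h1 h2 h3) h3 h1, mem_normalizer_zpowers]
    exact conj_mem_of_comm h4
  · intro t x g h1 h2 h3 h4 h5 h6
    obtain ⟨h7, h8⟩ := hprod x t h1 h2 h4 h5
    rw [← mem_normalizer_zpowers, ← key (t * x) x (hev _ t h1 h2 h8) h7 h3,
      key (t * x) t (hev _ t h1 h2 h8) h8 h1, mem_normalizer_zpowers] at h6
    exact comm_of_conj_mem h1 h2 h6
  · intro t x c h1 h2 h4 h5 h6
    obtain ⟨h7, h8⟩ := hprod x t h1 h2 h4 h5
    by_cases hx : x = 1
    · subst hx; simp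
    rw [← mem_normalizer_zpowers, ← key (t * x) x (hev _ t h1 h2 h8) h7 hx,
      key (t * x) t (hev _ t h1 h2 h8) h8 h1, mem_normalizer_zpowers]
    exact conj_mem_of_comm h6

theorem Nest.map {H : Type*} [Group H] (hN : Nest G) (f : H →* G) (hf : Function.Injective f) :
    Nest H := by
  have hz : ∀ x y : H, y ∈ zpowers x ↔ f y ∈ zpowers (f x) := by
    intro x y
    constructor
    · rintro ⟨k, rfl⟩
      exact ⟨k, by simp⟩
    · rintro ⟨k, hk⟩
      refine ⟨k, hf ?_⟩
      show f (x ^ k) = f y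
      rw [map_zpow]; exact hk
  have h1 : ∀ x : H, x ≠ 1 → f x ≠ 1 := fun x hx h => hx (hf (h.trans (map_one f).symm))
  refine ⟨?_, ?_, ?_⟩
  · intro t x c a b c' d
    have := hN.cyc (f t) (f x) (f c) (h1 t a) (by rw [← map_mul, b, map_one])
      ((hz _ _).mp c') (by rw [← map_mul, d, map_mul])
    rw [hz]; simpa using this
  · intro t x g a b c d e h
    have := hN.odd (f t) (f x) (f g) (h1 t a) (by rw [← map_mul, b, map_one]) (h1 x c)
      (by rwa [orderOf_injective f hf]) (by rw [← map_mul, e, map_mul])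
      (by rw [hz] at h; simpa using h)
    exact hf (by simpa using this)
  · intro t x c a b d e h
    have := hN.odd' (f t) (f x) (f c) (h1 t a) (by rw [← map_mul, b, map_one])
      (by rwa [orderOf_injective f hf]) (by rw [← map_mul, e, map_mul])
      (by rw [← map_mul, h, map_mul])
    rw [hz]; simpa using this

theorem Nest.subgroup (hN : Nest G) (H : Subgroup G) : Nest H :=
  hN.map H.subtype H.subtype_injective

/-! ### elements of order 4 -/

variable {z w e f u c : G}

/-- (B1) -/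
theorem b1 (hN : Nest G) (hz : z ≠ 1) (hz2 : z * z = 1) (he : e * e = z) (hc : c * z = z * c) :
    c * e * c⁻¹ = e ∨ c * e * c⁻¹ = e⁻¹ := by
  have h1 := hN.cyc z e c hz hz2 ⟨2, by show e ^ (2 : ℤ) = z; rw [zpow_ofNat, pow_two, he]⟩ hc
  obtain ⟨k, hk⟩ := h1
  have hk : e ^ k = c * e * c⁻¹ := hk
  have he4 : e ^ (4 : ℤ) = 1 := by
    have : e ^ (4 : ℤ) = (e * e) * (e * e) := by
      rw [zpow_ofNat]; simp [pow_succ, mul_assoc]
    rw [this, he, hz2]
  have hsq : e ^ (2 * k) = z := by
    have : e ^ (2 * k) = e ^ k * e ^ k := by rw [two_mul, zpow_add]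
    rw [this, hk]
    calc c * e * c⁻¹ * (c * e * c⁻¹) = c * (e * e) * c⁻¹ := by group
      _ = z := by rw [he, hc, mul_inv_cancel_right]
  rcases Int.even_or_odd' k with ⟨m, rfl | rfl⟩
  · exfalso
    apply hz
    rw [← hsq, show 2 * (2 * m) = 4 * m by ring, zpow_mul, he4, one_zpow]
  · rcases Int.even_or_odd' m with ⟨n, rfl | rfl⟩
    · left
      rw [← hk, show 2 * (2 * n) + 1 = 4 * n + 1 by ring, zpow_add, zpow_mul, he4, one_zpow,
        one_mul, zpow_one]
    · right
      rw [← hk, show 2 * (2 * n + 1) + 1 = 4 * (n + 1) + (-1) by ring, zpow_add, zpow_mul, he4,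
        one_zpow, one_mul, zpow_neg_one]

theorem inv_of_sq (hz2 : z * z = 1) (he : e * e = z) : e⁻¹ = e * z := by
  rw [inv_eq_iff_mul_eq_one]
  calc e * (e * z) = (e * e) * z := by group
    _ = 1 := by rw [he, hz2]

theorem inv_of_sq' (hz2 : z * z = 1) (he : e * e = z) : e⁻¹ = z * e := by
  rw [inv_eq_iff_mul_eq_one]
  have : e * z = z * e := by rw [← he]; group
  calc e * (z * e) = (e * z) * e := by group
    _ = z * (e * e) := by rw [this]; group
    _ = 1 := by rw [he, hz2]

theorem comm_sq (he : e * e = z) : e * z = z * e := by rw [← he]; group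

/-- (B2) -/
theorem b2 (hN : Nest G) (hz : z ≠ 1) (hz2 : z * z = 1) (hw : w ≠ 1) (hw2 : w * w = 1)
    (hzw : z ≠ w) (he : e * e = z) (hf : f * f = w) (h1 : e * w = w * e) (h2 : f * z = z * f) :
    e * f = f * e := by
  rcases b1 hN hz hz2 he h2 with h | h
  · calc e * f = (f * e * f⁻¹) * f := by rw [h]
      _ = f * e := by group
  · rcases b1 hN hw hw2 hf h1 with h' | h'
    · calc e * f = (e * f * e⁻¹) * e := by group
        _ = f * e := by rw [h']
    · exfalso
      apply hzw
      -- e f e⁻¹ = f⁻¹, f e f⁻¹ = e⁻¹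
      have h3 : e * f = f⁻¹ * e := by rw [← h']; group
      have h4 : f * e = e⁻¹ * f := by rw [← h]; group
      -- e f = f⁻¹ e ⇒ f e f = e ; f e = e⁻¹ f ⇒ e f e = f
      have h5 : f * e * f = e := by rw [mul_assoc, h3]; group
      have h6 : e * e = f * f := by
        have : f * e * f = e⁻¹ * f * f := by rw [h4]
        rw [h5] at this
        calc e * e = e * (e⁻¹ * f * f) := by rw [← this]
          _ = f * f := by group
      rw [← he, ← hf, h6]

/-- (B3) -/
theorem b3 (hN : Nest G) (hz : z ≠ 1) (hz2 : z * z = 1) (he : e * e = z) (hu : u * u = 1)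
    (hue : u * e = e * u) (hc : c * z = z * c) :
    c * u * c⁻¹ = u ∨ c * u * c⁻¹ = u * z := by
  have heu : (e * u) * (e * u) = z := by
    calc (e * u) * (e * u) = e * (u * e) * u := by group
      _ = (e * e) * (u * u) := by rw [hue]; group
      _ = z := by rw [he, hu, mul_one]
  have hui : u⁻¹ = u := inv_eq_of_mul_eq_one_left hu
  have hceu : Commute e u := hue.symm
  have hzu : z * u = u * z := by
    have : Commute (e * e) u := hceu.mul_left hceu
    rw [he] at this; exact this
  have hei := inv_of_sq hz2 he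
  have hei' := inv_of_sq' hz2 he
  have e1 := b1 hN hz hz2 he hc
  have e2 := b1 hN hz hz2 heu hc
  have e3 : c * u * c⁻¹ = (c * e * c⁻¹)⁻¹ * (c * (e * u) * c⁻¹) := by group
  have h4 : (e * u)⁻¹ = e⁻¹ * u := by
    rw [mul_inv_rev, hui]; exact hceu.symm.inv_right
  rcases e1 with e1 | e1 <;> rcases e2 with e2 | e2 <;> rw [e3, e1, e2]
  · left; group
  · right
    rw [h4]
    have h5 : e⁻¹ * (e⁻¹ * u) = (e * e)⁻¹ * u := by group
    rw [h5, he, inv_eq_of_mul_eq_one_left hz2, hzu]
  · right
    rw [inv_inv, ← mul_assoc, he, hzu]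
  · left
    rw [h4]; group

end basic

end H65.NX
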