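import Cfsg.Agent.Lib.H65.NX10
import Cfsg.Agent.Lib.H11.BSW.Main

/-!
Class I, conclusion.
-/
set_option autoImplicit false
set_option linter.unusedSectionVars false
set_option linter.style.haveILetI false

namespace H65.NX

open Subgroup
open scoped Pointwise

section gen

variable {G : Type*} [Group G] [Finite G]

theorem D1.Vsmall {T : Subgroup G} {z x r : G} (h : D1 T z x r)
    (he : ∀ e ∈ T, e * x = x * e → e * e ≠ z) : ∀ v ∈ T, v * x = x * v → v = 1 ∨ v = z := by
  intro v hv hvx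
  by_cases hv1 : v = 1
  · exact Or.inl hv1
  right
  obtain ⟨k, hk⟩ := exists_order h.hT2 hv hv1
  have hvk : ∀ n : ℕ, v ^ n * x = x * v ^ n := fun n => (show Commute v x from hvx).pow_left n
  have hw : v ^ 2 ^ k = z :=
    h.one.uniq x _ h.x_ne h.hxo h.hxz (pow_ne_one' hk) (pow_sq_one hk) (hvk _)
  have hk0 : k = 0 := by
    by_contra h0
    obtain ⟨j, rfl⟩ := Nat.exists_eq_succ_of_ne_zero h0
    apply he (v ^ 2 ^ j) (pow_mem hv _) (hvk _)
    rw [← pow_two, ← pow_mul, ← pow_succ]; exact hw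
  rwa [hk0, pow_zero, pow_one] at hw

theorem D1.cover (hN : Nest G) (hZ : ZS G) {T : Sylow 2 G} {z x r : G}
    (h : D1 (T : Subgroup G) z x r) {t : G} (ht : t ∈ (T : Subgroup G)) :
    t * x = x * t ∨ (r * t) * x = x * (r * t) := by
  by_contra hcon
  push Not at hcon
  obtain ⟨hc1, hc2⟩ := hcon
  have hri : r⁻¹ = r := inv_eq_of_mul_eq_one_left h.hr2
  have hz1 := h.one.ne
  have hz2 := h.one.sq
  obtain ⟨k, hk⟩ := orderOf_of_mem_two T.2 ht
  have hex : ∃ j, t ^ 2 ^ j * x = x * t ^ 2 ^ j :=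
    ⟨k, by rw [← hk, pow_orderOf_eq_one, one_mul, mul_one]⟩
  classical
  have hf := Nat.find_spec hex
  have hf0 : Nat.find hex ≠ 0 := by
    intro h'
    rw [h', pow_zero, pow_one] at hf
    exact hc1 hf
  obtain ⟨m, hm⟩ := Nat.exists_eq_succ_of_ne_zero hf0
  have hmin : ¬ (t ^ 2 ^ m * x = x * t ^ 2 ^ m) := Nat.find_min hex (by omega)
  have hjT : t ^ 2 ^ m ∈ (T : Subgroup G) := pow_mem ht _
  set j := t ^ 2 ^ m with hj
  have hjj : (j * j) * x = x * (j * j) := by
    have : j * j = t ^ 2 ^ (Nat.find hex) := by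
      rw [hm, Nat.succ_eq_add_one, pow_succ, pow_mul, pow_two]
    rw [this]; exact hf
  -- any element of `T` inverting `x`
  have hinvc : ∀ i, i * x * i⁻¹ = x⁻¹ → (r * i) * x = x * (r * i) := by
    intro i hi
    have h1 : (r * i) * x * (r * i)⁻¹ = x := by
      calc (r * i) * x * (r * i)⁻¹ = r * (i * x * i⁻¹) * r⁻¹ := by group
        _ = (r * x * r⁻¹)⁻¹ := by rw [hi]; group
        _ = x := by rw [h.rx hN, inv_inv]
    exact mul_inv_eq_iff_eq_mul.mp h1
  have hjx : j * x * j⁻¹ = x⁻¹ := by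
    rcases conj_prime h.hp (hN.odd' z x j hz1 hz2 h.hxo h.hxz (h.one.cen j hjT)) hjj with h1 | h1
    · exact absurd h1 hmin
    · exact h1
  have hrj := hinvc j hjx
  rcases Nat.eq_zero_or_pos m with hm0 | hmpos
  · apply hc2
    rw [hj, hm0, pow_zero, pow_one] at hrj
    exact hrj
  obtain ⟨m', rfl⟩ := Nat.exists_eq_succ_of_ne_zero hmpos.ne'
  set c := t ^ 2 ^ m' with hc
  have hcT : c ∈ (T : Subgroup G) := pow_mem ht _
  have hcc : c * c = j := by rw [hj, hc, Nat.succ_eq_add_one, pow_succ 2 m', pow_mul, pow_two]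
  have hvT : r * j ∈ (T : Subgroup G) := mul_mem h.hrT hjT
  have hjrv : j = r * (r * j) := by rw [← mul_assoc, h.hr2, one_mul]
  by_cases he : ∃ e ∈ (T : Subgroup G), e * x = x * e ∧ e * e = z
  · obtain ⟨e, heT, hex', hee⟩ := he
    have h1 : (c * c) * e * (c * c)⁻¹ = e := by
      have h2 : (c * c) * e * (c * c)⁻¹ = c * (c * e * c⁻¹) * c⁻¹ := by group
      rcases b1 hN hz1 hz2 hee (h.one.cen c hcT) with h3 | h3
      · rw [h2, h3, h3]
      · rw [h2, h3]
        have : c * e⁻¹ * c⁻¹ = (c * e * c⁻¹)⁻¹ := by group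
        rw [this, h3, inv_inv]
    have h4 : j * e * j⁻¹ = e⁻¹ := by
      have h5 := h.Vcomm hN hvT hrj heT hex'
      calc j * e * j⁻¹ = r * ((r * j) * e * (r * j)⁻¹) * r⁻¹ := by
            conv_lhs => rw [hjrv]
            group
        _ = r * e * r⁻¹ := by rw [mul_inv_eq_iff_eq_mul.mpr h5]
        _ = e⁻¹ := h.rv hN heT hex'
    rw [hcc, h4] at h1
    apply hz1
    rw [← hee]
    exact inv_eq_iff_mul_eq_one.mp h1
  · push Not at he
    have hsm := h.Vsmall he
    have hjne : j ≠ 1 := by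
      intro h'; apply hmin; rw [h', one_mul, mul_one]
    have hj2 : j * j = 1 := by
      have h1 := h.rv hN hvT hrj
      calc j * j = (r * (r * j) * r⁻¹) * (r * j) := by
            rw [hri]
            conv_lhs => rw [hjrv]
            group
        _ = 1 := by rw [h1, inv_mul_cancel]
    have hjz : j ≠ z := by
      intro h'; apply hmin; rw [h']; exact h.hxz.symm
    have hinvs : ∀ i ∈ (T : Subgroup G), i ≠ 1 → i * i = 1 → i = z ∨ i = j ∨ i = j * z := by
      intro i hi hi1 hi2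
      by_cases hiz : i = z
      · exact Or.inl hiz
      right
      have h1 := inv_odd hN hz1 hz2 h.one.uniq (h.one.cen i hi) hi1 hi2 hiz h.hxo h.hxz
      have h2 : (j * i) * x = x * (j * i) := by
        have h3 : (j * i) * x * (j * i)⁻¹ = x := by
          calc (j * i) * x * (j * i)⁻¹ = j * (i * x * i⁻¹) * j⁻¹ := by group
            _ = (j * x * j⁻¹)⁻¹ := by rw [h1]; group
            _ = x := by rw [hjx, inv_inv]
        exact mul_inv_eq_iff_eq_mul.mp h3
      have h4 : i = j * (j * i) := by rw [← mul_assoc, hj2, one_mul]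
      rcases hsm _ (mul_mem hjT hi) h2 with h5 | h5
      · left; rw [h4, h5, mul_one]
      · right; rw [← h5]; exact h4
    obtain ⟨g, hgT, hgz⟩ := hZ T z h.one.mem hz1 hz2
    obtain ⟨g', hgT', hgj⟩ := hZ T j hjT hjne hj2
    have hcn : ∀ g w : G, w ≠ 1 → w * w = 1 → g * w * g⁻¹ ≠ 1 ∧ (g * w * g⁻¹) * (g * w * g⁻¹) = 1 := by
      intro g w hw1 hw2
      constructor
      · intro h'; apply hw1
        calc w = g⁻¹ * (g * w * g⁻¹) * g := by group
          _ = 1 := by rw [h']; group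
      · calc (g * w * g⁻¹) * (g * w * g⁻¹) = g * (w * w) * g⁻¹ := by group
          _ = 1 := by rw [hw2]; group
    obtain ⟨k', hk'⟩ : ∃ k', k' * j * k'⁻¹ = z := by
      have h1 := hcn g z hz1 hz2
      have h2 := hcn g' j hjne hj2
      rcases hinvs _ hgT' h2.1 h2.2 with h3 | h3 | h3
      · exact ⟨g', h3⟩
      · exact absurd h3 hgj
      · rcases hinvs _ hgT h1.1 h1.2 with h4 | h4 | h4
        · exact absurd h4 hgz
        · exact ⟨g⁻¹, by rw [← h4]; group⟩
        · refine ⟨g⁻¹ * g', ?_⟩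
          calc g⁻¹ * g' * j * (g⁻¹ * g')⁻¹ = g⁻¹ * (g' * j * g'⁻¹) * g := by group
            _ = z := by rw [h3, ← h4]; group
    have hee : (k' * c * k'⁻¹) * (k' * c * k'⁻¹) = z := by
      rw [← hk', ← hcc]; group
    have hord : ∀ e : G, e * e = z → orderOf e = 2 ^ (1 + 1) := by
      intro e he'
      apply orderOf_eq_prime_pow
      · rw [pow_one, pow_two, he']; exact hz1
      · rw [pow_succ, pow_one, pow_mul, pow_two, pow_two, he', hz2]
    have hP : IsPGroup 2 (zpowers (k' * c * k'⁻¹)) := by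
      apply IsPGroup.of_card (n := 1 + 1)
      rw [Nat.card_zpowers, hord _ hee]
    obtain ⟨h0, hh0, hh1⟩ := conj_into (M := centralizer ({z} : Set G)) T
      (fun t ht => mem_centralizer_singleton_iff.mpr (h.one.cen t ht)) hP (by
        rw [zpowers_le, mem_centralizer_singleton_iff]
        exact comm_sq hee)
    have h5 := hh1 _ (mem_zpowers (k' * c * k'⁻¹))
    set e := h0 * (k' * c * k'⁻¹) * h0⁻¹ with hedef
    have h6 : e * e = z := by
      calc e * e = h0 * ((k' * c * k'⁻¹) * (k' * c * k'⁻¹)) * h0⁻¹ := by rw [hedef]; group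
        _ = z := by
          rw [hee]
          exact mul_inv_eq_iff_eq_mul.mpr (mem_centralizer_singleton_iff.mp hh0)
    refine he e h5 ?_ h6
    refine comm_of_zmem hN hz1 hz2 ?_ (hord e h6) h.hxo h.hxz
    rw [← h6]; exact mul_mem (mem_zpowers e) (mem_zpowers e)

theorem odd_mem_core {z x : G} (hN : Nest G) (hz1 : z ≠ 1) (hz2 : z * z = 1)
    (hxo : Odd (orderOf x)) (hxz : x * z = z * x) :
    x ∈ (Cfsg.oddCore (centralizer ({z} : Set G))).map (centralizer ({z} : Set G)).subtype := by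
  have hxm : x ∈ centralizer ({z} : Set G) := mem_centralizer_singleton_iff.mpr hxz
  have hle : zpowers (⟨x, hxm⟩ : centralizer ({z} : Set G)) ≤
      Cfsg.oddCore (centralizer ({z} : Set G)) := by
    apply H1.Cores.le_pPrimeCore
    · constructor
      rintro _ ⟨k, rfl⟩ g
      have h1 := hN.odd' z x (g : G) hz1 hz2 hxo hxz (mem_centralizer_singleton_iff.mp g.2)
      obtain ⟨m, hm⟩ := h1
      have hm : x ^ m = (g : G) * x * (g : G)⁻¹ := hm
      refine ⟨m * k, ?_⟩
      apply Subtype.ext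
      show ((⟨x, hxm⟩ : centralizer ({z} : Set G)) ^ (m * k) : G) = _
      simp only [zpow_mul, SubgroupClass.coe_zpow, Subgroup.coe_mul, Subgroup.coe_inv, hm, conj_zpow]
    · rw [Nat.card_zpowers, Subgroup.orderOf_mk]
      exact (Nat.coprime_two_right).2 hxo
  exact ⟨⟨x, hxm⟩, hle (mem_zpowers _), rfl⟩

theorem core_odd {z y : G}
    (hy : y ∈ (Cfsg.oddCore (centralizer ({z} : Set G))).map (centralizer ({z} : Set G)).subtype) :
    y * z = z * y ∧ Odd (orderOf y) := by
  obtain ⟨⟨y, hym⟩, hy, rfl⟩ := hy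
  refine ⟨mem_centralizer_singleton_iff.mp hym, ?_⟩
  have h1 := H1.Cores.coprime_card_pPrimeCore (G := centralizer ({z} : Set G)) 2
  have h2 : orderOf (⟨y, hym⟩ : centralizer ({z} : Set G)) ∣
      Nat.card (Cfsg.oddCore (centralizer ({z} : Set G))) := by
    have := orderOf_dvd_natCard (⟨⟨y, hym⟩, hy⟩ : Cfsg.oddCore (centralizer ({z} : Set G)))
    rwa [Subgroup.orderOf_mk] at this
  rw [Subgroup.orderOf_mk] at h2
  exact (Nat.coprime_two_right.mp (Nat.Coprime.coprime_dvd_left h2 h1))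

end gen

universe u

theorem class1 {G : Type u} [Group G] [Finite G] [IsSimpleGroup G] (hN : Nest G) (hZ : ZS G)
    (T : Sylow 2 G) {z x : G} (h : C1 (T : Subgroup G) z) (hx1 : x ≠ 1) (hxo : Odd (orderOf x))
    (hxz : x * z = z * x) :
    ∃ (F : Type) (_ : Field F) (_ : Fintype F), Odd (Fintype.card F) ∧
      Nonempty (G ≃* Matrix.ProjectiveSpecialLinearGroup (Fin 2) F) := by
  obtain ⟨n, hp, hno⟩ := exists_prime_pow hx1 hxo
  have hnz : x ^ n * z = z * x ^ n := (show Commute x z from hxz).pow_left n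
  generalize x ^ n = x' at hp hno hnz
  clear hx1 hxo hxz n x
  obtain ⟨g, hgT, hgz⟩ := hZ T z h.mem h.ne h.sq
  set r := g * z * g⁻¹ with hr
  have hr1 : r ≠ 1 := by
    intro h'; apply h.ne
    calc z = g⁻¹ * r * g := by rw [hr]; group
      _ = 1 := by rw [h']; group
  have hr2 : r * r = 1 := by
    calc r * r = g * (z * z) * g⁻¹ := by rw [hr]; group
      _ = 1 := by rw [h.sq]; group
  have hD : D1 (T : Subgroup G) z x' r := ⟨h, hp, hno, hnz, hgT, hr1, hr2, hgz, T.2⟩
  have hri : r⁻¹ = r := inv_eq_of_mul_eq_one_left hr2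
  have hV : ∀ v, v ∈ (T : Subgroup G) ⊓ centralizer ({x'} : Set G) ↔
      v ∈ (T : Subgroup G) ∧ v * x' = x' * v := fun v => by
    rw [mem_inf, mem_centralizer_singleton_iff]
  have hcyc := hD.Vcyc hN
  have hrV : r ∉ (T : Subgroup G) ⊓ centralizer ({x'} : Set G) := fun h' =>
    hD.rx_ne hN ((hV r).mp h').2
  have hzV : z ∈ (T : Subgroup G) ⊓ centralizer ({x'} : Set G) := (hV z).mpr ⟨h.mem, hnz.symm⟩
  obtain ⟨n, hn, hd⟩ := dihedral_equiv hcyc inf_le_left (fun h' => h.ne (by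
      rw [h', mem_bot] at hzV; exact hzV)) hgT hrV hr2
    (fun v hv => hD.rv hN ((hV v).mp hv).1 ((hV v).mp hv).2) (fun a ha => by
      rcases hD.cover hN hZ ha with h1 | h1
      · exact Or.inl ((hV a).mpr ⟨ha, h1⟩)
      · exact Or.inr ((hV _).mpr ⟨mul_mem hgT ha, h1⟩))
  have hOx := odd_mem_core hN h.ne h.sq hno hnz
  -- `V` centralizes the odd elements
  have hVO : ∀ v ∈ (T : Subgroup G), v * x' = x' * v → ∀ y, Odd (orderOf y) → y * z = z * y →
      v * y = y * v := by
    intro v hv hvx y hyo hyz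
    by_cases hv1 : v = 1
    · rw [hv1, one_mul, mul_one]
    obtain ⟨k, hk⟩ := exists_order T.2 hv hv1
    have hw : v ^ 2 ^ k = z :=
      h.uniq x' _ hD.x_ne hno hnz (pow_ne_one' hk) (pow_sq_one hk)
        ((show Commute v x' from hvx).pow_left _)
    exact comm_of_zmem hN h.ne h.sq (by rw [← hw]; exact pow_mem (mem_zpowers v) _) hk hyo hyz
  have hCO : (T : Subgroup G) ⊓ centralizer (((Cfsg.oddCore (centralizer ({z} : Set G))).map
      (centralizer ({z} : Set G)).subtype : Subgroup G) : Set G) =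
      (T : Subgroup G) ⊓ centralizer ({x'} : Set G) := by
    apply le_antisymm
    · intro v hv
      exact (hV v).mpr ⟨hv.1, (mem_centralizer_iff.mp hv.2 x' hOx).symm⟩
    · intro v hv
      refine ⟨hv.1, mem_centralizer_iff.mpr ?_⟩
      intro y hy
      obtain ⟨h1, h2⟩ := core_odd hy
      exact (hVO v ((hV v).mp hv).1 ((hV v).mp hv).2 y h2 h1).symm
  refine H11.BSW.Main.dihedral T n hn hd z (orderOf_inv_two h.ne h.sq) h.mem h.cen _ rfl ?_ ?_ ?_
  · intro _
    rw [hCO]
    refine ⟨hcyc, ?_⟩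
    rw [relIndex_eq_two_iff_exists_notMem_and']
    refine ⟨r, hgT, hrV, fun b hb => ?_⟩
    rcases hD.cover hN hZ hb with h1 | h1
    · exact Or.inr ((hV b).mpr ⟨hb, h1⟩)
    · exact Or.inl ((hV _).mpr ⟨mul_mem hgT hb, h1⟩)
  · intro s hs hsO y hy
    obtain ⟨hyz, hyo⟩ := core_odd hy
    have hsV : s ∉ (T : Subgroup G) ⊓ centralizer ({x'} : Set G) := by
      intro h'
      rw [← hCO] at h'
      exact hsO h'.2
    have h1 : (r * s) * x' = x' * (r * s) := by
      rcases hD.cover hN hZ hs with h1 | h1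
      · exact absurd ((hV s).mpr ⟨hs, h1⟩) hsV
      · exact h1
    have h2 := hVO _ (mul_mem hgT hs) h1 y hyo hyz
    have h3 := inv_odd hN h.ne h.sq h.uniq (h.cen r hgT) hr1 hr2 hgz hyo hyz
    calc s * y * s⁻¹ = r * ((r * s) * y * (r * s)⁻¹) * r⁻¹ := by
          have : s = r * (r * s) := by rw [← mul_assoc, hr2, one_mul]
          conv_lhs => rw [this]
          group
      _ = y⁻¹ := by rw [mul_inv_eq_iff_eq_mul.mpr h2, h3]
  · intro Y hYO hY1 g' hg'
    obtain ⟨⟨y, hyY⟩, hy1'⟩ := Subgroup.ne_bot_iff_exists_ne_one.mp hY1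
    have hy1 : y ≠ 1 := fun h' => hy1' (Subtype.ext h')
    have h1 := (mem_normalizer_iff.mp hg' y).mp hyY
    obtain ⟨h2, -⟩ := core_odd (hYO h1)
    obtain ⟨hyz, hyo⟩ := core_odd (hYO hyY)
    have h3 : g'⁻¹ * z * g' = z := by
      apply h.uniq y _ hy1 hyo hyz
      · intro h'; apply h.ne
        calc z = g' * (g'⁻¹ * z * g') * g'⁻¹ := by group
          _ = 1 := by rw [h']; group
      · calc (g'⁻¹ * z * g') * (g'⁻¹ * z * g') = g'⁻¹ * (z * z) * g' := by group
          _ = 1 := by rw [h.sq]; group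
      · calc (g'⁻¹ * z * g') * y = g'⁻¹ * (z * (g' * y * g'⁻¹)) * g' := by group
          _ = y * (g'⁻¹ * z * g') := by rw [← h2]; group
    rw [mem_centralizer_singleton_iff]
    calc g' * z = g' * (g'⁻¹ * z * g') := by rw [h3]
      _ = z * g' := by group

end H65.NX
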