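import Cfsg.Agent.Lib.H65.NX13
import Cfsg.Agent.Lib.H65.NX11
import Cfsg.Agent.Lib.H36.CITfin
import Cfsg.Agent.Lib.H8.SuzSylow

/-!
The simple groups satisfying the nesting condition.
-/
set_option autoImplicit false
set_option linter.unusedSectionVars false
set_option linter.style.haveILetI false

namespace H65.NX

open Subgroup
open scoped Pointwise

universe u

theorem dihedral_case {G : Type u} [Group G] [Finite G] [IsSimpleGroup G] (h3 : C3 G)
    (T : Sylow 2 G) (n : ℕ) (hn : 2 ≤ n) (hd : Nonempty ((T : Subgroup G) ≃* DihedralGroup n)) :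
    ∃ (F : Type) (_ : Field F) (_ : Fintype F), Odd (Fintype.card F) ∧
      Nonempty (G ≃* Matrix.ProjectiveSpecialLinearGroup (Fin 2) F) := by
  have hT1 : (T : Subgroup G) ≠ ⊥ := by
    intro h'
    obtain ⟨e⟩ := hd
    have h1 : Nat.card (T : Subgroup G) = 2 * n := by
      rw [Nat.card_congr e.toEquiv, DihedralGroup.nat_card]
    rw [h', Subgroup.card_bot] at h1
    omega
  obtain ⟨z, hzT, hz1, hz2, hzc⟩ := exists_central_invol T.2 hT1
  have hO : (Cfsg.oddCore (centralizer ({z} : Set G))).map (centralizer ({z} : Set G)).subtype = ⊥ := by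
    rw [eq_bot_iff]
    intro y hy
    obtain ⟨h1, h2⟩ := core_odd hy
    rw [mem_bot]
    exact eq_one_of_odd_mem T.2 (h3 T z hzT hz1 hz2 hzc y h1) h2
  refine H11.BSW.Main.dihedral T n hn hd z (orderOf_inv_two hz1 hz2) hzT hzc ⊥ hO.symm ?_ ?_ ?_
  · intro h'; exact absurd rfl h'
  · intro s _ _ y hy
    rw [mem_bot] at hy
    rw [hy]; group
  · intro Y hY hY1
    exact absurd (le_bot_iff.mp hY) hY1

theorem ti_case {G : Type u} [Group G] [Finite G] [IsSimpleGroup G]
    (hna : ∃ a b : G, a * b ≠ b * a) (hN : Nest G) (h3 : C3 G) (hZ : ZS G)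
    (hT : ∀ T : Sylow 2 G, ∀ u ∈ (T : Subgroup G), u * u = 1 → ∀ c ∈ (T : Subgroup G), c * u = u * c) :
    ∃ (F : Type) (_ : Field F) (_ : Fintype F),
      Nonempty (G ≃* Matrix.ProjectiveSpecialLinearGroup (Fin 2) F) := by
  haveI : Fact (Nat.Prime 2) := ⟨Nat.prime_two⟩
  have hab := abelian_of_central hN h3 hZ hT
  have hSep : Lead.CIT.Sep G := by
    intro x t ht hx hxt
    have ht1 : t ≠ 1 := by rintro rfl; rw [orderOf_one] at ht; omega
    have ht2 : t * t = 1 := by rw [← pow_two, ← ht, pow_orderOf_eq_one]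
    have h1 : IsPGroup 2 (zpowers t) := IsPGroup.of_card (n := 1) (by rw [Nat.card_zpowers, ht]; rfl)
    obtain ⟨T, hTt⟩ := h1.exists_le_sylow
    have htT : t ∈ (T : Subgroup G) := hTt (mem_zpowers t)
    exact eq_one_of_odd_mem T.2 (h3 T t htT ht1 ht2 (fun c hc => hT T t htT ht2 c hc) x hxt) hx
  have hTI := H36.CITfin.ti_of_abelian hSep hab
  rcases H36.CITfin.classify hna hSep with ⟨-, F, _, _, n, -, hF, he⟩ | ⟨-, -, F, _, _, m, hm, hF, ⟨e⟩⟩ |
    ⟨h, -⟩ | ⟨h, -⟩
  · exact ⟨F, inferInstance, inferInstance, he⟩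
  · exfalso
    obtain ⟨P⟩ : Nonempty (Sylow 2 (Cfsg.Sz F m)) := inferInstance
    obtain ⟨hc, -, hcc, -⟩ := H8.SuzSylow.sylow_two_structure hm hF P
    have hcomm : ∀ a b : P, a * b = b * a := by
      intro a b
      have h2 : IsPGroup 2 ((P : Subgroup (Cfsg.Sz F m)).map e.symm.toMonoidHom) := P.2.map _
      obtain ⟨T, hT'⟩ := h2.exists_le_sylow
      have h4 := hab T (e.symm a) (hT' ⟨a, a.2, rfl⟩) (e.symm b) (hT' ⟨b, b.2, rfl⟩)
      apply Subtype.ext
      apply e.symm.injective
      rw [Subgroup.coe_mul, Subgroup.coe_mul, map_mul, map_mul]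
      exact h4
    have h5 : commutator P = ⊥ := by
      rw [commutator_def, commutator_eq_bot_iff_le_centralizer]
      intro a _
      rw [mem_centralizer_iff]
      intro b _
      exact hcomm b a
    have h6 : Subgroup.center P = ⊤ := by
      rw [eq_top_iff]
      intro a _
      rw [mem_center_iff]
      intro b
      exact hcomm b a
    rw [h5, h6] at hcc
    have h7 : Nat.card P = 1 := by
      rw [← Subgroup.card_top (G := P), hcc, Subgroup.card_bot]
    rw [h7] at hc
    have h8 : 1 < (2 ^ (2 * m + 1)) ^ 2 := by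
      apply Nat.one_lt_pow two_ne_zero
      exact Nat.one_lt_pow (by omega) (by norm_num)
    omega
  · exact absurd hTI h
  · exact absurd hTI h

theorem simple_case {G : Type u} [Group G] [Finite G] [IsSimpleGroup G]
    (hna : ∃ a b : G, a * b ≠ b * a) (hN : Nest G) :
    ∃ (F : Type) (_ : Field F) (_ : Fintype F),
      Nonempty (G ≃* Matrix.ProjectiveSpecialLinearGroup (Fin 2) F) := by
  have hZ := zs_of_simple hna
  have h2 := H36.CITfin.even_card hna
  by_cases h3 : C3 G
  · rcases class3 hN h3 hZ h2 with ⟨T, n, hn, hd⟩ | hT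
    · obtain ⟨F, _, _, -, he⟩ := dihedral_case h3 T n hn hd
      exact ⟨F, inferInstance, inferInstance, he⟩
    · exact ti_case hna hN h3 hZ hT
  · unfold C3 at h3
    push Not at h3
    obtain ⟨T, z, hzT, hz1, hz2, hzc, c, hcz, hcT⟩ := h3
    obtain ⟨x, hx1, hxo, hxz⟩ : ∃ x, x ≠ 1 ∧ Odd (orderOf x) ∧ x * z = z * x := by
      by_contra hcon
      push Not at hcon
      have h4 : IsPGroup 2 (centralizer ({z} : Set G)) := by
        apply isPGroup_centralizer
        intro x hxz hxo
        by_contra hx1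
        exact hcon x hx1 hxo hxz
      have h5 : (T : Subgroup G) ≤ centralizer ({z} : Set G) := fun t ht =>
        mem_centralizer_singleton_iff.mpr (hzc t ht)
      apply hcT
      rw [← T.3 h4 h5]
      exact mem_centralizer_singleton_iff.mpr hcz
    by_cases hu : ∀ x i : G, x ≠ 1 → Odd (orderOf x) → x * z = z * x → i ≠ 1 → i * i = 1 →
        i * x = x * i → i = z
    · obtain ⟨F, _, _, -, he⟩ := class1 hN hZ T (z := z) ⟨⟨hzT, hz1, hz2, hzc⟩, hu⟩ hx1 hxo hxz
      exact ⟨F, inferInstance, inferInstance, he⟩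
    · exfalso
      push Not at hu
      obtain ⟨y, i, hy1, hyo, hyz, hi1, hi2, hiy, hiz⟩ := hu
      exact C2.false hna hN hZ (z := z) (x := y) (z' := i)
        ⟨hz1, hz2, hy1, hyo, hyz, hi1, hi2, hiy, hiz⟩

end H65.NX
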