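import Cfsg.Agent.Lib.H65.NX14
import Cfsg.Agent.Lib.H63.MinNormalFactor

/-!
Reduction of the nesting condition to almost simple groups.
-/
set_option autoImplicit false
set_option linter.unusedSectionVars false
set_option linter.style.haveILetI false

namespace H65.NX

open Subgroup
open scoped Pointwise

universe u v

theorem exists_odd_of_not_solvable {G : Type u} [Group G] [Finite G] (H : Subgroup G)
    (h : ¬ Group.IsSolvable H) : ∃ x ∈ H, x ≠ 1 ∧ Odd (orderOf x) := by
  by_contra hcon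
  push Not at hcon
  apply h
  haveI : Fact (Nat.Prime 2) := ⟨Nat.prime_two⟩
  have h2 : IsPGroup 2 H := by
    rw [IsPGroup.iff_orderOf]
    rintro ⟨x, hx⟩
    rw [Subgroup.orderOf_mk]
    obtain ⟨k, hk, hk1⟩ := exists_odd_pow (g := x)
    apply hk1
    by_contra hne
    exact hcon _ (pow_mem hx _) hne hk
  haveI := h2.isNilpotent
  infer_instance

theorem not_solvable_of_simple {G : Type u} [Group G] [Finite G] [IsSimpleGroup G]
    (hna : ∃ a b : G, a * b ≠ b * a) : ¬ Group.IsSolvable G := by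
  intro h
  obtain ⟨a, b, hab⟩ := hna
  exact hab ((IsSimpleGroup.comm_iff_isSolvable (G := G)).mpr h a b)

theorem no_comm {G : Type u} [Group G] [Finite G] (hN : Nest G) (L : Subgroup G) [IsSimpleGroup L]
    (hna : ∃ a b : L, a * b ≠ b * a) {x : G} (hx1 : x ≠ 1) (hxo : Odd (orderOf x))
    (h : ∀ y ∈ L, y * x = x * y) : False := by
  haveI : Fact (Nat.Prime 2) := ⟨Nat.prime_two⟩
  obtain ⟨t, ht⟩ := exists_prime_orderOf_dvd_card' 2 (H36.CITfin.even_card hna)
  have ht1 : t ≠ 1 := by rintro rfl; rw [orderOf_one] at ht; omega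
  have ht1' : (t : G) ≠ 1 := fun h' => ht1 (Subtype.ext h')
  have ht2 : t * t = 1 := by rw [← pow_two, ← ht, pow_orderOf_eq_one]
  have ht2' : (t : G) * t = 1 := congrArg Subtype.val ht2
  have hc : t ∈ center L := by
    rw [mem_center_iff]
    intro g
    apply Subtype.ext
    apply hN.odd t x g ht1' ht2' hx1 hxo (h t t.2).symm
    rw [h g g.2, mul_inv_cancel_right]
    exact mem_zpowers x
  rcases IsSimpleGroup.eq_bot_or_eq_top_of_normal (center L) inferInstance with h' | h'
  · rw [h', mem_bot] at hc; exact ht1 hc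
  · obtain ⟨a, b, hab⟩ := hna
    apply hab
    have : b ∈ center L := by rw [h']; trivial
    exact (mem_center_iff.mp this a)

theorem reduction {G : Type u} [Group G] [Finite G] [Nontrivial G] (hN : Nest G)
    (hss : ∀ N : Subgroup G, N.Normal → Group.IsSolvable ↥N → N = ⊥) :
    ∃ L : Subgroup G, L.Normal ∧ IsSimpleGroup L ∧ (∃ a b : L, a * b ≠ b * a) ∧
      ∀ g : G, (∀ x ∈ L, g * x = x * g) → g = 1 := by
  -- a minimal normal subgroup
  obtain ⟨N, hNm, hNmin⟩ := Set.Finite.exists_minimal (s := {N : Subgroup G | N.Normal ∧ N ≠ ⊥})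
    (Set.toFinite _) ⟨⊤, inferInstance, top_ne_bot⟩
  obtain ⟨hNn, hN1⟩ := hNm
  have hmin : ∀ M : Subgroup G, M.Normal → M ≤ N → M ≠ ⊥ → M = N := fun M h1 h2 h3 =>
    le_antisymm h2 (hNmin ⟨h1, h3⟩ h2)
  obtain ⟨L, hLN, hL1, hLn, hLmin⟩ := H63.MinNormalFactor.exists_min N hN1
  have hF : H63.MinNormalFactor.Factor N L := ⟨hLN, hL1, hLn, hLmin⟩
  have hNc : ¬ ∀ a ∈ N, ∀ b ∈ N, a * b = b * a := by
    intro h'
    apply hN1
    apply hss N hNn
    exact Group.isSolvable_of_comm fun a b => Subtype.ext (h' a a.2 b b.2)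
  have hLc := H63.MinNormalFactor.T_not_comm hNn hmin hF hNc
  haveI hsimp : IsSimpleGroup L := H63.MinNormalFactor.isSimpleGroup hNn hmin hF
  have hna : ∃ a b : L, a * b ≠ b * a := by
    push Not at hLc
    obtain ⟨a, ha, b, hb, hab⟩ := hLc
    exact ⟨⟨a, ha⟩, ⟨b, hb⟩, fun h' => hab (congrArg Subtype.val h')⟩
  obtain ⟨x0, hx0L, hx01, hx0o⟩ := exists_odd_of_not_solvable L (not_solvable_of_simple hna)
  have hcj : ∀ g : G, H63.MinNormalFactor.cj g L = L := by
    intro g
    by_contra hg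
    have hcomm := H63.MinNormalFactor.cj_comm hNn hF hg
    refine no_comm hN L hna (x := g * x0 * g⁻¹) ?_ ?_ ?_
    · intro h'; apply hx01
      calc x0 = g⁻¹ * (g * x0 * g⁻¹) * g := by group
        _ = 1 := by rw [h']; group
    · rw [show orderOf (g * x0 * g⁻¹) = orderOf x0 from (MulAut.conj g).orderOf_eq x0]
      exact hx0o
    · intro y hy
      refine (hcomm _ ?_ y hy).symm
      rw [H63.MinNormalFactor.mem_cj]
      have : g⁻¹ * (g * x0 * g⁻¹) * g = x0 := by group
      rw [this]; exact hx0L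
  have hLnorm : L.Normal := by
    constructor
    intro n hn g
    rw [← hcj g, H63.MinNormalFactor.mem_cj]
    have : g⁻¹ * (g * n * g⁻¹) * g = n := by group
    rw [this]; exact hn
  refine ⟨L, hLnorm, hsimp, hna, ?_⟩
  intro g hg
  have hCn : (centralizer (L : Set G)).Normal := Subgroup.normal_centralizer
  by_cases hC : centralizer (L : Set G) = ⊥
  · have : g ∈ centralizer (L : Set G) := by
      rw [mem_centralizer_iff]; intro x hx; exact (hg x hx).symm
    rwa [hC, mem_bot] at this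
  · exfalso
    have hns : ¬ Group.IsSolvable (centralizer (L : Set G)) := fun h' => hC (hss _ hCn h')
    obtain ⟨x, hxC, hx1, hxo⟩ := exists_odd_of_not_solvable _ hns
    exact no_comm hN L hna hx1 hxo fun y hy => mem_centralizer_iff.mp hxC y hy

/-- embedding into the automorphism group -/
theorem embed {G : Type u} [Group G] (L : Subgroup G) [hL : L.Normal]
    (hc : ∀ g : G, (∀ x ∈ L, g * x = x * g) → g = 1) {P : Type v} [Group P] (e : L ≃* P) :
    ∃ R : Subgroup (MulAut P), Nonempty (G ≃* R) ∧ ∀ s : P, MulAut.conj s ∈ R := by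
  let ψ : G →* MulAut P := (MulAut.congr e).toMonoidHom.comp MulAut.conjNormal
  have hψ : ∀ (g : G) (p : P), ψ g p = e (MulAut.conjNormal g (e.symm p)) := fun g p => rfl
  have hinj : Function.Injective ψ := by
    rw [← MonoidHom.ker_eq_bot_iff, eq_bot_iff]
    intro g hg
    rw [MonoidHom.mem_ker] at hg
    rw [mem_bot]
    apply hc
    intro x hx
    have h1 : ψ g (e ⟨x, hx⟩) = e ⟨x, hx⟩ := by rw [hg]; rfl
    rw [hψ, e.symm_apply_apply] at h1
    have h2 := congrArg Subtype.val (e.injective h1)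
    rw [MulAut.conjNormal_apply] at h2
    exact mul_inv_eq_iff_eq_mul.mp h2
  refine ⟨ψ.range, ⟨MonoidHom.ofInjective hinj⟩, ?_⟩
  intro s
  refine ⟨(e.symm s : G), ?_⟩
  ext p
  rw [hψ, MulAut.conj_apply]
  apply e.symm.injective
  rw [e.symm_apply_apply]
  apply Subtype.ext
  rw [MulAut.conjNormal_apply, map_mul, map_mul, map_inv]
  rfl

end H65.NX
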