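import Cfsg.Agent.Lib.H65.NX18
import Cfsg.Agent.Lib.H65.NX15
import Cfsg.Agent.Lib.H6.SmallIsoA

/-!
The nesting condition: conclusion.
-/
set_option autoImplicit false
set_option linter.unusedSectionVars false
set_option linter.style.haveILetI false

namespace H65.NX

open Subgroup Matrix H50.PSLBasic H50.PSLUniq
open scoped Pointwise

section psl

variable {F : Type*} [Field F] [Fintype F]

/-- a fixed element of an involution of a field of characteristic two -/
theorem exists_fixed_two [CharP F 2] (h3 : 3 < Fintype.card F) (h4 : Fintype.card F ≠ 4)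
    {τ : F ≃+* F} (h2 : τ * τ = 1) : ∃ a : F, a ≠ 0 ∧ a ≠ 1 ∧ τ a = a := by
  classical
  by_contra hcon
  push Not at hcon
  have hττ : ∀ x, τ (τ x) = x := fun x => by
    have := congrArg (fun τ : F ≃+* F => τ x) h2
    exact this
  have hfix : ∀ a, τ a = a → a = 0 ∨ a = 1 := by
    intro a ha
    by_contra h
    push Not at h
    exact hcon a h.1 h.2 ha
  have hnf : ∀ b, τ b ≠ b → τ b = 1 - b ∧ b * (1 - b) = 1 := by
    intro b hb
    have hb0 : b ≠ 0 := by rintro rfl; exact hb (map_zero τ)
    have e1 : b + τ b = 1 := by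
      rcases hfix (b + τ b) (by rw [map_add, hττ, add_comm]) with h | h
      · exfalso
        apply hb
        have h' : τ b = -b := by linear_combination h
        rw [h', CharTwo.neg_eq]
      · exact h
    have e2 : b * τ b = 1 := by
      rcases hfix (b * τ b) (by rw [map_mul, hττ, mul_comm]) with h | h
      · exfalso
        rcases mul_eq_zero.mp h with h' | h'
        · exact hb0 h'
        · exact hb0 ((map_eq_zero_iff τ τ.injective).mp h')
      · exact h
    have e3 : τ b = 1 - b := by linear_combination e1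
    exact ⟨e3, by rw [← e3]; exact e2⟩
  have hle : Fintype.card F ≤ 4 := by
    by_cases hall : ∀ b, τ b = b
    · have : (Finset.univ : Finset F) ⊆ {0, 1} := by
        intro b _
        rcases hfix b (hall b) with h | h <;> simp [h]
      have := Finset.card_le_card this
      rw [Finset.card_univ] at this
      exact this.trans (Finset.card_le_two.trans (by norm_num))
    · push Not at hall
      obtain ⟨b0, hb0⟩ := hall
      have : (Finset.univ : Finset F) ⊆ {0, 1, b0, 1 - b0} := by
        intro b _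
        by_cases hb : τ b = b
        · rcases hfix b hb with h | h <;> simp [h]
        · have h5 := (hnf b hb).2
          have h6 := (hnf b0 hb0).2
          have h7 : (b - b0) * (b - (1 - b0)) = 0 := by linear_combination h6 - h5
          rcases mul_eq_zero.mp h7 with h8 | h8
          · simp [sub_eq_zero.mp h8]
          · simp [sub_eq_zero.mp h8]
      have := Finset.card_le_card this
      rw [Finset.card_univ] at this
      exact this.trans Finset.card_le_four
  omega

theorem fh_trivial (h3 : 3 < Fintype.card F) (h4 : Fintype.card F ≠ 4)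
    {R : Subgroup (MulAut (ProjectiveSpecialLinearGroup (Fin 2) F))}
    (hInn : ∀ s : ProjectiveSpecialLinearGroup (Fin 2) F, MulAut.conj s ∈ R) (hR : NestOn R)
    {τ : F ≃+* F} (hτ : fh F τ ∈ R) : τ = 1 := by
  by_contra h1
  haveI : Finite (F ≃+* F) := Finite.of_injective (fun τ : F ≃+* F => (τ : F → F)) DFunLike.coe_injective
  obtain ⟨r, hr, k, hk⟩ := Nat.exists_prime_and_dvd (n := orderOf τ)
    (by rwa [Ne, orderOf_eq_one_iff])
  have hk0 : k ≠ 0 := by rintro rfl; rw [mul_zero] at hk; exact (orderOf_pos τ).ne' hk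
  have ho : orderOf (τ ^ k) = r := by
    rw [orderOf_pow_of_dvd hk0 ⟨r, by rw [hk, mul_comm]⟩, hk, Nat.mul_div_cancel _ (Nat.pos_of_ne_zero hk0)]
  have hmem : fh F (τ ^ k) ∈ R := by rw [map_pow]; exact pow_mem hτ k
  generalize τ ^ k = ρ at ho hmem
  have hρ1 : ρ ≠ 1 := by rintro rfl; rw [orderOf_one] at ho; exact hr.one_lt.ne ho
  rcases hr.eq_two_or_odd' with rfl | hodd
  · have h2 : ρ * ρ = 1 := by rw [← pow_two, ← ho, pow_orderOf_eq_one]
    obtain ⟨p, hp⟩ := CharP.exists F
    haveI := hp
    have hpp : p.Prime := by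
      rcases CharP.char_is_prime_or_zero F p with h | h
      · exact h
      · exfalso
        subst h
        haveI := CharP.charP_to_charZero F
        exact not_finite F
    rcases hpp.eq_two_or_odd' with rfl | hpo
    · obtain ⟨a, ha0, ha1, haτ⟩ := exists_fixed_two h3 h4 h2
      exact two_even_false hInn hR hmem hρ1 h2 ha0 ha1 haτ
    · exact two_odd_false (p := p) hInn hR hmem hρ1 h2 hpo
  · exact odd_false hInn hR hmem hρ1 (by rw [ho]; exact hodd)

theorem sigma_trivial (h3 : 3 < Fintype.card F) (h4 : Fintype.card F ≠ 4)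
    {R : Subgroup (MulAut (ProjectiveSpecialLinearGroup (Fin 2) F))}
    (hInn : ∀ s : ProjectiveSpecialLinearGroup (Fin 2) F, MulAut.conj s ∈ R) (hR : NestOn R)
    {g : GL (Fin 2) F} {σ : F ≃+* F} (hg : psi g σ ∈ R) : σ = 1 := by
  -- if the determinant is a square, then the field automorphism is in `R`
  have hsq : ∀ (g : GL (Fin 2) F) (σ : F ≃+* F), psi g σ ∈ R →
      IsSquare (g : Matrix (Fin 2) (Fin 2) F).det → σ = 1 := by
    intro g σ hg hd
    apply fh_trivial h3 h4 hInn hR
    obtain ⟨c, hc⟩ := hd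
    have h5 : psi g (RingEquiv.refl F) ∈ R := inn_mem hInn (c := c) (by rw [hc, pow_two])
    have h6 : psi g (RingEquiv.refl F) * fh F σ = psi g σ := by
      show psi g (RingEquiv.refl F) * psi 1 σ = psi g σ
      rw [psi_mul, map_one, mul_one]
      rfl
    have h7 : fh F σ = (psi g (RingEquiv.refl F))⁻¹ * psi g σ := by rw [← h6]; group
    rw [h7]
    exact mul_mem (inv_mem h5) hg
  by_contra hσ
  have h2 : σ * σ = 1 := by
    apply hsq (g * glMap σ g) (σ * σ)
    · have : psi (g * glMap σ g) (σ * σ) = psi g σ * psi g σ := (psi_mul g g σ σ).symm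
      rw [this]; exact mul_mem hg hg
    · rw [Units.val_mul, Matrix.det_mul, glMap_coe]
      have : ((g : Matrix (Fin 2) (Fin 2) F).map σ).det = σ (g : Matrix (Fin 2) (Fin 2) F).det :=
        (RingHom.map_det (σ : F →+* F) (g : Matrix (Fin 2) (Fin 2) F)).symm
      rw [this]
      exact isSquare_mul_map σ _
  have hns : ¬ IsSquare (g : Matrix (Fin 2) (Fin 2) F).det := fun h => hσ (hsq g σ hg h)
  have hc : (2 : F) ≠ 0 := by
    intro h
    apply hns
    apply FiniteField.isSquare_of_char_two
    haveI : CharP F 2 := by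
      apply CharTwo.of_one_ne_zero_of_two_eq_zero one_ne_zero h
    rw [ringChar.eq_iff]; infer_instance
  refine m10_false hInn hR hσ h2 hc ?_
  intro h hh
  have hdg : IsUnit (g : Matrix (Fin 2) (Fin 2) F).det := by
    exact (Matrix.isUnit_iff_isUnit_det _).mp g.isUnit
  have h5 : IsSquare (((h * g⁻¹ : GL (Fin 2) F) : Matrix (Fin 2) (Fin 2) F).det) := by
    have e1 : (h : Matrix (Fin 2) (Fin 2) F).det =
        ((h * g⁻¹ : GL (Fin 2) F) : Matrix (Fin 2) (Fin 2) F).det * (g : Matrix (Fin 2) (Fin 2) F).det := by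
      rw [← Matrix.det_mul, ← Units.val_mul, inv_mul_cancel_right]
    have e2 : IsSquare ((h : Matrix (Fin 2) (Fin 2) F).det * (g : Matrix (Fin 2) (Fin 2) F).det) :=
      isSquare_mul_of_not hh hns
    rw [e1] at e2
    obtain ⟨c, hc'⟩ := e2
    have hne := hdg.ne_zero
    refine ⟨c / (g : Matrix (Fin 2) (Fin 2) F).det, ?_⟩
    field_simp
    linear_combination hc'
  obtain ⟨c, hc'⟩ := h5
  have h6 : psi (h * g⁻¹) (RingEquiv.refl F) ∈ R := inn_mem hInn (c := c) (by rw [hc', pow_two])
  have h7 : psi h σ = psi (h * g⁻¹) (RingEquiv.refl F) * psi g σ := by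
    rw [psi_mul]
    have : glMap (RingEquiv.refl F) g = g := by
      apply Units.ext; rw [glMap_coe]; ext i j; rfl
    rw [this, inv_mul_cancel_right]
    rfl
  rw [h7]
  exact mul_mem h6 hg

/-- conclusion for subgroups of the automorphism group -/
theorem range_case (h3 : 3 < Fintype.card F) (h4 : Fintype.card F ≠ 4)
    {R : Subgroup (MulAut (ProjectiveSpecialLinearGroup (Fin 2) F))}
    (hInn : ∀ s : ProjectiveSpecialLinearGroup (Fin 2) F, MulAut.conj s ∈ R) (hR : NestOn R) :
    Nonempty (R ≃* ProjectiveSpecialLinearGroup (Fin 2) F) ∨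
      Nonempty (R ≃* Matrix.ProjGenLinGroup (Fin 2) F) := by
  have hall : ∀ α ∈ R, ∃ g : GL (Fin 2) F, α = psi g (RingEquiv.refl F) := by
    intro α hα
    obtain ⟨p, hp⟩ := CharP.exists F
    haveI := hp
    have hpp : p.Prime := by
      rcases CharP.char_is_prime_or_zero F p with h | h
      · exact h
      · exfalso
        subst h
        haveI := CharP.charP_to_charZero F
        exact not_finite F
    haveI : Fact p.Prime := ⟨hpp⟩
    obtain ⟨g, σ, h | ⟨h, -⟩⟩ := H50.AutPSL2.aut_psl (p := p) (F := F) (n := 2) le_rfl α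
    · have := sigma_trivial h3 h4 hInn hR (g := g) (σ := σ) (by rw [← h]; exact hα)
      exact ⟨g, by rw [h, this]; rfl⟩
    · omega
  by_cases hsq : ∀ g : GL (Fin 2) F, psi g (RingEquiv.refl F) ∈ R →
      IsSquare (g : Matrix (Fin 2) (Fin 2) F).det
  · left
    have hinj : Function.Injective (MulAut.conj : ProjectiveSpecialLinearGroup (Fin 2) F →* _) := by
      rw [← MonoidHom.ker_eq_bot_iff, eq_bot_iff]
      intro a ha
      obtain ⟨s, rfl⟩ := QuotientGroup.mk_surjective a
      rw [MonoidHom.mem_ker, H50.PSLPure.conj_eq_psi] at ha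
      obtain ⟨-, c, hc⟩ := psi_eq_one ha
      rw [mem_bot]
      have : (QuotientGroup.mk (1 : SpecialLinearGroup (Fin 2) F) :
          ProjectiveSpecialLinearGroup (Fin 2) F) = QuotientGroup.mk s :=
        mk_eq_mk_iff.mpr ⟨c, hc⟩
      exact this.symm
    have hrange : (MulAut.conj : ProjectiveSpecialLinearGroup (Fin 2) F →* _).range = R := by
      apply le_antisymm
      · rintro _ ⟨s, rfl⟩; exact hInn s
      · intro α hα
        obtain ⟨g, rfl⟩ := hall α hα
        obtain ⟨c, hc⟩ := hsq g hα
        exact psi_mem_inn_iff.mpr ⟨rfl, c, by rw [hc, Fintype.card_fin, pow_two]⟩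
    exact ⟨((MonoidHom.ofInjective hinj).trans (MulEquiv.subgroupCongr hrange)).symm⟩
  · right
    push Not at hsq
    obtain ⟨g0, hg0, hns⟩ := hsq
    let Θ : GL (Fin 2) F →* MulAut (ProjectiveSpecialLinearGroup (Fin 2) F) :=
      { toFun := fun g => psi g (RingEquiv.refl F)
        map_one' := psi_one
        map_mul' := fun g h => by
          rw [psi_mul]
          have : glMap (RingEquiv.refl F) h = h := by
            apply Units.ext; rw [glMap_coe]; ext i j; rfl
          rw [this]
          rfl }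
    have hΘ : ∀ g, Θ g = psi g (RingEquiv.refl F) := fun g => rfl
    have hker : Θ.ker = Subgroup.center (GL (Fin 2) F) := by
      ext g
      rw [MonoidHom.mem_ker, Matrix.GeneralLinearGroup.mem_center_iff_val_mem_range_scalar, hΘ]
      constructor
      · intro h
        obtain ⟨-, c, hc⟩ := psi_eq_one h
        exact ⟨c, by rw [hc, Matrix.scalar_apply, Matrix.smul_one_eq_diagonal]⟩
      · rintro ⟨c, hc⟩
        rw [← psi_one]
        apply psi_eq_of_smul (c := c)
        rw [← hc, Units.val_one, Matrix.scalar_apply, Matrix.smul_one_eq_diagonal]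
    have hrange : Θ.range = R := by
      apply le_antisymm
      · rintro _ ⟨g, rfl⟩
        by_cases hd : IsSquare (g : Matrix (Fin 2) (Fin 2) F).det
        · obtain ⟨c, hc⟩ := hd
          exact inn_mem hInn (c := c) (by rw [hc, pow_two])
        · have h5 : IsSquare ((g * g0 : GL (Fin 2) F) : Matrix (Fin 2) (Fin 2) F).det := by
            rw [Units.val_mul, Matrix.det_mul]
            exact isSquare_mul_of_not hd hns
          obtain ⟨c, hc⟩ := h5
          have h6 : Θ (g * g0) ∈ R := inn_mem hInn (c := c) (by rw [hc, pow_two])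
          have h7 : Θ g = Θ (g * g0) * (Θ g0)⁻¹ := by rw [map_mul]; group
          rw [h7]
          exact mul_mem h6 (inv_mem hg0)
      · intro α hα
        obtain ⟨g, rfl⟩ := hall α hα
        exact ⟨g, rfl⟩
    exact ⟨(((QuotientGroup.quotientMulEquivOfEq hker).symm.trans
      (QuotientGroup.quotientKerEquivRange Θ)).trans (MulEquiv.subgroupCongr hrange)).symm⟩

end psl

universe u

theorem main {G : Type u} [Group G] [Finite G] [Nontrivial G]
    (hss : ∀ N : Subgroup G, N.Normal → Group.IsSolvable ↥N → N = ⊥) (hN : Nest G) :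
    ∃ (F : Type) (_ : Field F) (_ : Fintype F), 3 < Fintype.card F ∧
      (Nonempty (G ≃* Matrix.ProjectiveSpecialLinearGroup (Fin 2) F) ∨
        Nonempty (G ≃* Matrix.ProjGenLinGroup (Fin 2) F)) := by
  obtain ⟨L, hLn, hLs, hna, hcen⟩ := reduction hN hss
  obtain ⟨F0, _, _, ⟨e0⟩⟩ := simple_case hna (hN.subgroup L)
  have h30 := H36.CITfin.three_lt hna e0
  obtain ⟨F, _, _, h3, h4, ⟨e⟩⟩ : ∃ (F : Type) (_ : Field F) (_ : Fintype F), 3 < Fintype.card F ∧
      Fintype.card F ≠ 4 ∧ Nonempty (L ≃* Matrix.ProjectiveSpecialLinearGroup (Fin 2) F) := by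
    by_cases h : Fintype.card F0 = 4
    · haveI : Fact (Nat.Prime 5) := ⟨by norm_num⟩
      obtain ⟨e1⟩ := H6.SmallIsoA.psl2_four h
      obtain ⟨e2⟩ := H6.SmallIsoA.psl2_five (F := ZMod 5) (by rw [ZMod.card])
      exact ⟨ZMod 5, inferInstance, inferInstance, by rw [ZMod.card]; norm_num,
        by rw [ZMod.card]; norm_num, ⟨(e0.trans e1).trans e2.symm⟩⟩
    · exact ⟨F0, inferInstance, inferInstance, h30, h, ⟨e0⟩⟩
  obtain ⟨R, ⟨f⟩, hInn⟩ := embed L hcen e
  have hR : NestOn R := NestOn.of_nest (hN.map f.symm.toMonoidHom f.symm.injective)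
  refine ⟨F, inferInstance, inferInstance, h3, ?_⟩
  rcases range_case h3 h4 hInn hR with h | h
  · obtain ⟨e'⟩ := h
    exact Or.inl ⟨f.trans e'⟩
  · obtain ⟨e'⟩ := h
    exact Or.inr ⟨f.trans e'⟩

end H65.NX
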