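import Cfsg.Agent.Lib.H65.NX1
import Cfsg.Agent.Lib.H65.PBasic2
import Cfsg.Agent.Lib.H14.PBasic

/-!
Lemma Q: centralizers of involutions that are not 2-groups.
-/
set_option autoImplicit false
set_option linter.unusedSectionVars false
set_option linter.style.haveILetI false

namespace H65.NX

open Subgroup

variable {G : Type*} [Group G]

theorem comm_of_coprime {a b : G} (h1 : a * b * a⁻¹ ∈ zpowers b) (h2 : b * a * b⁻¹ ∈ zpowers a)
    (hc : Nat.Coprime (orderOf a) (orderOf b)) : a * b = b * a := by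
  have h3 : a * b * a⁻¹ * b⁻¹ ∈ zpowers b := mul_mem h1 (inv_mem (mem_zpowers b))
  have h4 : a * b * a⁻¹ * b⁻¹ ∈ zpowers a := by
    have : a * b * a⁻¹ * b⁻¹ = a * (b * a * b⁻¹)⁻¹ := by group
    rw [this]; exact mul_mem (mem_zpowers a) (inv_mem h2)
  have h5 : orderOf (a * b * a⁻¹ * b⁻¹) = 1 :=
    Nat.eq_one_of_dvd_coprimes hc (orderOf_dvd_of_mem_zpowers h4) (orderOf_dvd_of_mem_zpowers h3)
  rw [orderOf_eq_one_iff] at h5
  calc a * b = (a * b * a⁻¹ * b⁻¹) * (b * a) := by group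
    _ = b * a := by rw [h5, one_mul]

theorem conj_prime {x j : G} (hp : (orderOf x).Prime)
    (hj : j * x * j⁻¹ ∈ zpowers x) (hjj : (j * j) * x = x * (j * j)) :
    j * x = x * j ∨ j * x * j⁻¹ = x⁻¹ := by
  obtain ⟨k, hk⟩ := hj
  have hk : x ^ k = j * x * j⁻¹ := hk
  have h1 : x ^ (k * k) = x := by
    calc x ^ (k * k) = (j * x * j⁻¹) ^ k := by rw [← hk, zpow_mul]
      _ = j * x ^ k * j⁻¹ := conj_zpow
      _ = (j * j) * x * (j * j)⁻¹ := by rw [hk]; group
      _ = x := by rw [hjj, mul_inv_cancel_right]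
  have h2 : x ^ (k * k - 1) = 1 := by rw [zpow_sub, h1, zpow_one, mul_inv_cancel]
  have h3 : ((orderOf x : ℕ) : ℤ) ∣ (k - 1) * (k + 1) := by
    have := orderOf_dvd_iff_zpow_eq_one.mpr h2
    rwa [show (k - 1) * (k + 1) = k * k - 1 by ring]
  rcases Int.Prime.dvd_mul' hp h3 with h4 | h4
  · left
    have h5 := orderOf_dvd_iff_zpow_eq_one.mp h4
    have h6 : x ^ k = x := by
      have : x ^ (k - 1) * x = x := by rw [h5, one_mul]
      rwa [← zpow_add_one, sub_add_cancel] at this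
    rw [h6] at hk
    calc j * x = (j * x * j⁻¹) * j := by group
      _ = x * j := by rw [← hk]
  · right
    have h5 := orderOf_dvd_iff_zpow_eq_one.mp h4
    rw [← hk]
    exact eq_inv_of_mul_eq_one_left (by rwa [zpow_add_one] at h5)

/-- involutions commuting with a common odd element have the same centralizer -/
theorem eqC (hN : Nest G) {s i x c : G} (hs1 : s ≠ 1) (hs2 : s * s = 1) (hi1 : i ≠ 1)
    (hi2 : i * i = 1) (hx1 : x ≠ 1) (hxo : Odd (orderOf x)) (hxs : x * s = s * x)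
    (hxi : x * i = i * x) (hc : c * s = s * c) : c * i = i * c :=
  hN.odd i x c hi1 hi2 hx1 hxo hxi (hN.odd' s x c hs1 hs2 hxo hxs hc)

theorem isPGroup_two_of_sq {W : Subgroup G} (h : ∀ w ∈ W, w * w = 1) : IsPGroup 2 W := by
  intro w
  refine ⟨1, ?_⟩
  apply Subtype.ext
  simp only [pow_one, pow_two]
  exact h w w.2

section fin
variable [Finite G]

theorem exists_sylow_inf (C : Subgroup G) (P : Subgroup G) (hP : IsPGroup 2 P) (hPC : P ≤ C) :
    ∃ T : Sylow 2 G, P ≤ T ∧ ∀ R : Subgroup G, R ≤ C → IsPGroup 2 R → (T : Subgroup G) ⊓ C ≤ R →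
      R ≤ T := by
  haveI : Fact (Nat.Prime 2) := ⟨Nat.prime_two⟩
  have hPc : IsPGroup 2 (P.subgroupOf C) := hP.comap_of_injective C.subtype C.subtype_injective
  obtain ⟨Q, hQ⟩ := hPc.exists_le_sylow
  obtain ⟨T, hT⟩ := (Q.isPGroup'.map C.subtype).exists_le_sylow
  have hQT : (Q : Subgroup C).map C.subtype ≤ (T : Subgroup G) ⊓ C :=
    le_inf hT (map_subtype_le _)
  refine ⟨T, ?_, ?_⟩
  · intro y hy
    exact hT ⟨⟨y, hPC hy⟩, hQ hy, rfl⟩
  · intro R hRC hR hle
    have h1 : IsPGroup 2 (R.subgroupOf C) := hR.comap_of_injective C.subtype C.subtype_injective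
    have h2 : (Q : Subgroup C) ≤ R.subgroupOf C := by
      intro y hy
      exact hle (hQT ⟨y, hy, rfl⟩)
    have h3 := Q.3 h1 h2
    intro y hy
    have : (⟨y, hRC hy⟩ : C) ∈ R.subgroupOf C := hy
    rw [h3] at this
    exact (hQT ⟨_, this, rfl⟩).1

/-- a central 2-element of `C` lies in the Sylow subgroup. -/
theorem mem_of_central {C : Subgroup G} {T : Sylow 2 G}
    (hT : ∀ R : Subgroup G, R ≤ C → IsPGroup 2 R → (T : Subgroup G) ⊓ C ≤ R → R ≤ T)
    {a : G} (haC : a ∈ C) (ha : IsPGroup 2 (zpowers a)) (hc : ∀ c ∈ C, c * a = a * c) :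
    a ∈ (T : Subgroup G) := by
  haveI : Fact (Nat.Prime 2) := ⟨Nat.prime_two⟩
  have h1 : IsPGroup 2 ((T : Subgroup G) ⊓ C : Subgroup G) := T.2.to_le inf_le_left
  have h2 : IsPGroup 2 ((((T : Subgroup G) ⊓ C) ⊔ zpowers a : Subgroup G)) := by
    apply IsPGroup.to_sup_of_normal_right' h1 ha
    intro c hc'
    rw [mem_normalizer_zpowers, hc c hc'.2, mul_inv_cancel_right]
    exact mem_zpowers a
  exact hT _ (sup_le inf_le_right (by rwa [zpowers_le])) h2 le_sup_left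
    (mem_sup_right (mem_zpowers a))

/-- class III: the centralizer of every 2-central involution is the Sylow 2-subgroup. -/
def C3 (G : Type*) [Group G] : Prop := ∀ (T : Sylow 2 G) (z : G), z ∈ (T : Subgroup G) → z ≠ 1 →
  z * z = 1 → (∀ t ∈ (T : Subgroup G), t * z = z * t) → ∀ c, c * z = z * c → c ∈ (T : Subgroup G)

theorem orderOf_of_mem_two {T : Subgroup G} (hT : IsPGroup 2 T) {x : G} (hx : x ∈ T) :
    ∃ k, orderOf x = 2 ^ k := by
  obtain ⟨k, hk⟩ := (IsPGroup.iff_orderOf.mp hT) ⟨x, hx⟩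
  exact ⟨k, by rwa [Subgroup.orderOf_mk] at hk⟩

theorem eq_one_of_odd_mem {T : Subgroup G} (hT : IsPGroup 2 T) {x : G} (hx : x ∈ T)
    (ho : Odd (orderOf x)) : x = 1 := by
  obtain ⟨k, hk⟩ := orderOf_of_mem_two hT hx
  rw [hk] at ho
  have : k = 0 := by
    by_contra h0
    exact (Nat.not_even_iff_odd.mpr ho) (Nat.even_pow.mpr ⟨even_two, h0⟩)
  rw [this, pow_zero, orderOf_eq_one_iff] at hk
  exact hk

/-- involution in a nontrivial 2-subgroup -/
theorem exists_invol {T : Subgroup G} (hT : IsPGroup 2 T) (h1 : T ≠ ⊥) :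
    ∃ i ∈ T, i ≠ 1 ∧ i * i = 1 := by
  haveI : Fact (Nat.Prime 2) := ⟨Nat.prime_two⟩
  obtain ⟨i, hi, ho⟩ := H65.PBasic2.exists_orderOf_eq hT h1
  refine ⟨i, hi, ?_, ?_⟩
  · rintro rfl; rw [orderOf_one] at ho; omega
  · rw [← pow_two, ← ho, pow_orderOf_eq_one]

theorem exists_central_invol {T : Subgroup G} (hT : IsPGroup 2 T) (h1 : T ≠ ⊥) :
    ∃ i ∈ T, i ≠ 1 ∧ i * i = 1 ∧ ∀ t ∈ T, t * i = i * t := by
  haveI : Fact (Nat.Prime 2) := ⟨Nat.prime_two⟩
  have h2 := H65.PBasic.inf_centralizer_ne_bot T T hT hT le_normalizer h1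
  obtain ⟨i, hi, hi1, hi2⟩ := exists_invol (hT.to_le inf_le_left) h2
  exact ⟨i, hi.1, hi1, hi2, fun t ht => mem_centralizer_iff.mp hi.2 t ht⟩

theorem zpowers_ne_bot {v : G} (hv : v ≠ 1) : zpowers v ≠ ⊥ := by rwa [Ne, zpowers_eq_bot]

/-- Lemma Q0 -/
theorem q0 (hN : Nest G) (h3 : C3 G) {s i x : G} (hs1 : s ≠ 1) (hs2 : s * s = 1) (hi1 : i ≠ 1)
    (hi2 : i * i = 1) (hp : (orderOf x).Prime) (hxo : Odd (orderOf x)) (hxs : x * s = s * x)
    (hxi : x * i = i * x) (his : i * s = s * i) : i = s := by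
  haveI : Fact (Nat.Prime 2) := ⟨Nat.prime_two⟩
  by_contra hne
  have hx1 : x ≠ 1 := by rintro rfl; rw [orderOf_one] at hp; exact Nat.not_prime_one hp
  set C := centralizer ({s} : Set G) with hC
  have memC : ∀ c, c ∈ C ↔ c * s = s * c := fun c => mem_centralizer_singleton_iff
  -- common centralizer
  have key : ∀ w c, w ≠ 1 → w * w = 1 → x * w = w * x → (c * w = w * c ↔ c * s = s * c) := by
    intro w c h1 h2 h4
    exact ⟨fun h => eqC hN h1 h2 hs1 hs2 hx1 hxo h4 hxs h,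
      fun h => eqC hN hs1 hs2 h1 h2 hx1 hxo hxs h4 h⟩
  have hpow : ∀ w : G, w * w = 1 → IsPGroup 2 (zpowers w) := by
    intro w hw
    apply isPGroup_two_of_sq
    rintro y ⟨k, rfl⟩
    show w ^ k * w ^ k = 1
    rw [← (Commute.refl w).mul_zpow, hw, one_zpow]
  obtain ⟨T, -, hT⟩ := exists_sylow_inf C ⊥ IsPGroup.of_bot bot_le
  have hsT : s ∈ (T : Subgroup G) := mem_of_central hT ((memC s).mpr rfl) (hpow s hs2)
    (fun c hc => (memC c).mp hc)
  have hiT : i ∈ (T : Subgroup G) := mem_of_central hT ((memC i).mpr his) (hpow i hi2)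
    (fun c hc => (key i c hi1 hi2 hxi).mpr ((memC c).mp hc))
  have hlt : (T : Subgroup G) ⊓ C < T := by
    refine lt_of_le_of_ne inf_le_left fun heq => ?_
    have hTC : (T : Subgroup G) ≤ C := by rw [← heq]; exact inf_le_right
    have := h3 T s hsT hs1 hs2 (fun t ht => (memC t).mp (hTC ht)) x hxs
    exact hx1 (eq_one_of_odd_mem T.2 this hxo)
  obtain ⟨h, hhT, hhn, hhN⟩ := H14.PBasic.exists_mem_normalizer_of_lt T.2 hlt
  have hconj : ∀ w, w ∈ (T : Subgroup G) → w * s = s * w → (h * w * h⁻¹) * s = s * (h * w * h⁻¹) := by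
    intro w hw hws
    have := (mem_normalizer_iff.mp hhN w).mp ⟨hw, (memC w).mpr hws⟩
    exact (memC _).mp this.2
  -- among the three conjugates one commutes with `x`
  have hsi1 : s * i ≠ 1 := by
    intro h
    apply hne
    calc i = (s * s) * i := by rw [hs2, one_mul]
      _ = s * (s * i) := by group
      _ = s := by rw [h, mul_one]
  have hsi2 : (s * i) * (s * i) = 1 := by
    calc (s * i) * (s * i) = s * (i * s) * i := by group
      _ = (s * s) * (i * i) := by rw [his]; group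
      _ = 1 := by rw [hs2, hi2, one_mul]
  have hxsi : x * (s * i) = (s * i) * x := by
    rw [← mul_assoc, hxs, mul_assoc, hxi, mul_assoc]
  obtain ⟨w, hw1, hw2, hxw, hws, hwT, hcw⟩ : ∃ w, w ≠ 1 ∧ w * w = 1 ∧ x * w = w * x ∧
      w * s = s * w ∧ w ∈ (T : Subgroup G) ∧ (h * w * h⁻¹) * x = x * (h * w * h⁻¹) := by
    have hinv : ∀ w, w * w = 1 → w ∈ (T : Subgroup G) → w * s = s * w →
        (h * w * h⁻¹) * x = x * (h * w * h⁻¹) ∨ (h * w * h⁻¹) * x * (h * w * h⁻¹)⁻¹ = x⁻¹ := by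
      intro w h2 hwT hws
      apply conj_prime hp
      · exact hN.odd' s x _ hs1 hs2 hxo hxs (hconj w hwT hws)
      · have : h * w * h⁻¹ * (h * w * h⁻¹) = 1 := by
          calc h * w * h⁻¹ * (h * w * h⁻¹) = h * (w * w) * h⁻¹ := by group
            _ = 1 := by rw [h2, mul_one, mul_inv_cancel]
        rw [this, one_mul, mul_one]
    rcases hinv s hs2 hsT rfl with h4 | h4
    · exact ⟨s, hs1, hs2, hxs, rfl, hsT, h4⟩
    rcases hinv i hi2 hiT his with h5 | h5
    · exact ⟨i, hi1, hi2, hxi, his, hiT, h5⟩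
    refine ⟨s * i, hsi1, hsi2, hxsi, ?_, mul_mem hsT hiT, ?_⟩
    · rw [mul_assoc, his]
    · have h6 : (h * (s * i) * h⁻¹) * x * (h * (s * i) * h⁻¹)⁻¹ = x := by
        calc (h * (s * i) * h⁻¹) * x * (h * (s * i) * h⁻¹)⁻¹
            = (h * s * h⁻¹) * ((h * i * h⁻¹) * x * (h * i * h⁻¹)⁻¹) * (h * s * h⁻¹)⁻¹ := by group
          _ = ((h * s * h⁻¹) * x * (h * s * h⁻¹)⁻¹)⁻¹ := by rw [h5]; group
          _ = x := by rw [h4, inv_inv]
      exact mul_inv_eq_iff_eq_mul.mp h6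
  -- `h` normalizes `C`
  have hj1 : h * w * h⁻¹ ≠ 1 := by
    intro h'
    apply hw1
    calc w = h⁻¹ * (h * w * h⁻¹) * h := by group
      _ = 1 := by rw [h']; group
  have hj2 : (h * w * h⁻¹) * (h * w * h⁻¹) = 1 := by
    calc h * w * h⁻¹ * (h * w * h⁻¹) = h * (w * w) * h⁻¹ := by group
      _ = 1 := by rw [hw2, mul_one, mul_inv_cancel]
  have hnC : ∀ c, c * s = s * c ↔ (h * c * h⁻¹) * s = s * (h * c * h⁻¹) := by
    intro c
    rw [← key w c hw1 hw2 hxw, ← key (h * w * h⁻¹) (h * c * h⁻¹) hj1 hj2 hcw.symm]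
    constructor
    · intro h'
      calc h * c * h⁻¹ * (h * w * h⁻¹) = h * (c * w) * h⁻¹ := by group
        _ = h * w * h⁻¹ * (h * c * h⁻¹) := by rw [h']; group
    · intro h'
      calc c * w = h⁻¹ * (h * c * h⁻¹ * (h * w * h⁻¹)) * h := by group
        _ = w * c := by rw [h']; group
  have hhC : h ∈ normalizer (C : Set G) := by
    rw [mem_normalizer_iff]
    intro c
    rw [memC, memC]; exact hnC c
  -- the elements of order 2 in the centre of `C`
  set A : Subgroup G := C ⊓ centralizer (C : Set G) with hA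
  have hAc : ∀ a ∈ A, ∀ b ∈ A, a * b = b * a := by
    intro a ha b hb
    exact mem_centralizer_iff.mp hb.2 a ha.1
  have hhA : zpowers h ≤ normalizer (A : Set G) := by
    rw [zpowers_le, mem_normalizer_iff]
    intro c
    have h1 := mem_normalizer_iff.mp hhC
    constructor
    · intro hcA
      obtain ⟨h4, h5⟩ := mem_inf.mp hcA
      rw [mem_centralizer_iff] at h5
      refine mem_inf.mpr ⟨(h1 c).mp h4, mem_centralizer_iff.mpr ?_⟩
      intro d hd
      have h6 : h⁻¹ * d * h ∈ C := by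
        rw [h1]; simpa [mul_assoc] using hd
      have h7 := h5 _ h6
      calc d * (h * c * h⁻¹) = h * ((h⁻¹ * d * h) * c) * h⁻¹ := by group
        _ = h * c * h⁻¹ * d := by rw [h7]; group
    · intro hcA
      obtain ⟨h4, h5⟩ := mem_inf.mp hcA
      rw [mem_centralizer_iff] at h5
      refine mem_inf.mpr ⟨(h1 c).mpr h4, mem_centralizer_iff.mpr ?_⟩
      intro d hd
      have h7 := h5 _ ((h1 d).mp hd)
      calc d * c = h⁻¹ * ((h * d * h⁻¹) * (h * c * h⁻¹)) * h := by group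
        _ = c * d := by rw [h7]; group
  have hW : IsPGroup 2 (H65.PBasic2.om 2 A hAc) := by
    apply isPGroup_two_of_sq
    intro w hw
    rw [← pow_two]; exact hw.2
  have hsW : s ∈ H65.PBasic2.om 2 A hAc := by
    refine ⟨mem_inf.mpr ⟨(memC s).mpr rfl, mem_centralizer_iff.mpr ?_⟩, by rw [pow_two, hs2]⟩
    intro c hc
    exact (memC c).mp hc
  have hWb : H65.PBasic2.om 2 A hAc ≠ ⊥ := by
    intro hb
    rw [hb, mem_bot] at hsW
    exact hs1 hsW
  have hh2 : IsPGroup 2 (zpowers h) := T.2.to_le (by rwa [zpowers_le])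
  have h8 := H65.PBasic.inf_centralizer_ne_bot (zpowers h) _ hh2 hW
    (H65.PBasic2.le_normalizer_om hhA) hWb
  obtain ⟨y, hy, hy1, hy2⟩ := exists_invol (hW.to_le inf_le_left) h8
  have hyx : x * y = y * x := mem_centralizer_iff.mp hy.1.1.2 x ((memC x).mpr hxs)
  have hyh : h * y = y * h := mem_centralizer_iff.mp hy.2 h (mem_zpowers h)
  exact hhn ⟨hhT, (memC h).mpr ((key y h hy1 hy2 hyx).mp hyh)⟩

end fin

end H65.NX
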