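import Cfsg.Agent.Lib.H65.NX2

/-!
Lemma Q: 2-subgroups of centralizers of involutions that are not 2-groups (class III).
-/
set_option autoImplicit false
set_option linter.unusedSectionVars false
set_option linter.style.haveILetI false

namespace H65.NX

open Subgroup

variable {G : Type*} [Group G]

/-- an element of prime (odd) order commuting with what the given odd order element commutes with -/
theorem exists_prime_pow [Finite G] {x : G} (h1 : x ≠ 1) (ho : Odd (orderOf x)) :
    ∃ n : ℕ, (orderOf (x ^ n)).Prime ∧ Odd (orderOf (x ^ n)) := by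
  obtain ⟨p, hp, k, hk⟩ := Nat.exists_prime_and_dvd (n := orderOf x)
    (by rwa [Ne, orderOf_eq_one_iff])
  refine ⟨k, ?_⟩
  have hk0 : k ≠ 0 := by rintro rfl; rw [mul_zero] at hk; exact (orderOf_pos x).ne' hk
  have h2 : orderOf (x ^ k) = p := by
    rw [orderOf_pow_of_dvd hk0 ⟨p, by rw [hk, mul_comm]⟩, hk, Nat.mul_div_cancel _ (Nat.pos_of_ne_zero hk0)]
  rw [h2]
  refine ⟨hp, ?_⟩
  rw [hk] at ho
  exact (Nat.odd_mul.mp ho).1

section fin
variable [Finite G]

/-- Lemma Q -/
theorem lemQ (hN : Nest G) (h3 : C3 G) {s x : G} (hs1 : s ≠ 1) (hs2 : s * s = 1)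
    (hx1' : x ≠ 1) (hxo' : Odd (orderOf x)) (hxs' : x * s = s * x) (P : Subgroup G)
    (hP : IsPGroup 2 P) (hPs : ∀ a ∈ P, a * s = s * a) :
    ∃ z, z ≠ 1 ∧ z * z = 1 ∧ z ≠ s ∧ (∀ a ∈ P, a * z = z * a) ∧
      (∀ a ∈ P, a ≠ 1 → a * a = 1 → a = s ∨ a = z ∨ a = z * s) ∧ (∀ a ∈ P, a * a ≠ s) ∧
      z * s = s * z := by
  haveI : Fact (Nat.Prime 2) := ⟨Nat.prime_two⟩
  obtain ⟨n, hp, hxo⟩ := exists_prime_pow hx1' hxo'
  have hxs : x ^ n * s = s * x ^ n := ((show Commute x s from hxs').pow_left n)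
  generalize x ^ n = x at hp hxo hxs
  have hx1 : x ≠ 1 := by rintro rfl; rw [orderOf_one] at hp; exact Nat.not_prime_one hp
  set C := centralizer ({s} : Set G) with hC
  have memC : ∀ c, c ∈ C ↔ c * s = s * c := fun c => mem_centralizer_singleton_iff
  have hpow : IsPGroup 2 (zpowers s) := by
    apply isPGroup_two_of_sq
    rintro y ⟨k, rfl⟩
    show s ^ k * s ^ k = 1
    rw [← (Commute.refl s).mul_zpow, hs2, one_zpow]
  obtain ⟨T, hPT, hT⟩ := exists_sylow_inf C P hP (fun a ha => (memC a).mpr (hPs a ha))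
  have hsT : s ∈ (T : Subgroup G) := mem_of_central hT ((memC s).mpr rfl) hpow
    (fun c hc => (memC c).mp hc)
  have hTb : (T : Subgroup G) ≠ ⊥ := by
    intro h; rw [h, mem_bot] at hsT; exact hs1 hsT
  obtain ⟨z, hzT, hz1, hz2, hzc⟩ := exists_central_invol T.2 hTb
  have hzx : ¬ x * z = z * x := by
    intro h
    exact hx1 (eq_one_of_odd_mem T.2 (h3 T z hzT hz1 hz2 hzc x h) hxo)
  have hzs : z * s = s * z := (hzc s hsT).symm
  have nrm : ∀ a, a * s = s * a → a * x * a⁻¹ ∈ zpowers x := fun a ha =>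
    hN.odd' s x a hs1 hs2 hxo hxs ha
  -- claim 2
  have c2 : ∀ v ∈ (T : Subgroup G), v * s = s * v → v * x = x * v → v = 1 ∨ v = s := by
    intro v hvT hvs hvx
    by_cases hv1 : v = 1
    · exact Or.inl hv1
    right
    -- involutions in powers of v
    have hinv : ∀ u, u ∈ zpowers v → u ≠ 1 → s ∈ zpowers u := by
      intro u hu hu1
      have huT : zpowers u ≤ T := by
        rw [zpowers_le]
        exact (zpowers_le.mpr hvT) hu
      obtain ⟨i, hi, hi1, hi2⟩ := exists_invol (T.2.to_le huT) (zpowers_ne_bot hu1)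
      have hiv : i ∈ zpowers v := (zpowers_le.mpr hu) hi
      obtain ⟨k, rfl⟩ := hiv
      have e1 : Commute (v ^ k) s := (show Commute v s from hvs).zpow_left k
      have e2 : Commute x (v ^ k) := (show Commute x v from hvx.symm).zpow_right k
      have := q0 hN h3 hs1 hs2 hi1 hi2 hp hxo hxs e2 e1
      rwa [this] at hi
    by_cases hvv : v * v = 1
    · have h4 := hinv v (mem_zpowers v) hv1
      obtain ⟨k, hk⟩ := h4
      have hk : v ^ k = s := hk
      rcases Int.even_or_odd' k with ⟨m, rfl | rfl⟩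
      · exfalso; apply hs1; rw [← hk, zpow_mul]; simp [zpow_ofNat, pow_two, hvv]
      · rw [← hk, zpow_add, zpow_mul]; simp [zpow_ofNat, pow_two, hvv]
    · exfalso
      have hcvz : Commute v z := hzc v hvT
      have h4 : s ∈ zpowers (v * v) :=
        hinv (v * v) (mul_mem (mem_zpowers v) (mem_zpowers v)) hvv
      have h5 : v * v = (v * z) * (v * z) := by
        rw [← pow_two (v * z), hcvz.mul_pow, pow_two, pow_two, hz2, mul_one]
      have h6 : s ∈ zpowers (v * z) := by
        rw [h5] at h4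
        exact (zpowers_le.mpr (mul_mem (mem_zpowers _) (mem_zpowers _))) h4
      have h7 := hN.cyc s (v * z) x hs1 hs2 h6 hxs
      have hvzs : (v * z) * s = s * (v * z) := by
        rw [mul_assoc, hzs, ← mul_assoc, hvs, mul_assoc]
      have h8 := nrm (v * z) hvzs
      obtain ⟨k, hk⟩ := orderOf_of_mem_two T.2 (mul_mem hvT hzT)
      have hcop : Nat.Coprime (orderOf (v * z)) (orderOf x) := by
        rw [hk]
        exact Nat.Coprime.pow_left _ (Nat.coprime_two_left.mpr hxo)
      have h9 := comm_of_coprime h8 h7 hcop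
      apply hzx
      have h10 : x * (v⁻¹ * (v * z)) = (v⁻¹ * (v * z)) * x := by
        have hxv : Commute x v⁻¹ := (show Commute x v from hvx.symm).inv_right
        exact (hxv.mul_right (show Commute x (v * z) from h9.symm))
      rwa [inv_mul_cancel_left] at h10
  have hzinv : z * x * z⁻¹ = x⁻¹ := by
    rcases conj_prime hp (nrm z hzs) (by rw [hz2, one_mul, mul_one]) with h | h
    · exact absurd h.symm hzx
    · exact h
  have hPT' : ∀ a ∈ P, a ∈ (T : Subgroup G) := fun a ha => hPT ha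
  -- an element inverting x
  have hcase : ∀ a ∈ P, (a * a) * x = x * (a * a) → a = 1 ∨ a = s ∨ a = z ∨ a = z * s := by
    intro a ha haa
    rcases conj_prime hp (nrm a (hPs a ha)) haa with h | h
    · rcases c2 a (hPT' a ha) (hPs a ha) h with h | h
      · exact Or.inl h
      · exact Or.inr (Or.inl h)
    · have h4 : (z * a) * x = x * (z * a) := by
        have : (z * a) * x * (z * a)⁻¹ = x := by
          calc (z * a) * x * (z * a)⁻¹ = z * (a * x * a⁻¹) * z⁻¹ := by group
            _ = (z * x * z⁻¹)⁻¹ := by rw [h]; group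
            _ = x := by rw [hzinv, inv_inv]
        exact mul_inv_eq_iff_eq_mul.mp this
      have h5 : (z * a) * s = s * (z * a) := by
        rw [mul_assoc, hPs a ha, ← mul_assoc, hzs, mul_assoc]
      rcases c2 (z * a) (mul_mem hzT (hPT' a ha)) h5 h4 with h6 | h6
      · right; right; left
        calc a = (z * z) * a := by rw [hz2, one_mul]
          _ = z * (z * a) := by group
          _ = z := by rw [h6, mul_one]
      · right; right; right
        calc a = (z * z) * a := by rw [hz2, one_mul]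
          _ = z * (z * a) := by group
          _ = z * s := by rw [h6]
  have hzsz : (z * s) * (z * s) = 1 := by
    calc (z * s) * (z * s) = z * (s * z) * s := by group
      _ = (z * z) * (s * s) := by rw [← hzs]; group
      _ = 1 := by rw [hz2, hs2, one_mul]
  refine ⟨z, hz1, hz2, ?_, fun a ha => hzc a (hPT' a ha), ?_, ?_, hzs⟩
  · rintro rfl; exact hzx hxs
  · intro a ha ha1 ha2
    rcases hcase a ha (by rw [ha2, one_mul, mul_one]) with h | h
    · exact absurd h ha1
    · exact h
  · intro a ha has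
    rcases hcase a ha (by rw [has]; exact hxs.symm) with h | h | h | h
    · rw [h, one_mul] at has; exact hs1 has.symm
    · rw [h, hs2] at has; exact hs1 has.symm
    · rw [h, hz2] at has; exact hs1 has.symm
    · rw [h, hzsz] at has; exact hs1 has.symm

/-- involutions in a 2-subgroup of a bad centralizer are central in it. -/
theorem q_comm (hN : Nest G) (h3 : C3 G) {s x : G} (hs1 : s ≠ 1) (hs2 : s * s = 1)
    (hx1 : x ≠ 1) (hxo : Odd (orderOf x)) (hxs : x * s = s * x) {P : Subgroup G}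
    (hP : IsPGroup 2 P) (hPs : ∀ a ∈ P, a * s = s * a) {e t : G} (he : e ∈ P) (ht : t ∈ P)
    (ht2 : t * t = 1) : e * t = t * e := by
  obtain ⟨z, -, -, -, hzc, hinv, -, hzs⟩ := lemQ hN h3 hs1 hs2 hx1 hxo hxs P hP hPs
  by_cases ht1 : t = 1
  · rw [ht1, one_mul, mul_one]
  rcases hinv t ht ht1 ht2 with h | h | h
  · rw [h]; exact hPs e he
  · rw [h]; exact hzc e he
  · rw [h, ← mul_assoc, hzc e he, mul_assoc, hPs e he, mul_assoc]

/-- commuting elements of order 4 in a 2-subgroup of a bad centralizer have the same square. -/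
theorem q_sq (hN : Nest G) (h3 : C3 G) {s x : G} (hs1 : s ≠ 1) (hs2 : s * s = 1)
    (hx1 : x ≠ 1) (hxo : Odd (orderOf x)) (hxs : x * s = s * x) {P : Subgroup G}
    (hP : IsPGroup 2 P) (hPs : ∀ a ∈ P, a * s = s * a) {e f : G} (he : e ∈ P) (hf : f ∈ P)
    (hef : e * f = f * e) (he1 : e * e ≠ 1) (he2 : (e * e) * (e * e) = 1) (hf1 : f * f ≠ 1)
    (hf2 : (f * f) * (f * f) = 1) : e * e = f * f := by
  obtain ⟨z, hz1, hz2, hzs1, hzc, hinv, hno, hzs⟩ := lemQ hN h3 hs1 hs2 hx1 hxo hxs P hP hPs
  have h1 := hinv (e * e) (mul_mem he he) he1 he2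
  have h2 := hinv (f * f) (mul_mem hf hf) hf1 hf2
  have h3' : (e * f) * (e * f) = (e * e) * (f * f) := by
    rw [← pow_two (e * f), (show Commute e f from hef).mul_pow, pow_two, pow_two]
  rcases h1 with h1 | h1 | h1
  · exact absurd h1 (hno e he)
  · rcases h2 with h2 | h2 | h2
    · exact absurd h2 (hno f hf)
    · rw [h1, h2]
    · exfalso
      apply hno (e * f) (mul_mem he hf)
      rw [h3', h1, h2, ← mul_assoc, hz2, one_mul]
  · rcases h2 with h2 | h2 | h2
    · exact absurd h2 (hno f hf)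
    · exfalso
      apply hno (e * f) (mul_mem he hf)
      rw [h3', h1, h2, hzs, mul_assoc, hz2, mul_one]
    · rw [h1, h2]

/-- at most three involutions -/
theorem q_three (hN : Nest G) (h3 : C3 G) {s x : G} (hs1 : s ≠ 1) (hs2 : s * s = 1)
    (hx1 : x ≠ 1) (hxo : Odd (orderOf x)) (hxs : x * s = s * x) {P : Subgroup G}
    (hP : IsPGroup 2 P) (hPs : ∀ a ∈ P, a * s = s * a) {a b : G} (ha : a ∈ P) (hb : b ∈ P)
    (ha1 : a ≠ 1) (ha2 : a * a = 1) (hb1 : b ≠ 1) (hb2 : b * b = 1) (hab : a ≠ b) :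
    s = a ∨ s = b ∨ s = a * b := by
  obtain ⟨z, hz1, hz2, hzs1, hzc, hinv, hno, hzs⟩ := lemQ hN h3 hs1 hs2 hx1 hxo hxs P hP hPs
  rcases hinv a ha ha1 ha2 with h | h | h
  · exact Or.inl h.symm
  · rcases hinv b hb hb1 hb2 with h' | h' | h'
    · exact Or.inr (Or.inl h'.symm)
    · exact absurd (h.trans h'.symm) hab
    · right; right; rw [h, h', ← mul_assoc, hz2, one_mul]
  · rcases hinv b hb hb1 hb2 with h' | h' | h'
    · exact Or.inr (Or.inl h'.symm)
    · right; right; rw [h, h', hzs, mul_assoc, hz2, mul_one]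
    · exact absurd (h.trans h'.symm) hab

end fin

end H65.NX
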