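import Cfsg.Agent.Lib.H65.NX3

/-!
Class III, case A(i).
-/
set_option autoImplicit false
set_option linter.unusedSectionVars false
set_option linter.style.haveILetI false

namespace H65.NX

open Subgroup

variable {G : Type*} [Group G]

theorem exists_fixed {p : ℕ} [Fact p.Prime] {d : G} {n : ℕ} (hd : d ^ p ^ n = 1) (S : Set G)
    [Finite S] (hS : ∀ s ∈ S, d * s * d⁻¹ ∈ S) (hc : ¬ p ∣ Nat.card S) :
    ∃ s ∈ S, d * s = s * d := by
  classical
  have : Fintype S := Fintype.ofFinite S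
  let f : Function.End S := fun s => ⟨d * s * d⁻¹, hS s s.2⟩
  have hf : ∀ (k : ℕ) (s : S), (((f ^ k : Function.End S) s : S) : G) = d ^ k * s * (d ^ k)⁻¹ := by
    intro k
    induction k with
    | zero => intro s; simp [pow_zero]; rfl
    | succ k ih =>
      intro s
      rw [pow_succ]
      show (((f ^ k : Function.End S) (f s) : S) : G) = _
      rw [ih]
      show d ^ k * (d * s * d⁻¹) * (d ^ k)⁻¹ = _
      rw [pow_succ]; group
  have h1 : f ^ p ^ n = 1 := by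
    funext s
    apply Subtype.ext
    rw [hf, hd]; simp; rfl
  have h2 := Equiv.Perm.card_fixedPoints_modEq h1
  have h3 : Fintype.card (Function.fixedPoints f) ≠ 0 := by
    intro h0
    rw [h0] at h2
    apply hc
    rw [Nat.card_eq_fintype_card]
    exact (Nat.modEq_zero_iff_dvd.mp h2)
  obtain ⟨⟨s, hs⟩⟩ := Fintype.card_pos_iff.mp (Nat.pos_of_ne_zero h3)
  refine ⟨s, s.2, ?_⟩
  have h4 := congrArg Subtype.val hs
  have h5 : d * (s : G) * d⁻¹ = s := h4
  exact mul_inv_eq_iff_eq_mul.mp h5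

theorem coset_fixed [Finite G] {p : ℕ} (hp : p.Prime) (hp2 : p ≠ 2) {d : G} {n : ℕ}
    (hd : d ^ p ^ n = 1) {T B : Subgroup G} (hT2 : IsPGroup 2 T) (hBT : B ≤ T)
    {c0 : G} (hc0 : c0 ∈ T) (hc0B : c0 ∉ B) (hcos : ∀ c ∈ T, c ∉ B → c0⁻¹ * c ∈ B)
    (hT : ∀ t ∈ T, d * t * d⁻¹ ∈ T) (hB : ∀ t ∈ T, d * t * d⁻¹ ∈ B → t ∈ B) :
    ∃ b ∈ T, b ∉ B ∧ d * b = b * d := by
  haveI : Fact p.Prime := ⟨hp⟩
  let S : Set G := {c | c ∈ T ∧ c ∉ B}
  have hcard : Nat.card S = Nat.card B := by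
    refine Nat.card_congr ⟨fun c => ⟨c0⁻¹ * c, hcos c c.2.1 c.2.2⟩,
      fun b => ⟨c0 * b, ⟨mul_mem hc0 (hBT b.2), fun h => hc0B ?_⟩⟩, ?_, ?_⟩
    · have := mul_mem h (inv_mem b.2)
      rwa [mul_inv_cancel_right] at this
    · intro c; apply Subtype.ext; simp
    · intro b; apply Subtype.ext; simp
  obtain ⟨s, hs, h⟩ := exists_fixed hd S (fun s hs => ⟨hT s hs.1, fun h => hs.2 (hB s hs.1 h)⟩) (by
    rw [hcard]
    intro hdvd
    obtain ⟨k, hk⟩ := (hT2.to_le hBT).exists_card_eq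
    rw [hk] at hdvd
    exact hp2 ((Nat.prime_dvd_prime_iff_eq hp Nat.prime_two).mp (hp.dvd_of_dvd_pow hdvd)))
  exact ⟨s, hs.1, hs.2, h⟩

/-- `z` is a central involution of `T` -/
structure TwoC (T : Subgroup G) (z : G) : Prop where
  mem : z ∈ T
  ne : z ≠ 1
  sq : z * z = 1
  cen : ∀ t ∈ T, t * z = z * t

theorem cjmul (a b x : G) : MulAut.conj (a * b) x = MulAut.conj a (MulAut.conj b x) := by
  rw [map_mul, MulAut.mul_apply]

/-- the four-group `{1, z, r, r z}` -/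
def four (z r : G) (hz : z * z = 1) (hr : r * r = 1) (hc : r * z = z * r) : Subgroup G where
  carrier := {v | v = 1 ∨ v = z ∨ v = r ∨ v = r * z}
  one_mem' := Or.inl rfl
  mul_mem' := by
    have e1 : z * (r * z) = r := by rw [← mul_assoc, ← hc, mul_assoc, hz, mul_one]
    have e2 : r * (r * z) = z := by rw [← mul_assoc, hr, one_mul]
    have e3 : r * z * z = r := by rw [mul_assoc, hz, mul_one]
    have e4 : r * z * r = z := by rw [mul_assoc, ← hc, e2]
    have e5 : r * z * (r * z) = 1 := by rw [← mul_assoc, e4, hz]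
    rintro a b (rfl | rfl | rfl | rfl) (rfl | rfl | rfl | rfl) <;>
      simp [hz, hr, e1, e2, e3, e4, e5, ← hc]
  inv_mem' := by
    have e4 : r * z * (r * z) = 1 := by
      calc r * z * (r * z) = r * (z * r) * z := by group
        _ = (r * r) * (z * z) := by rw [← hc]; group
        _ = 1 := by rw [hz, hr, one_mul]
    rintro a (rfl | rfl | rfl | rfl)
    · simp
    · right; left; exact inv_eq_of_mul_eq_one_left hz
    · right; right; left; exact inv_eq_of_mul_eq_one_left hr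
    · right; right; right; exact inv_eq_of_mul_eq_one_left e4

theorem mem_four {z r : G} {hz : z * z = 1} {hr : r * r = 1} {hc : r * z = z * r} {v : G} :
    v ∈ four z r hz hr hc ↔ v = 1 ∨ v = z ∨ v = r ∨ v = r * z := Iff.rfl

structure Rho (T : Subgroup G) (z r e ρ c0 : G) : Prop where
  hz : TwoC T z
  he : e * e = z
  hr1 : r ≠ 1
  hr2 : r * r = 1
  hrz : r * z = z * r
  hne : z ≠ r
  her : e * r = r * e
  hρ3 : ρ ^ 3 = 1
  ρz : ρ * z * ρ⁻¹ = r
  ρr : ρ * r * ρ⁻¹ = r * z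
  hU : ∀ u, u * u = 1 → u * z = z * u → u * r = r * u → u * e = e * u →
    u * (ρ * e * ρ⁻¹) = (ρ * e * ρ⁻¹) * u → u⁻¹ * (ρ * u * ρ⁻¹) ∈ four z r hz.sq hr2 hrz
  hc0 : c0 ∈ T
  hc0r : c0 * r * c0⁻¹ = r * z

section fin
variable [Finite G]

theorem exists_rho (hN : Nest G) (h3 : C3 G) {T : Sylow 2 G} {z e g : G}
    (hz : TwoC (T : Subgroup G) z) (he : e * e = z) (hne : g * z * g⁻¹ ≠ z)
    (hre : (g * z * g⁻¹) * e = e * (g * z * g⁻¹))
    (hcon : ¬ ∀ c ∈ (T : Subgroup G), c * (g * z * g⁻¹) = (g * z * g⁻¹) * c) :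
    ∃ r ρ c0, Rho (T : Subgroup G) z r e ρ c0 := by
  haveI : Fact (Nat.Prime 2) := ⟨Nat.prime_two⟩
  have hz' := hz
  obtain ⟨hzT, hz1, hz2, hzc⟩ := hz
  have memT : ∀ c, c * z = z * c ↔ c ∈ (T : Subgroup G) :=
    fun c => ⟨fun h => h3 T z hzT hz1 hz2 hzc c h, fun h => hzc c h⟩
  set r := g * z * g⁻¹ with hr
  push Not at hcon
  obtain ⟨c0, hc0, hc0r⟩ := hcon
  have hr1 : r ≠ 1 := by
    intro h
    apply hz1
    calc z = g⁻¹ * r * g := by rw [hr]; group
      _ = 1 := by rw [h]; group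
  have hr2 : r * r = 1 := by
    calc r * r = g * (z * z) * g⁻¹ := by rw [hr]; group
      _ = 1 := by rw [hz2, mul_one, mul_inv_cancel]
  have hrz : r * z = z * r := by
    rw [← he, ← mul_assoc, hre, mul_assoc, hre, ← mul_assoc]
  have hc0z : c0 * z = z * c0 := hzc c0 hc0
  have hc0r' : c0 * r * c0⁻¹ = r * z := by
    rcases b3 hN hz1 hz2 he hr2 hre hc0z with h | h
    · exact absurd (mul_inv_eq_iff_eq_mul.mp h) hc0r
    · exact h
  -- the centralizer of `r`
  have memR : ∀ c, c * r = r * c ↔ g⁻¹ * c * g ∈ (T : Subgroup G) := by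
    intro c
    rw [← memT, hr]
    constructor
    · intro h
      calc g⁻¹ * c * g * z = g⁻¹ * (c * (g * z * g⁻¹)) * g := by group
        _ = z * (g⁻¹ * c * g) := by rw [h]; group
    · intro h
      calc c * (g * z * g⁻¹) = g * (g⁻¹ * c * g * z) * g⁻¹ := by group
        _ = g * z * g⁻¹ * c := by rw [h]; group
  obtain ⟨c1, hc1r, hc1z⟩ : ∃ c1, c1 * r = r * c1 ∧ c1 * z ≠ z * c1 := by
    by_contra hcon
    push Not at hcon
    have hle : (T : Subgroup G).map (MulAut.conj g).toMonoidHom ≤ T := by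
      rintro y ⟨t, ht, rfl⟩
      show g * t * g⁻¹ ∈ (T : Subgroup G)
      apply (memT _).mp
      apply hcon
      rw [memR]
      have : g⁻¹ * (g * t * g⁻¹) * g = t := by group
      rw [this]; exact ht
    have hcard : Nat.card ((T : Subgroup G).map (MulAut.conj g).toMonoidHom) =
        Nat.card (T : Subgroup G) :=
      Nat.card_congr ((T : Subgroup G).equivMapOfInjective _ (MulAut.conj g).injective).toEquiv.symm
    have heq := Subgroup.eq_of_le_of_card_ge hle hcard.ge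
    have h4 : c0 ∈ (T : Subgroup G).map (MulAut.conj g).toMonoidHom := by rw [heq]; exact hc0
    obtain ⟨t, ht, htc⟩ := h4
    apply hc0r
    rw [memR, ← htc]
    show g⁻¹ * (g * t * g⁻¹) * g ∈ (T : Subgroup G)
    have : g⁻¹ * (g * t * g⁻¹) * g = t := by group
    rw [this]; exact ht
  -- f : square root of r, commuting with e
  set f := g * e * g⁻¹ with hf
  have hff : f * f = r := by
    calc f * f = g * (e * e) * g⁻¹ := by rw [hf]; group
      _ = r := by rw [he]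
  have hfz : f * z = z * f := by
    have hez : e * r = r * e := hre.symm
    rcases b1 hN hr1 hr2 hff hez with h | h
    · have h4 : Commute e f := mul_inv_eq_iff_eq_mul.mp h
      have : Commute (e * e) f := h4.mul_left h4
      rw [he] at this
      exact this.symm.eq
    · have h5 : (e * e) * f * (e * e)⁻¹ = f := by
        have h6 : e * f⁻¹ * e⁻¹ = f := by
          have : e * f⁻¹ * e⁻¹ = (e * f * e⁻¹)⁻¹ := by group
          rw [this, h, inv_inv]
        calc (e * e) * f * (e * e)⁻¹ = e * (e * f * e⁻¹) * e⁻¹ := by group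
          _ = f := by rw [h, h6]
      rw [he] at h5
      exact (mul_inv_eq_iff_eq_mul.mp h5).symm
  have hef : e * f = f * e := b2 hN hz1 hz2 hr1 hr2 (fun h => hne h.symm) he hff hre.symm hfz
  have hzf : z * f = f * z := hfz.symm
  have hc1z' : c1 * z * c1⁻¹ = z * r := by
    rcases b3 hN hr1 hr2 hff hz2 hzf hc1r with h | h
    · exact absurd (mul_inv_eq_iff_eq_mul.mp h) hc1z
    · exact h
  -- conj by ρ0 = c0 c1
  set ρ0 := c0 * c1 with hρ0
  have e2 : r * (r * z) = z := by rw [← mul_assoc, hr2, one_mul]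
  have e4 : r * z * r = z := by rw [mul_assoc, ← hrz, e2]
  have e5 : z * (r * z) = r := by rw [← mul_assoc, ← hrz, mul_assoc, hz2, mul_one]
  have a1 : MulAut.conj ρ0 z = r := by
    rw [hρ0, cjmul, MulAut.conj_apply c1, hc1z', map_mul (MulAut.conj c0) z r, MulAut.conj_apply,
      MulAut.conj_apply, hc0r', mul_inv_eq_iff_eq_mul.mpr hc0z, e5]
  have a2 : MulAut.conj ρ0 r = r * z := by
    rw [hρ0, cjmul, MulAut.conj_apply c1, mul_inv_eq_iff_eq_mul.mpr hc1r, MulAut.conj_apply, hc0r']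
  have a3 : MulAut.conj ρ0 (r * z) = z := by
    rw [map_mul (MulAut.conj ρ0) r z, a1, a2, e4]
  have hcube : ∀ x, MulAut.conj (ρ0 ^ 3) x = MulAut.conj ρ0 (MulAut.conj ρ0 (MulAut.conj ρ0 x)) := by
    intro x
    rw [pow_succ, pow_two, cjmul, cjmul]
  have b3' : ρ0 ^ 3 * z = z * ρ0 ^ 3 := by
    apply mul_inv_eq_iff_eq_mul.mp
    rw [← MulAut.conj_apply, hcube, a1, a2, a3]
  have b4' : ρ0 ^ 3 * r = r * ρ0 ^ 3 := by
    apply mul_inv_eq_iff_eq_mul.mp
    rw [← MulAut.conj_apply, hcube, a2, a3, a1]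
  obtain ⟨k, hk⟩ := orderOf_of_mem_two T.2 ((memT _).mp b3')
  obtain ⟨m, hm⟩ : ∃ m, 4 ^ k = 3 * m + 1 := by
    clear hk
    induction k with
    | zero => exact ⟨0, rfl⟩
    | succ k ih => obtain ⟨m, hm⟩ := ih; exact ⟨4 * m + 1, by rw [pow_succ, hm]; ring⟩
  have hpowm : ρ0 ^ (4 ^ k) = (ρ0 ^ 3) ^ m * ρ0 := by rw [hm, pow_succ, pow_mul]
  have hbm : ∀ y, ρ0 ^ 3 * y = y * ρ0 ^ 3 → MulAut.conj ((ρ0 ^ 3) ^ m) y = y := by
    intro y hy
    rw [MulAut.conj_apply, mul_inv_eq_iff_eq_mul]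
    exact (show Commute (ρ0 ^ 3) y from hy).pow_left m
  have hρ3 : (ρ0 ^ (4 ^ k)) ^ 3 = 1 := by
    rw [← pow_mul, mul_comm, pow_mul, show (4 : ℕ) = 2 * 2 from rfl, mul_pow, pow_mul, ← hk,
      pow_orderOf_eq_one, one_pow]
  have hρz : ρ0 ^ (4 ^ k) * z * (ρ0 ^ (4 ^ k))⁻¹ = r := by
    rw [← MulAut.conj_apply, hpowm, cjmul, a1, hbm r b4']
  have hρr : ρ0 ^ (4 ^ k) * r * (ρ0 ^ (4 ^ k))⁻¹ = r * z := by
    rw [← MulAut.conj_apply, hpowm, cjmul, a2, map_mul (MulAut.conj ((ρ0 ^ 3) ^ m)) r z, hbm r b4',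
      hbm z b3']
  refine ⟨r, ρ0 ^ (4 ^ k), c0, ⟨hz', he, hr1, hr2, hrz, fun h => hne h.symm, hre.symm, hρ3,
    hρz, hρr, ?_, hc0, hc0r'⟩⟩
  intro u hu huz hur hue huf
  set V := four z r hz2 hr2 hrz with hV
  have memV : ∀ v, v ∈ V ↔ v = 1 ∨ v = z ∨ v = r ∨ v = r * z := fun v => Iff.rfl
  set x1 := ρ0 ^ (4 ^ k) * e * (ρ0 ^ (4 ^ k))⁻¹ with hx1
  have hx1s : x1 * x1 = r := by
    calc x1 * x1 = ρ0 ^ (4 ^ k) * (e * e) * (ρ0 ^ (4 ^ k))⁻¹ := by rw [hx1]; group
      _ = r := by rw [he, hρz]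
  let M : Submonoid G :=
    { carrier := {a | (∀ v ∈ V, a * v * a⁻¹ ∈ V) ∧ u⁻¹ * (a * u * a⁻¹) ∈ V}
      one_mem' := by
        refine ⟨fun v hv => by simpa using hv, ?_⟩
        simp only [one_mul, inv_one, mul_one, inv_mul_cancel]
        exact one_mem V
      mul_mem' := by
        rintro a b ⟨ha1, ha2⟩ ⟨hb1, hb2⟩
        refine ⟨fun v hv => ?_, ?_⟩
        · have : a * b * v * (a * b)⁻¹ = a * (b * v * b⁻¹) * a⁻¹ := by group
          rw [this]; exact ha1 _ (hb1 v hv)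
        · have : u⁻¹ * (a * b * u * (a * b)⁻¹) =
              (u⁻¹ * (a * u * a⁻¹)) * (a * (u⁻¹ * (b * u * b⁻¹)) * a⁻¹) := by group
          rw [this]; exact mul_mem ha2 (ha1 _ hb2) }
  have hui : u⁻¹ = u := inv_eq_of_mul_eq_one_left hu
  have hzinv : z⁻¹ = z := inv_eq_of_mul_eq_one_left hz2
  have hc0V : ∀ v ∈ V, c0 * v * c0⁻¹ ∈ V := by
    intro v hv
    rw [memV] at hv ⊢
    rcases hv with rfl | rfl | rfl | rfl
    · left; simp
    · right; left; exact mul_inv_eq_iff_eq_mul.mpr hc0z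
    · right; right; right; exact hc0r'
    · right; right; left
      have : c0 * (r * z) * c0⁻¹ = (c0 * r * c0⁻¹) * (c0 * z * c0⁻¹) := by group
      rw [this, hc0r', mul_inv_eq_iff_eq_mul.mpr hc0z, mul_assoc, hz2, mul_one]
  have hc1V : ∀ v ∈ V, c1 * v * c1⁻¹ ∈ V := by
    intro v hv
    rw [memV] at hv ⊢
    rcases hv with rfl | rfl | rfl | rfl
    · left; simp
    · right; right; right; rw [hc1z', hrz]
    · right; right; left; exact mul_inv_eq_iff_eq_mul.mpr hc1r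
    · right; left
      have : c1 * (r * z) * c1⁻¹ = (c1 * r * c1⁻¹) * (c1 * z * c1⁻¹) := by group
      rw [this, hc1z', mul_inv_eq_iff_eq_mul.mpr hc1r, ← hrz, e2]
  have hc0M : c0 ∈ M := by
    refine ⟨hc0V, ?_⟩
    rw [memV]
    rcases b3 hN hz1 hz2 he hu hue hc0z with h | h
    · left; rw [h, inv_mul_cancel]
    · right; left; rw [h, inv_mul_cancel_left]
  have hc1M : c1 ∈ M := by
    refine ⟨hc1V, ?_⟩
    rw [memV]
    rcases b3 hN hr1 hr2 hx1s hu huf hc1r with h | h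
    · left; rw [h, inv_mul_cancel]
    · right; right; left; rw [h, inv_mul_cancel_left]
  exact (pow_mem (mul_mem hc0M hc1M) (4 ^ k) : (c0 * c1) ^ (4 ^ k) ∈ M).2

end fin

end H65.NX
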