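import Cfsg.Agent.Lib.H65.NX4

/-!
Class III, case A(i): the configuration `Rho` is impossible.
-/
set_option autoImplicit false
set_option linter.unusedSectionVars false
set_option linter.style.haveILetI false

namespace H65.NX

open Subgroup

variable {G : Type*} [Group G]

section fin
variable [Finite G]

theorem Rho.false (hN : Nest G) (h3 : C3 G) {T : Sylow 2 G} {z r e ρ c0 : G}
    (h : Rho (T : Subgroup G) z r e ρ c0) : False := by
  haveI : Fact (Nat.Prime 2) := ⟨Nat.prime_two⟩
  obtain ⟨⟨hzT, hz1, hz2, hzc⟩, he, hr1, hr2, hrz, hne, her, hρ3, hρz, hρr, hU, hc0, hc0r⟩ := h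
  have memT : ∀ c, c * z = z * c ↔ c ∈ (T : Subgroup G) :=
    fun c => ⟨fun h => h3 T z hzT hz1 hz2 hzc c h, fun h => hzc c h⟩
  have hρ1 : ρ ≠ 1 := by
    rintro rfl
    apply hne
    rw [← hρz]; simp
  have hρo : orderOf ρ = 3 := orderOf_eq_prime hρ3 hρ1
  have hρodd : Odd (orderOf ρ) := by rw [hρo]; decide
  set V := four z r hz2 hr2 hrz with hV
  have memV : ∀ v, v ∈ V ↔ v = 1 ∨ v = z ∨ v = r ∨ v = r * z := fun v => Iff.rfl
  have e2 : r * (r * z) = z := by rw [← mul_assoc, hr2, one_mul]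
  have e4 : r * z * r = z := by rw [mul_assoc, ← hrz, e2]
  have e5 : z * (r * z) = r := by rw [← mul_assoc, ← hrz, mul_assoc, hz2, mul_one]
  have e6 : r * z * z = r := by rw [mul_assoc, hz2, mul_one]
  have hrz1 : r * z ≠ 1 := by
    intro h
    apply hne
    calc z = r * (r * z) := e2.symm
      _ = r := by rw [h, mul_one]
  have hrz2 : (r * z) * (r * z) = 1 := by rw [← mul_assoc, e4, hz2]
  have hrzz : r ≠ r * z := by
    intro h
    apply hz1
    have h' : r * 1 = r * z := by rw [mul_one]; exact h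
    exact (mul_left_cancel h').symm
  have hzrz : z ≠ r * z := by
    intro h
    apply hr1
    have h' : 1 * z = r * z := by rw [one_mul]; exact h
    exact (mul_right_cancel h').symm
  have hrT : r ∈ (T : Subgroup G) := (memT r).mp hrz
  have heT : e ∈ (T : Subgroup G) := (memT e).mp (comm_sq he)
  -- TV
  set TV : Subgroup G := (T : Subgroup G) ⊓ centralizer ({r} : Set G) with hTV
  have memTV : ∀ c, c ∈ TV ↔ c * z = z * c ∧ c * r = r * c := by
    intro c
    rw [hTV, mem_inf, mem_centralizer_singleton_iff, memT]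
  have hTV2 : IsPGroup 2 TV := T.2.to_le inf_le_left
  have cjm : ∀ a x y : G, a * (x * y) * a⁻¹ = (a * x * a⁻¹) * (a * y * a⁻¹) := by
    intro a x y; group
  have hρrz : ρ * (r * z) * ρ⁻¹ = z := by rw [cjm, hρr, hρz, e4]
  -- ρ and ρ⁻¹ preserve TV
  have ρTV : ∀ c, c ∈ TV ↔ ρ * c * ρ⁻¹ ∈ TV := by
    intro c
    have cc : ∀ a b : G, a * b = b * a → (ρ * a * ρ⁻¹) * (ρ * b * ρ⁻¹) = (ρ * b * ρ⁻¹) * (ρ * a * ρ⁻¹) := by
      intro a b hab
      rw [← cjm, ← cjm, hab]
    have cc' : ∀ a b : G, (ρ * a * ρ⁻¹) * (ρ * b * ρ⁻¹) = (ρ * b * ρ⁻¹) * (ρ * a * ρ⁻¹) → a * b = b * a := by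
      intro a b hab
      rw [← cjm, ← cjm] at hab
      exact mul_left_cancel (mul_right_cancel hab)
    rw [memTV, memTV]
    constructor
    · rintro ⟨h1, h2⟩
      have h4 := cc _ _ h1
      have h5 := cc _ _ h2
      rw [hρz] at h4
      rw [hρr] at h5
      refine ⟨?_, h4⟩
      -- commutes with r and r z hence with z
      have : Commute (ρ * c * ρ⁻¹) (r * (r * z)) :=
        (show Commute (ρ * c * ρ⁻¹) r from h4).mul_right (show Commute (ρ * c * ρ⁻¹) (r * z) from h5)
      rw [e2] at this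
      exact this
    · rintro ⟨h1, h2⟩
      have hz' : c * z = z * c := cc' _ _ (by rw [hρz]; exact h2)
      refine ⟨hz', ?_⟩
      apply cc'
      rw [hρr]
      exact ((show Commute (ρ * c * ρ⁻¹) r from h2).mul_right (show Commute (ρ * c * ρ⁻¹) z from h1))
  set x1 := ρ * e * ρ⁻¹ with hx1
  have hx1s : x1 * x1 = r := by rw [hx1, ← cjm, he, hρz]
  have heTV : e ∈ TV := (memTV e).mpr ⟨comm_sq he, her⟩
  have hx1TV : x1 ∈ TV := (ρTV e).mp heTV
  have hex1 : e * x1 = x1 * e :=
    b2 hN hz1 hz2 hr1 hr2 hne he hx1s her ((memTV x1).mp hx1TV).1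
  -- bad involutions
  have hbad : ∀ i, i ∈ TV → i ≠ 1 → i * i = 1 → ρ * i = i * ρ → False := by
    intro i hi hi1 hi2 hiρ
    have hiV := (memTV i).mp hi
    have hP : IsPGroup 2 ((T : Subgroup G) ⊓ centralizer ({i} : Set G) : Subgroup G) :=
      T.2.to_le inf_le_left
    have hzP : z ∈ (T : Subgroup G) ⊓ centralizer ({i} : Set G) :=
      mem_inf.mpr ⟨hzT, mem_centralizer_singleton_iff.mpr hiV.1.symm⟩
    have hrP : r ∈ (T : Subgroup G) ⊓ centralizer ({i} : Set G) :=
      mem_inf.mpr ⟨hrT, mem_centralizer_singleton_iff.mpr hiV.2.symm⟩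
    have h4 := q_three hN h3 hi1 hi2 hρ1 hρodd hiρ hP
      (fun a ha => mem_centralizer_singleton_iff.mp (mem_inf.mp ha).2) hzP hrP hz1 hz2 hr1 hr2 hne
    have h5 : ρ * i * ρ⁻¹ = i := by rw [hiρ, mul_inv_cancel_right]
    rcases h4 with h4 | h4 | h4
    · rw [h4, hρz] at h5; exact hne h5.symm
    · rw [h4, hρr] at h5; exact hrzz h5.symm
    · rw [h4, ← hrz, hρrz] at h5; exact hzrz h5
  -- (1)
  have hUV : ∀ u, u ∈ TV → u * u = 1 → u * e = e * u → u * x1 = x1 * u → u ∈ V := by
    intro u huTV hu2 hue hux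
    have huV := (memTV u).mp huTV
    have h4 := hU u hu2 huV.1 huV.2 hue hux
    -- find the fixed point
    obtain ⟨w, hwV, hw⟩ : ∃ w ∈ V, ρ * (u * w) * ρ⁻¹ = u * w := by
      have key : ∀ v w, u⁻¹ * (ρ * u * ρ⁻¹) = v → v * (ρ * w * ρ⁻¹) = w →
          ρ * (u * w) * ρ⁻¹ = u * w := by
        intro v w h5 h6
        have h7 : ρ * u * ρ⁻¹ = u * v := by rw [← h5, mul_inv_cancel_left]
        rw [cjm, h7, mul_assoc, h6]
      rcases h4 with h4 | h4 | h4 | h4
      · exact ⟨1, one_mem V, key 1 1 h4 (by simp)⟩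
      · exact ⟨r, (memV r).mpr (Or.inr (Or.inr (Or.inl rfl))), key z r h4 (by rw [hρr, e5])⟩
      · exact ⟨r * z, (memV _).mpr (Or.inr (Or.inr (Or.inr rfl))), key r (r * z) h4 (by rw [hρrz])⟩
      · exact ⟨z, (memV z).mpr (Or.inr (Or.inl rfl)), key (r * z) z h4 (by rw [hρz, e4])⟩
    have hVTV : V ≤ TV := by
      intro v hv
      rw [memTV]
      rcases hv with rfl | rfl | rfl | rfl
      · simp
      · exact ⟨rfl, hrz.symm⟩
      · exact ⟨hrz, rfl⟩
      · exact ⟨(show Commute (r * z) z from (Commute.mul_left hrz (Commute.refl z))),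
          (show Commute (r * z) r from (Commute.mul_left (Commute.refl r) hrz.symm))⟩
    have hwTV := hVTV hwV
    have huw : u * w ∈ TV := mul_mem huTV hwTV
    have hw2 : w * w = 1 := by
      rcases hwV with rfl | rfl | rfl | rfl
      · simp
      · exact hz2
      · exact hr2
      · exact hrz2
    have huwc : u * w = w * u := by
      rcases hwV with rfl | rfl | rfl | rfl
      · simp
      · exact huV.1
      · exact huV.2
      · exact (show Commute u (r * z) from Commute.mul_right huV.2 huV.1)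
    have huw2 : (u * w) * (u * w) = 1 := by
      calc (u * w) * (u * w) = u * (w * u) * w := by group
        _ = (u * u) * (w * w) := by rw [← huwc]; group
        _ = 1 := by rw [hu2, hw2, one_mul]
    by_cases huw1 : u * w = 1
    · have : u = w⁻¹ := eq_inv_of_mul_eq_one_left huw1
      rw [this]; exact inv_mem hwV
    · exact absurd (mul_inv_eq_iff_eq_mul.mp hw) (fun h => hbad _ huw huw1 huw2 h)
  -- (2) TV centralizes e
  have sgn : ∀ c ∈ TV, c * e = e * c → c * x1 = x1 * c := by
    intro c hc hce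
    have hcV := (memTV c).mp hc
    rcases b1 hN hr1 hr2 hx1s hcV.2 with h | h
    · exact mul_inv_eq_iff_eq_mul.mp h
    · exfalso
      have hex : (e * x1) * (e * x1) = r * z := by
        rw [← pow_two, (show Commute e x1 from hex1).mul_pow, pow_two, pow_two, he, hx1s, ← hrz]
      have hcrz : c * (r * z) = (r * z) * c :=
        (show Commute c (r * z) from Commute.mul_right hcV.2 hcV.1)
      have h4 := b1 hN hrz1 hrz2 hex hcrz
      have h5 : c * e * c⁻¹ = e := by rw [hce, mul_inv_cancel_right]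
      rw [cjm, h5, h] at h4
      rcases h4 with h4 | h4
      · have h6 := mul_left_cancel h4
        apply hr1
        rw [← hx1s]
        exact mul_eq_one_iff_eq_inv.mpr h6.symm
      · rw [mul_inv_rev e x1] at h4
        have h6 : x1⁻¹ * e = x1⁻¹ * e⁻¹ := by
          rw [← h4]; exact ((show Commute e x1 from hex1).inv_right).symm.eq
        have h7 := mul_left_cancel h6
        apply hz1
        rw [← he]
        exact mul_eq_one_iff_eq_inv.mpr h7
  have sgn' : ∀ c ∈ TV, c * x1 = x1 * c → c * e = e * c := by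
    intro c hc hcx
    have hcV := (memTV c).mp hc
    rcases b1 hN hz1 hz2 he hcV.1 with h | h
    · exact mul_inv_eq_iff_eq_mul.mp h
    · exfalso
      have hex : (e * x1) * (e * x1) = r * z := by
        rw [← pow_two, (show Commute e x1 from hex1).mul_pow, pow_two, pow_two, he, hx1s, ← hrz]
      have hcrz : c * (r * z) = (r * z) * c :=
        (show Commute c (r * z) from Commute.mul_right hcV.2 hcV.1)
      have h4 := b1 hN hrz1 hrz2 hex hcrz
      have h5 : c * x1 * c⁻¹ = x1 := by rw [hcx, mul_inv_cancel_right]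
      rw [cjm, h5, h] at h4
      rcases h4 with h4 | h4
      · have h6 := mul_right_cancel h4
        apply hz1
        rw [← he]
        exact mul_eq_one_iff_eq_inv.mpr h6.symm
      · rw [mul_inv_rev e x1] at h4
        have h6 : e⁻¹ * x1 = e⁻¹ * x1⁻¹ := by
          rw [h4]; exact ((show Commute e x1 from hex1).inv_inv).symm.eq
        have h7 := mul_left_cancel h6
        apply hr1
        rw [← hx1s]
        exact mul_eq_one_iff_eq_inv.mpr h7
  have hTVe : ∀ c ∈ TV, c * e = e * c := by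
    by_contra hcon
    push Not at hcon
    obtain ⟨c, hc, hce⟩ := hcon
    set B : Subgroup G := TV ⊓ centralizer ({e} : Set G) with hB
    have memB : ∀ a, a ∈ B ↔ a ∈ TV ∧ a * e = e * a := by
      intro a; rw [hB, mem_inf, mem_centralizer_singleton_iff]
    obtain ⟨b, hbT, hbB, hb⟩ := coset_fixed (p := 3) Nat.prime_three (by norm_num) (d := ρ) (n := 1)
      (by simpa using hρ3) hTV2 (inf_le_left : B ≤ TV) hc
      (fun h => hce ((memB c).mp h).2)
      (by
        intro a ha haB
        rw [memB]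
        refine ⟨mul_mem (inv_mem hc) ha, ?_⟩
        have h4 : c * e * c⁻¹ = e⁻¹ := by
          rcases b1 hN hz1 hz2 he ((memTV c).mp hc).1 with h | h
          · exact absurd (mul_inv_eq_iff_eq_mul.mp h) hce
          · exact h
        have h5 : a * e * a⁻¹ = e⁻¹ := by
          rcases b1 hN hz1 hz2 he ((memTV a).mp ha).1 with h | h
          · exact absurd ((memB a).mpr ⟨ha, mul_inv_eq_iff_eq_mul.mp h⟩) haB
          · exact h
        apply mul_inv_eq_iff_eq_mul.mp
        calc c⁻¹ * a * e * (c⁻¹ * a)⁻¹ = c⁻¹ * (a * e * a⁻¹) * c := by group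
          _ = c⁻¹ * (c * e * c⁻¹) * c := by rw [h5, h4]
          _ = e := by group)
      (fun t ht => (ρTV t).mp ht)
      (by
        intro t ht htB
        rw [memB] at htB ⊢
        refine ⟨ht, ?_⟩
        have h6 := sgn _ htB.1 htB.2
        have h7 : ρ * (t * e) * ρ⁻¹ = ρ * (e * t) * ρ⁻¹ := by rw [cjm, cjm]; exact h6
        exact mul_left_cancel (mul_right_cancel h7))
    have hb1 : b ≠ 1 := by rintro rfl; exact hbB (one_mem B)
    have hbz : zpowers b ≤ TV := by rwa [zpowers_le]
    obtain ⟨i, hi, hi1, hi2⟩ := exists_invol (hTV2.to_le hbz) (zpowers_ne_bot hb1)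
    refine hbad i (hbz hi) hi1 hi2 ?_
    obtain ⟨k, rfl⟩ := hi
    exact (show Commute ρ b from hb).zpow_right k
  have hinvV : ∀ u ∈ TV, u * u = 1 → u ∈ V := fun u hu hu2 =>
    hUV u hu hu2 (hTVe u hu) (sgn u hu (hTVe u hu))
  -- (3)
  have hc0z : c0 * z = z * c0 := hzc c0 hc0
  have hout : ∀ c ∈ (T : Subgroup G), c * r ≠ r * c → c * c = 1 := by
    intro c hcT hcr
    have hcz : c * z = z * c := hzc c hcT
    have hcr' : c * r * c⁻¹ = r * z := by
      rcases b3 hN hz1 hz2 he hr2 her.symm hcz with h | h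
      · exact absurd (mul_inv_eq_iff_eq_mul.mp h) hcr
      · exact h
    have hccTV : c * c ∈ TV := by
      rw [memTV]
      refine ⟨(show Commute (c * c) z from Commute.mul_left hcz hcz), ?_⟩
      apply mul_inv_eq_iff_eq_mul.mp
      calc c * c * r * (c * c)⁻¹ = c * (c * r * c⁻¹) * c⁻¹ := by group
        _ = (c * r * c⁻¹) * (c * z * c⁻¹) := by rw [hcr', cjm, hcr']
        _ = r := by rw [hcr', hcz, mul_inv_cancel_right, e6]
    have hx1V := (memTV x1).mp hx1TV
    have hzc' : z ∉ zpowers c := by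
      intro hzz
      have h4 := hN.cyc z c x1⁻¹ hz1 hz2 hzz (by
        exact (show Commute x1 z from hx1V.1).inv_left)
      rw [inv_inv] at h4
      set x2 := c * x1 * c⁻¹ with hx2
      have h5 : x1⁻¹ * x2 ∈ zpowers c := by
        have : x1⁻¹ * x2 = (x1⁻¹ * c * x1) * c⁻¹ := by rw [hx2]; group
        rw [this]; exact mul_mem h4 (inv_mem (mem_zpowers c))
      have hx2s : x2 * x2 = r * z := by rw [hx2, ← cjm, hx1s, hcr']
      have hx2z : x2 * z = z * x2 := by
        have : x2 * z = c * (x1 * z) * c⁻¹ := by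
          rw [cjm, hcz, mul_inv_cancel_right]
        rw [this, hx1V.1, cjm, hcz, mul_inv_cancel_right]
      have hx2r : x2 * (r * z) = (r * z) * x2 := by
        have : x2 * (r * z) = c * (x1 * r) * c⁻¹ := by rw [cjm, hcr']
        rw [this, hx1V.2, cjm, hcr']
      have hx2r' : x2 * r = r * x2 := by
        have : Commute x2 ((r * z) * z) :=
          (show Commute x2 (r * z) from hx2r).mul_right (show Commute x2 z from hx2z)
        rw [e6] at this
        exact this
      have hx12 : x1 * x2 = x2 * x1 :=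
        b2 hN hr1 hr2 hrz1 hrz2 hrzz hx1s hx2s
          (show Commute x1 (r * z) from Commute.mul_right hx1V.2 hx1V.1) hx2r'
      have hg2 : (x1⁻¹ * x2) * (x1⁻¹ * x2) = z := by
        have hc' : Commute x1⁻¹ x2 := (show Commute x1 x2 from hx12).inv_left
        rw [← pow_two, hc'.mul_pow, inv_pow, pow_two, pow_two, hx1s, hx2s,
          inv_eq_of_mul_eq_one_left hr2, e2]
      have hgc : c * (x1⁻¹ * x2) = (x1⁻¹ * x2) * c := by
        obtain ⟨k, hk⟩ := h5
        have hk : c ^ k = x1⁻¹ * x2 := hk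
        rw [← hk]
        exact (Commute.refl c).zpow_right k
      have hcx2 : c * x2 * c⁻¹ = x1 := by
        have : c * x2 * c⁻¹ = (c * c) * x1 * (c * c)⁻¹ := by rw [hx2]; group
        rw [this]
        exact mul_inv_eq_iff_eq_mul.mpr (sgn _ hccTV (hTVe _ hccTV))
      have h6 : c * (x1⁻¹ * x2) * c⁻¹ = x2⁻¹ * x1 := by
        rw [cjm, hcx2]
        have : c * x1⁻¹ * c⁻¹ = x2⁻¹ := by rw [hx2]; group
        rw [this]
      rw [hgc, mul_inv_cancel_right] at h6
      apply hz1
      rw [← hg2]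
      nth_rewrite 2 [h6]
      group
    by_contra hcc
    have hle : zpowers (c * c) ≤ TV := by rwa [zpowers_le]
    obtain ⟨i, hi, hi1, hi2⟩ := exists_invol (hTV2.to_le hle) (zpowers_ne_bot hcc)
    have hic : i ∈ zpowers c := (zpowers_le.mpr (mul_mem (mem_zpowers c) (mem_zpowers c))) hi
    have hci : c * i = i * c := by
      obtain ⟨k, rfl⟩ := hic
      exact (Commute.refl c).zpow_right k
    have hci' : c * i * c⁻¹ = i := by rw [hci, mul_inv_cancel_right]
    rcases hinvV i (hle hi) hi2 with h | h | h | h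
    · exact hi1 h
    · rw [h] at hic; exact hzc' hic
    · rw [h, hcr'] at hci'; exact hrzz hci'.symm
    · rw [h, cjm, hcr', hcz, mul_inv_cancel_right, e6] at hci'; exact hrzz hci'
  have hc0r1 : c0 * r ≠ r * c0 := by
    intro h
    rw [h, mul_inv_cancel_right] at hc0r
    exact hrzz hc0r
  have h4 := hout c0 hc0 hc0r1
  have h5 := hout (c0 * r) (mul_mem hc0 hrT) (by
    intro h
    apply hc0r1
    rw [mul_assoc, hr2, mul_one] at h
    calc c0 * r = r * (r * (c0 * r)) := by rw [← mul_assoc, hr2, one_mul]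
      _ = r * c0 := by rw [← h])
  apply hc0r1
  have h6 : c0⁻¹ = c0 := inv_eq_of_mul_eq_one_left h4
  have h7 : (c0 * r)⁻¹ = c0 * r := inv_eq_of_mul_eq_one_left h5
  rw [mul_inv_rev, h6, inv_eq_of_mul_eq_one_left hr2] at h7
  exact h7.symm

end fin

end H65.NX
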