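import Cfsg.Agent.Lib.H65.NX5

/-!
Class III, case A(i): conclusion.
-/
set_option autoImplicit false
set_option linter.unusedSectionVars false
set_option linter.style.haveILetI false

namespace H65.NX

open Subgroup

variable {G : Type*} [Group G]

theorem sgn_lem (hN : Nest G) {w v a b c : G} (hw1 : w ≠ 1) (hw2 : w * w = 1) (hv1 : v ≠ 1)
    (hv2 : v * v = 1) (hwv : w ≠ v) (ha : a * a = w) (hb : b * b = v) (hab : a * b = b * a)
    (hcw : c * w = w * c) (hcv : c * v = v * c) (hca : c * a = a * c) : c * b = b * c := by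
  have cjm : ∀ a x y : G, a * (x * y) * a⁻¹ = (a * x * a⁻¹) * (a * y * a⁻¹) := by
    intro a x y; group
  rcases b1 hN hv1 hv2 hb hcv with h | h
  · exact mul_inv_eq_iff_eq_mul.mp h
  · exfalso
    have hex : (a * b) * (a * b) = w * v := by
      rw [← pow_two, (show Commute a b from hab).mul_pow, pow_two, pow_two, ha, hb]
    have hcwv : c * (w * v) = (w * v) * c :=
      (show Commute c (w * v) from Commute.mul_right hcw hcv)
    have hwv' : w * v = v * w := by
      rw [← ha, ← hb]
      exact ((show Commute a b from hab).mul_left hab).mul_right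
        ((show Commute a b from hab).mul_left hab)
    have hwv1 : w * v ≠ 1 := by
      intro h'
      apply hwv
      calc w = w * (v * v) := by rw [hv2, mul_one]
        _ = (w * v) * v := by group
        _ = v := by rw [h', one_mul]
    have hwv2 : (w * v) * (w * v) = 1 := by
      calc (w * v) * (w * v) = w * (v * w) * v := by group
        _ = (w * w) * (v * v) := by rw [← hwv']; group
        _ = 1 := by rw [hw2, hv2, one_mul]
    have h4 := b1 hN hwv1 hwv2 hex hcwv
    have h5 : c * a * c⁻¹ = a := by rw [hca, mul_inv_cancel_right]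
    rw [cjm, h5, h] at h4
    rcases h4 with h4 | h4
    · have h6 := mul_left_cancel h4
      apply hv1
      rw [← hb]
      exact mul_eq_one_iff_eq_inv.mpr h6.symm
    · rw [mul_inv_rev a b] at h4
      have h6 : b⁻¹ * a = b⁻¹ * a⁻¹ := by
        rw [← h4]; exact ((show Commute a b from hab).inv_right).symm.eq
      have h7 := mul_left_cancel h6
      apply hw1
      rw [← ha]
      exact mul_eq_one_iff_eq_inv.mpr h7

section fin
variable [Finite G]

theorem exists_odd_pow {g : G} : ∃ k : ℕ, Odd (orderOf (g ^ 2 ^ k)) ∧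
    (g ^ 2 ^ k = 1 → ∃ m, orderOf g = 2 ^ m) := by
  obtain ⟨k, m, hm, hk⟩ := Nat.exists_eq_two_pow_mul_odd (orderOf_pos g).ne'
  refine ⟨k, ?_, ?_⟩
  · rw [orderOf_pow_of_dvd (by positivity) ⟨m, hk⟩, hk, Nat.mul_div_cancel_left _ (by positivity)]
    exact hm
  · intro h
    have h1 := orderOf_dvd_of_pow_eq_one h
    obtain ⟨j, -, hj⟩ := (Nat.dvd_prime_pow Nat.prime_two).mp h1
    exact ⟨j, hj⟩

/-- an odd order element normalizing `T` -/
theorem exists_odd_normalizing {T : Sylow 2 G} {g : G} (hg : g ∉ (T : Subgroup G))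
    (hgT : ∀ c ∈ (T : Subgroup G), g * c * g⁻¹ ∈ (T : Subgroup G)) :
    ∃ d : G, (orderOf d).Prime ∧ Odd (orderOf d) ∧
      ∀ c ∈ (T : Subgroup G), d * c * d⁻¹ ∈ (T : Subgroup G) := by
  haveI : Fact (Nat.Prime 2) := ⟨Nat.prime_two⟩
  have hpow : ∀ n : ℕ, ∀ c ∈ (T : Subgroup G), g ^ n * c * (g ^ n)⁻¹ ∈ (T : Subgroup G) := by
    intro n
    induction n with
    | zero => intro c hc; simpa using hc
    | succ n ih =>
      intro c hc
      have : g ^ (n + 1) * c * (g ^ (n + 1))⁻¹ = g ^ n * (g * c * g⁻¹) * (g ^ n)⁻¹ := by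
        rw [pow_succ]; group
      rw [this]; exact ih _ (hgT c hc)
  obtain ⟨k, hk, hk1⟩ := exists_odd_pow (g := g)
  have hne : g ^ 2 ^ k ≠ 1 := by
    intro h
    obtain ⟨m, hm⟩ := hk1 h
    apply hg
    have hz : IsPGroup 2 (zpowers g) := IsPGroup.of_card (n := m) (by rw [Nat.card_zpowers, hm])
    have hnorm : zpowers g ≤ normalizer ((T : Subgroup G) : Set G) := by
      rw [zpowers_le]
      have hle : (T : Subgroup G).map (MulAut.conj g).toMonoidHom ≤ T := by
        rintro y ⟨t, ht, rfl⟩; exact hgT t ht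
      have hcard : Nat.card ((T : Subgroup G).map (MulAut.conj g).toMonoidHom) =
          Nat.card (T : Subgroup G) :=
        Nat.card_congr ((T : Subgroup G).equivMapOfInjective _ (MulAut.conj g).injective).toEquiv.symm
      have heq := Subgroup.eq_of_le_of_card_ge hle hcard.ge
      rw [mem_normalizer_iff]
      intro c
      constructor
      · exact hgT c
      · intro h'
        rw [← heq] at h'
        obtain ⟨t, ht, htc⟩ := h'
        have : t = c := (MulAut.conj g).injective htc
        rwa [← this]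
    have h2 : IsPGroup 2 ((zpowers g ⊔ (T : Subgroup G) : Subgroup G)) :=
      IsPGroup.to_sup_of_normal_right' hz T.2 hnorm
    have h3 := T.3 h2 le_sup_right
    rw [← h3]
    exact mem_sup_left (mem_zpowers g)
  obtain ⟨n, hp, hodd⟩ := exists_prime_pow hne hk
  refine ⟨(g ^ 2 ^ k) ^ n, hp, hodd, ?_⟩
  rw [← pow_mul]
  exact hpow _

/-- case A(i) -/
theorem ti_of_comm (hN : Nest G) (h3 : C3 G) {T : Sylow 2 G} {z e g : G}
    (hz : TwoC (T : Subgroup G) z) (he : e * e = z) (hne : g * z * g⁻¹ ≠ z)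
    (hre : (g * z * g⁻¹) * e = e * (g * z * g⁻¹)) :
    ∀ u ∈ (T : Subgroup G), u * u = 1 → ∀ c ∈ (T : Subgroup G), c * u = u * c := by
  haveI : Fact (Nat.Prime 2) := ⟨Nat.prime_two⟩
  have hrc : ∀ c ∈ (T : Subgroup G), c * (g * z * g⁻¹) = (g * z * g⁻¹) * c := by
    by_contra hcon
    obtain ⟨r, ρ, c0, h⟩ := exists_rho hN h3 hz he hne hre hcon
    exact h.false hN h3
  obtain ⟨hzT, hz1, hz2, hzc⟩ := hz
  have memT : ∀ c, c * z = z * c ↔ c ∈ (T : Subgroup G) :=
    fun c => ⟨fun h => h3 T z hzT hz1 hz2 hzc c h, fun h => hzc c h⟩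
  have cjm : ∀ a x y : G, a * (x * y) * a⁻¹ = (a * x * a⁻¹) * (a * y * a⁻¹) := by
    intro a x y; group
  set r := g * z * g⁻¹ with hr
  have hr1 : r ≠ 1 := by
    intro h
    apply hz1
    calc z = g⁻¹ * r * g := by rw [hr]; group
      _ = 1 := by rw [h]; group
  have hr2 : r * r = 1 := by rw [hr, ← cjm, hz2, mul_one, mul_inv_cancel]
  have hrz : r * z = z * r := (hrc z hzT).symm
  have hrT : r ∈ (T : Subgroup G) := (memT r).mp hrz
  have memR : ∀ c, c * r = r * c ↔ c ∈ (T : Subgroup G) :=
    fun c => ⟨fun h => h3 T r hrT hr1 hr2 hrc c h, fun h => hrc c h⟩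
  have hgT : ∀ c ∈ (T : Subgroup G), g * c * g⁻¹ ∈ (T : Subgroup G) := by
    intro c hc
    rw [← memR, hr, ← cjm, ← cjm, hzc c hc]
  have hg : g ∉ (T : Subgroup G) := by
    intro h
    apply hne
    rw [hr, hzc g h, mul_inv_cancel_right]
  set f := g * e * g⁻¹ with hf
  have hff : f * f = r := by rw [hf, ← cjm, he]
  have heT : e ∈ (T : Subgroup G) := (memT e).mp (comm_sq he)
  have hfT : f ∈ (T : Subgroup G) := hgT e heT
  have hzr : z ≠ r := fun h => hne h.symm
  have hef : e * f = f * e := b2 hN hz1 hz2 hr1 hr2 hzr he hff (hrc e heT) (hzc f hfT)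
  -- propagation
  have prop : ∀ a ∈ (T : Subgroup G), ∀ w, a * a = w → w ≠ 1 → w * w = 1 →
      (∀ c ∈ (T : Subgroup G), c * w = w * c) → ∀ c ∈ (T : Subgroup G),
      (c * e = e * c ↔ c * a = a * c) := by
    intro a ha w hw hw1 hw2 hwc c hc
    by_cases hwz : w = z
    · have hwr : w ≠ r := by rw [hwz]; exact hzr
      have haf : a * f = f * a := b2 hN hw1 hw2 hr1 hr2 hwr hw hff (hrc a ha) (hwc f hfT)
      constructor
      · intro h
        have h1 := sgn_lem hN hz1 hz2 hr1 hr2 hzr he hff hef (hzc c hc) (hrc c hc) h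
        exact sgn_lem hN hr1 hr2 hw1 hw2 hwr.symm hff hw haf.symm (hrc c hc) (hwc c hc) h1
      · intro h
        have h1 := sgn_lem hN hw1 hw2 hr1 hr2 hwr hw hff haf (hwc c hc) (hrc c hc) h
        exact sgn_lem hN hr1 hr2 hz1 hz2 hzr.symm hff he hef.symm (hrc c hc) (hzc c hc) h1
    · have hae : a * e = e * a :=
        b2 hN hw1 hw2 hz1 hz2 hwz hw he (hzc a ha) (hwc e heT)
      constructor
      · intro h
        exact sgn_lem hN hz1 hz2 hw1 hw2 (Ne.symm hwz) he hw hae.symm (hzc c hc) (hwc c hc) h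
      · intro h
        exact sgn_lem hN hw1 hw2 hz1 hz2 hwz hw he hae (hwc c hc) (hzc c hc) h
  have hTe : ∀ c ∈ (T : Subgroup G), c * e = e * c := by
    by_contra hcon
    push Not at hcon
    obtain ⟨c0, hc0, hc0e⟩ := hcon
    obtain ⟨d, hdp, hdo, hdT⟩ := exists_odd_normalizing hg hgT
    have hd1 : d ≠ 1 := by rintro rfl; rw [orderOf_one] at hdp; exact Nat.not_prime_one hdp
    set B : Subgroup G := (T : Subgroup G) ⊓ centralizer ({e} : Set G) with hB
    have memB : ∀ a, a ∈ B ↔ a ∈ (T : Subgroup G) ∧ a * e = e * a := by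
      intro a; rw [hB, mem_inf, mem_centralizer_singleton_iff]
    have hinv : ∀ a ∈ (T : Subgroup G), ¬ a * e = e * a → a * e * a⁻¹ = e⁻¹ := by
      intro a ha hae
      rcases b1 hN hz1 hz2 he (hzc a ha) with h | h
      · exact absurd (mul_inv_eq_iff_eq_mul.mp h) hae
      · exact h
    obtain ⟨b, hbT, hbB, hb⟩ := coset_fixed (p := orderOf d) hdp
      (by intro h; rw [h] at hdo; exact absurd hdo (by decide)) (d := d) (n := 1)
      (by rw [pow_one, pow_orderOf_eq_one]) T.2 (inf_le_left : B ≤ T) hc0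
      (fun h => hc0e ((memB c0).mp h).2)
      (by
        intro a ha haB
        rw [memB]
        refine ⟨mul_mem (inv_mem hc0) ha, ?_⟩
        have h4 := hinv c0 hc0 hc0e
        have h5 := hinv a ha (fun h => haB ((memB a).mpr ⟨ha, h⟩))
        apply mul_inv_eq_iff_eq_mul.mp
        calc c0⁻¹ * a * e * (c0⁻¹ * a)⁻¹ = c0⁻¹ * (a * e * a⁻¹) * c0 := by group
          _ = c0⁻¹ * (c0 * e * c0⁻¹) * c0 := by rw [h5, h4]
          _ = e := by group)
      hdT
      (by
        intro t ht htB
        rw [memB] at htB ⊢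
        refine ⟨ht, ?_⟩
        have hsurj : ∀ c ∈ (T : Subgroup G), ∃ c' ∈ (T : Subgroup G), d * c' * d⁻¹ = c := by
          intro c hc
          have hle : (T : Subgroup G).map (MulAut.conj d).toMonoidHom ≤ T := by
            rintro y ⟨t, ht, rfl⟩; exact hdT t ht
          have hcard : Nat.card ((T : Subgroup G).map (MulAut.conj d).toMonoidHom) =
              Nat.card (T : Subgroup G) :=
            Nat.card_congr
              ((T : Subgroup G).equivMapOfInjective _ (MulAut.conj d).injective).toEquiv.symm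
          have heq := Subgroup.eq_of_le_of_card_ge hle hcard.ge
          rw [← heq] at hc
          obtain ⟨t, ht, htc⟩ := hc
          exact ⟨t, ht, htc⟩
        have h6 := (prop (d * e * d⁻¹) (hdT e heT) (d * z * d⁻¹) (by rw [← cjm, he])
          (by
            intro h
            apply hz1
            calc z = d⁻¹ * (d * z * d⁻¹) * d := by group
              _ = 1 := by rw [h]; group)
          (by rw [← cjm, hz2, mul_one, mul_inv_cancel])
          (by
            intro c hc
            obtain ⟨c', hc', rfl⟩ := hsurj c hc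
            rw [← cjm, ← cjm, hzc c' hc']) _ htB.1).mp htB.2
        rw [← cjm, ← cjm] at h6
        exact mul_left_cancel (mul_right_cancel h6))
    have hb1 : b ≠ 1 := by rintro rfl; exact hbB (one_mem B)
    have hbz : zpowers b ≤ T := by rwa [zpowers_le]
    obtain ⟨i, hi, hi1, hi2⟩ := exists_invol (T.2.to_le hbz) (zpowers_ne_bot hb1)
    have hiT := hbz hi
    have hdi : d * i = i * d := by
      obtain ⟨k, rfl⟩ := hi
      exact (show Commute d b from hb).zpow_right k
    have hP : IsPGroup 2 ((T : Subgroup G) ⊓ centralizer ({i} : Set G) : Subgroup G) :=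
      T.2.to_le inf_le_left
    have hzP : z ∈ (T : Subgroup G) ⊓ centralizer ({i} : Set G) :=
      mem_inf.mpr ⟨hzT, mem_centralizer_singleton_iff.mpr (hzc i hiT).symm⟩
    have hrP : r ∈ (T : Subgroup G) ⊓ centralizer ({i} : Set G) :=
      mem_inf.mpr ⟨hrT, mem_centralizer_singleton_iff.mpr (hrc i hiT).symm⟩
    have h4 := q_three hN h3 hi1 hi2 hd1 hdo hdi hP
      (fun a ha => mem_centralizer_singleton_iff.mp (mem_inf.mp ha).2) hzP hrP hz1 hz2 hr1 hr2 hzr
    have hic : ∀ c ∈ (T : Subgroup G), c * i = i * c := by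
      intro c hc
      rcases h4 with h4 | h4 | h4
      · rw [h4]; exact hzc c hc
      · rw [h4]; exact hrc c hc
      · rw [h4]; exact (show Commute c z from hzc c hc).mul_right (hrc c hc)
    exact hd1 (eq_one_of_odd_mem T.2 (h3 T i hiT hi1 hi2 hic d hdi) hdo)
  intro u hu hu2 c hc
  have huf : ∀ c ∈ (T : Subgroup G), c * f = f * c := fun c hc =>
    sgn_lem hN hz1 hz2 hr1 hr2 hzr he hff hef (hzc c hc) (hrc c hc) (hTe c hc)
  rcases b3 hN hz1 hz2 he hu2 (hTe u hu) (hzc c hc) with h | h
  · exact mul_inv_eq_iff_eq_mul.mp h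
  · rcases b3 hN hr1 hr2 hff hu2 (huf u hu) (hrc c hc) with h' | h'
    · exact mul_inv_eq_iff_eq_mul.mp h'
    · exact absurd (mul_left_cancel (h.symm.trans h')) hzr

end fin

end H65.NX
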