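import Cfsg.Agent.Lib.H65.NX6
import Cfsg.Agent.Lib.H58.UniqInv
import Cfsg.Agent.Lib.H5.DihedralLift

/-!
Class III, case A(ii): dihedral Sylow 2-subgroups.
-/
set_option autoImplicit false
set_option linter.unusedSectionVars false
set_option linter.style.haveILetI false

namespace H65.NX

open Subgroup
open scoped Pointwise

variable {G : Type*} [Group G]

section fin
variable [Finite G]

theorem dihedral_equiv {T C : Subgroup G} (hC : IsCyclic C) (hCT : C ≤ T) (hC1 : C ≠ ⊥) {t : G}
    (ht : t ∈ T) (htC : t ∉ C) (ht2 : t * t = 1) (hinv : ∀ c ∈ C, t * c * t⁻¹ = c⁻¹)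
    (hT : ∀ a ∈ T, a ∈ C ∨ t * a ∈ C) :
    ∃ n, 2 ≤ n ∧ Nonempty (T ≃* DihedralGroup n) := by
  obtain ⟨⟨c, hcC⟩, hc⟩ := hC.exists_generator
  have hgen : ∀ a ∈ C, ∃ k : ℤ, a = c ^ k := by
    intro a ha
    obtain ⟨k, hk⟩ := mem_zpowers_iff.mp (hc ⟨a, ha⟩)
    exact ⟨k, by simpa using (congrArg Subtype.val hk).symm⟩
  have hc1 : c ≠ 1 := by
    rintro rfl
    apply hC1
    rw [eq_bot_iff]
    intro a ha
    obtain ⟨k, hk⟩ := hgen a ha
    rw [hk, one_zpow]; exact one_mem _
  have ht1 : t ≠ 1 := by rintro rfl; exact htC (one_mem C)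
  have htinv : t⁻¹ = t := inv_eq_of_mul_eq_one_left ht2
  have htc2 : (t * c) * (t * c) = 1 := by
    have h := hinv c hcC
    rw [htinv] at h
    calc (t * c) * (t * c) = (t * c * t) * c := by group
      _ = 1 := by rw [h, inv_mul_cancel]
  have htc1 : t * c ≠ 1 := by
    intro h
    apply htC
    have : t = c⁻¹ := eq_inv_of_mul_eq_one_left h
    rw [this]; exact inv_mem hcC
  have hne : t ≠ t * c := by
    intro h
    apply hc1
    have h' : t * 1 = t * c := by rw [mul_one]; exact h
    exact (mul_left_cancel h').symm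
  have e := H5.DihedralLift.closure_involutions_equiv (orderOf_inv_two ht1 ht2)
    (orderOf_inv_two htc1 htc2) hne
  have h5 : t * (t * c) = c := by rw [← mul_assoc, ht2, one_mul]
  rw [h5] at e
  have hcl : closure ({t, t * c} : Set G) = T := by
    apply le_antisymm
    · rw [closure_le]
      rintro y (rfl | rfl)
      · exact ht
      · exact mul_mem ht (hCT hcC)
    · intro a ha
      have h6 : t ∈ closure ({t, t * c} : Set G) := subset_closure (Or.inl rfl)
      have h7 : c ∈ closure ({t, t * c} : Set G) := by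
        have := mul_mem h6 (subset_closure (Or.inr rfl) : t * c ∈ closure ({t, t * c} : Set G))
        rwa [h5] at this
      rcases hT a ha with h | h
      · obtain ⟨k, rfl⟩ := hgen a h
        exact zpow_mem h7 k
      · obtain ⟨k, hk⟩ := hgen _ h
        have : a = t * (t * a) := by rw [← mul_assoc, ht2, one_mul]
        rw [this, hk]
        exact mul_mem h6 (zpow_mem h7 k)
  obtain ⟨e⟩ := e
  refine ⟨orderOf c, ?_, ⟨(MulEquiv.subgroupCongr hcl.symm).trans e⟩⟩
  have h8 := orderOf_pos c
  have h9 : orderOf c ≠ 1 := by rwa [Ne, orderOf_eq_one_iff]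
  omega

theorem isCyclic_of_unique (C : Subgroup G) (h2 : IsPGroup 2 C) {z e : G} (hz : z ∈ C)
    (hz1 : z ≠ 1) (hz2 : z * z = 1) (huniq : ∀ u ∈ C, u ≠ 1 → u * u = 1 → u = z) (he : e ∈ C)
    (hee : e * e = z) (hcen : ∀ c ∈ C, c * e = e * c) : IsCyclic C := by
  have hu : ∃! x : C, orderOf x = 2 := by
    refine ⟨⟨z, hz⟩, ?_, ?_⟩
    · simp only [Subgroup.orderOf_mk]; exact orderOf_inv_two hz1 hz2
    · rintro ⟨y, hy⟩ hyo
      simp only [Subgroup.orderOf_mk] at hyo
      apply Subtype.ext
      refine huniq y hy ?_ ?_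
      · rintro rfl; rw [orderOf_one] at hyo; omega
      · rw [← pow_two, ← hyo, pow_orderOf_eq_one]
  by_cases hab : IsMulCommutative C
  · have h := H58.UniqInv.cyclic_of_comm h2 hu ⊤ ⟨⟨fun a b => Subtype.ext (mul_comm' a.1 b.1)⟩⟩
    exact (MulEquiv.isCyclic Subgroup.topEquiv).mp h
  · exfalso
    obtain ⟨a, ha⟩ := H58.UniqInv.exists_index_two h2 hu hab
    obtain ⟨n, hn, hao, hst⟩ := H58.UniqInv.structure_of_index_two h2 hu hab ha
    by_cases hea : (⟨e, he⟩ : C) ∈ zpowers a
    · obtain ⟨y, hy⟩ : ∃ y, y ∉ zpowers a := by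
        by_contra hcon
        push Not at hcon
        have : zpowers a = ⊤ := by rw [eq_top_iff]; intro y _; exact hcon y
        rw [this, index_top] at ha
        omega
      obtain ⟨k, hk⟩ := hea
      have hk : a ^ k = ⟨e, he⟩ := hk
      have h4 : y * a ^ k * y⁻¹ = (a ^ k)⁻¹ := by
        rw [← conj_zpow, (hst y hy).1, inv_zpow]
      rw [hk] at h4
      have h5 := congrArg Subtype.val h4
      simp only [coe_mul, InvMemClass.coe_inv] at h5
      rw [hcen y y.2, mul_inv_cancel_right] at h5
      apply hz1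
      rw [← hee]
      exact mul_eq_one_iff_eq_inv.mpr h5
    · have h4 := (hst _ hea).1
      have h5 : (⟨e, he⟩ : C) * a * (⟨e, he⟩ : C)⁻¹ = a := by
        apply Subtype.ext
        simp only [coe_mul, InvMemClass.coe_inv]
        rw [← hcen a a.2, mul_inv_cancel_right]
      rw [h5] at h4
      have h6 : a ^ 2 = 1 := by
        rw [pow_two]
        exact mul_eq_one_iff_eq_inv.mpr h4
      have h7 := orderOf_dvd_of_pow_eq_one h6
      rw [hao] at h7
      have h8 := Nat.le_of_dvd (by norm_num) h7
      have h9 : 2 ^ 2 ≤ 2 ^ n := Nat.pow_le_pow_right (by norm_num) hn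
      omega

theorem isPGroup_centralizer {s : G} (hb : ∀ x, x * s = s * x → Odd (orderOf x) → x = 1) :
    IsPGroup 2 (centralizer ({s} : Set G)) := by
  rw [IsPGroup.iff_orderOf]
  rintro ⟨x, hx⟩
  rw [Subgroup.orderOf_mk]
  rw [mem_centralizer_singleton_iff] at hx
  obtain ⟨k, hk, hk1⟩ := exists_odd_pow (g := x)
  exact hk1 (hb _ ((show Commute x s from hx).pow_left _) hk)

/-- case A(ii) -/
theorem dihedral_of_inverts (hN : Nest G) (h3 : C3 G) {T : Sylow 2 G} {z e g : G}
    (hz : TwoC (T : Subgroup G) z) (he : e * e = z) (hne : g * z * g⁻¹ ≠ z)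
    (hgT : g * z * g⁻¹ ∈ (T : Subgroup G))
    (hii : ∀ k e' : G, e' * e' = z → k * z * k⁻¹ ≠ z →
      ¬ ((k * z * k⁻¹) * e' = e' * (k * z * k⁻¹))) :
    ∃ n, 2 ≤ n ∧ Nonempty ((T : Subgroup G) ≃* DihedralGroup n) := by
  haveI : Fact (Nat.Prime 2) := ⟨Nat.prime_two⟩
  obtain ⟨hzT, hz1, hz2, hzc⟩ := hz
  have memT : ∀ c, c * z = z * c ↔ c ∈ (T : Subgroup G) :=
    fun c => ⟨fun h => h3 T z hzT hz1 hz2 hzc c h, fun h => hzc c h⟩
  have cjm : ∀ a x y : G, a * (x * y) * a⁻¹ = (a * x * a⁻¹) * (a * y * a⁻¹) := by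
    intro a x y; group
  set t := g * z * g⁻¹ with htdef
  have ht1 : t ≠ 1 := by
    intro h
    apply hz1
    calc z = g⁻¹ * t * g := by rw [htdef]; group
      _ = 1 := by rw [h]; group
  have ht2 : t * t = 1 := by rw [htdef, ← cjm, hz2, mul_one, mul_inv_cancel]
  have htinv : t⁻¹ = t := inv_eq_of_mul_eq_one_left ht2
  have htz : t * z = z * t := hzc t hgT
  have hinvt : ∀ e', e' * e' = z → t * e' * t⁻¹ = e'⁻¹ := by
    intro e' he'
    rcases b1 hN hz1 hz2 he' htz with h | h
    · exact absurd (mul_inv_eq_iff_eq_mul.mp h) (hii g e' he' hne)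
    · exact h
  have heT : e ∈ (T : Subgroup G) := (memT e).mp (comm_sq he)
  set C : Subgroup G := (T : Subgroup G) ⊓ centralizer ({e} : Set G) with hC
  have memC : ∀ c, c ∈ C ↔ c * e = e * c := by
    intro c
    rw [hC, mem_inf, mem_centralizer_singleton_iff]
    refine ⟨fun h => h.2, fun h => ⟨(memT c).mp ?_, h⟩⟩
    rw [← he]
    exact (show Commute c e from h).mul_right h
  have hCT : C ≤ T := inf_le_left
  have hC2 : IsPGroup 2 C := T.2.to_le hCT
  have hzC : z ∈ C := (memC z).mpr (by rw [← he, mul_assoc])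
  have heC : e ∈ C := (memC e).mpr rfl
  -- C(t)
  have hmt : ∀ c, c * t = t * c ↔ (g⁻¹ * c * g) * z = z * (g⁻¹ * c * g) := by
    intro c
    rw [htdef]
    constructor
    · intro h
      calc g⁻¹ * c * g * z = g⁻¹ * (c * (g * z * g⁻¹)) * g := by group
        _ = z * (g⁻¹ * c * g) := by rw [h]; group
    · intro h
      calc c * (g * z * g⁻¹) = g * (g⁻¹ * c * g * z) * g⁻¹ := by group
        _ = g * z * g⁻¹ * c := by rw [h]; group
  have huniq : ∀ u ∈ C, u ≠ 1 → u * u = 1 → u = z := by
    intro s hsC hs1 hs2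
    by_contra hsz
    have hse : s * e = e * s := (memC s).mp hsC
    have hsz' : s * z = z * s := hzc s (hCT hsC)
    set y := g * e * g⁻¹ with hy
    have hyy : y * y = t := by rw [hy, ← cjm, he]
    -- t commutes with s
    have hes2 : (e * s) * (e * s) = z := by
      rw [← pow_two, (show Commute e s from hse.symm).mul_pow, pow_two, pow_two, hs2, mul_one, he]
    have hts : t * s = s * t := by
      have h4 := hinvt (e * s) hes2
      rw [cjm, hinvt e he, mul_inv_rev e s, inv_eq_of_mul_eq_one_left hs2] at h4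
      have h5 : e⁻¹ * (t * s * t⁻¹) = e⁻¹ * s := by
        rw [h4]; exact (show Commute s e⁻¹ from (show Commute s e from hse).inv_right).eq
      exact mul_inv_eq_iff_eq_mul.mp (mul_left_cancel h5)
    -- z inverts y
    have hzy : ¬ z * y = y * z := by
      intro h
      refine hii g⁻¹ e he ?_ ?_
      · rw [inv_inv]
        intro h'
        apply hne
        calc g * z * g⁻¹ = g * (g⁻¹ * z * g) * g⁻¹ := by rw [h']
          _ = z := by group
      · rw [inv_inv]
        calc g⁻¹ * z * g * e = g⁻¹ * (z * y) * g := by rw [hy]; group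
          _ = e * (g⁻¹ * z * g) := by rw [h, hy]; group
    have hzyi : z * y * z⁻¹ = y⁻¹ := by
      rcases b1 hN ht1 ht2 hyy htz.symm with h | h
      · exact absurd (mul_inv_eq_iff_eq_mul.mp h) hzy
      · exact h
    -- s' commutes with y
    obtain ⟨s', hs'1, hs'2, hs'e, hs't, hs'y⟩ : ∃ s', s' ≠ 1 ∧ s' * s' = 1 ∧ s' * e = e * s' ∧
        s' * t = t * s' ∧ s' * y = y * s' := by
      rcases b1 hN ht1 ht2 hyy hts.symm with h | h
      · exact ⟨s, hs1, hs2, hse, hts.symm, mul_inv_eq_iff_eq_mul.mp h⟩
      · refine ⟨s * z, ?_, ?_, ?_, ?_, ?_⟩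
        · intro h'
          apply hsz
          rw [mul_eq_one_iff_eq_inv.mp h', inv_eq_of_mul_eq_one_left hz2]
        · rw [← pow_two, (show Commute s z from hsz').mul_pow, pow_two, pow_two, hs2, hz2, one_mul]
        · exact (show Commute s e from hse).mul_left ((memC z).mp hzC)
        · exact (show Commute s t from hts.symm).mul_left htz.symm
        · apply mul_inv_eq_iff_eq_mul.mp
          calc s * z * y * (s * z)⁻¹ = s * (z * y * z⁻¹) * s⁻¹ := by group
            _ = (s * y * s⁻¹)⁻¹ := by rw [hzyi]; group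
            _ = y := by rw [h, inv_inv]
    have hnc : ¬ e * t = t * e := by
      intro h
      exact hii g e he hne h.symm
    -- centralizer of s' is a 2-group
    have h2 : IsPGroup 2 (centralizer ({s'} : Set G)) := by
      apply isPGroup_centralizer
      intro x hxs hxo
      by_contra hx1
      have hP : IsPGroup 2 ((T : Subgroup G) ⊓ centralizer ({s'} : Set G) : Subgroup G) :=
        T.2.to_le inf_le_left
      apply hnc
      exact q_comm hN h3 hs'1 hs'2 hx1 hxo hxs hP
        (fun a ha => mem_centralizer_singleton_iff.mp (mem_inf.mp ha).2)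
        (mem_inf.mpr ⟨heT, mem_centralizer_singleton_iff.mpr hs'e.symm⟩)
        (mem_inf.mpr ⟨hgT, mem_centralizer_singleton_iff.mpr hs't.symm⟩) ht2
    obtain ⟨T', hT'⟩ := h2.exists_le_sylow
    obtain ⟨h, rfl⟩ := MulAction.exists_smul_eq G T T'
    have hmem : ∀ c, c * s' = s' * c → h⁻¹ * c * h ∈ (T : Subgroup G) := by
      intro c hc
      have h4 : c ∈ ((h • T : Sylow 2 G) : Subgroup G) := hT' (mem_centralizer_singleton_iff.mpr hc)
      have h5 : c ∈ (MulAut.conj h • (T : Subgroup G)) := h4
      rw [Subgroup.mem_pointwise_smul_iff_inv_smul_mem] at h5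
      have h6 : (MulAut.conj h)⁻¹ • c = h⁻¹ * c * h := by
        rw [← map_inv]; simp [MulAut.smul_def]
      rwa [h6] at h5
    -- z' = h z h⁻¹
    have hz'c : ∀ c, c * s' = s' * c → (h * z * h⁻¹) * c = c * (h * z * h⁻¹) := by
      intro c hc
      have h4 := hzc _ (hmem c hc)
      calc (h * z * h⁻¹) * c = h * (z * (h⁻¹ * c * h)) * h⁻¹ := by group
        _ = c * (h * z * h⁻¹) := by rw [← h4]; group
    have hz'e := hz'c e hs'e.symm
    have hz'y := hz'c y hs'y.symm
    have hz'z : h * z * h⁻¹ = z := by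
      by_contra hcon
      exact hii h e he hcon hz'e
    rw [hz'z] at hz'y
    exact hzy hz'y
  have hcyc := isCyclic_of_unique C hC2 hzC hz1 hz2 huniq heC he (fun c hc => (memC c).mp hc)
  have htC : t ∉ C := by
    intro h
    exact hii g e he hne ((memC t).mp h)
  refine dihedral_equiv hcyc hCT (fun h => hz1 (by rw [h, mem_bot] at hzC; exact hzC)) hgT htC ht2
    ?_ ?_
  · -- t inverts C
    intro c hc
    have hct : c * t * (c * t) = 1 := by
      by_contra hcon
      -- (c t)² ∈ C
      have htn : ∀ b ∈ C, t * b * t⁻¹ ∈ C := by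
        intro b hb
        rw [memC] at hb ⊢
        have h1 := hinvt e he
        have h2 : t * b * t⁻¹ * e⁻¹ = e⁻¹ * (t * b * t⁻¹) := by
          rw [← h1, ← cjm, ← cjm, hb]
        have h3 : Commute (t * b * t⁻¹) e⁻¹ := h2
        exact Commute.inv_right_iff.mp h3
      have h4 : c * t * (c * t) ∈ C := by
        have : c * t * (c * t) = c * (t * c * t⁻¹) := by rw [htinv]; group
        rw [this]; exact mul_mem hc (htn c hc)
      -- z is a power of (c t)²
      have hzp : z ∈ zpowers (c * t * (c * t)) := by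
        have hle : zpowers (c * t * (c * t)) ≤ C := by rwa [zpowers_le]
        obtain ⟨i, hi, hi1, hi2⟩ := exists_invol (hC2.to_le hle) (zpowers_ne_bot hcon)
        rwa [huniq i (hle hi) hi1 hi2] at hi
      have hzp' : z ∈ zpowers (c * t) :=
        (zpowers_le.mpr (mul_mem (mem_zpowers _) (mem_zpowers _))) hzp
      -- a square root of z in ⟨c t⟩
      obtain ⟨k, hk⟩ := hzp
      have hk : (c * t * (c * t)) ^ k = z := hk
      have hroot : (c * t) ^ k * (c * t) ^ k = z := by
        rw [← hk]; exact ((Commute.refl (c * t)).mul_zpow k).symm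
      have hinv1 := hinvt _ hroot
      -- c t acts on e as t
      have hcte : (c * t) * e * (c * t)⁻¹ = e⁻¹ := by
        have h5 : c * e⁻¹ * c⁻¹ = e⁻¹ := by
          have : Commute c e⁻¹ := (show Commute c e from (memC c).mp hc).inv_right
          exact mul_inv_eq_iff_eq_mul.mpr this
        calc (c * t) * e * (c * t)⁻¹ = c * (t * e * t⁻¹) * c⁻¹ := by group
          _ = e⁻¹ := by rw [hinvt e he, h5]
      rcases Int.even_or_odd' k with ⟨m, hm | hm⟩
      · -- (c t)^k ∈ C commutes with e
        have h6 : (c * t) ^ k ∈ C := by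
          rw [hm, zpow_mul]
          have : (c * t) ^ (2 : ℤ) = c * t * (c * t) := by rw [zpow_ofNat, pow_two]
          rw [this]
          exact zpow_mem h4 m
        -- it equals e or e⁻¹, as it has square z in the cyclic C
        have h7 : (c * t) ^ k * e = e * (c * t) ^ k := (memC _).mp h6
        set a := (c * t) ^ k with ha
        have h8 : (a * e) * (a * e) = 1 := by
          rw [← pow_two, (show Commute a e from h7).mul_pow, pow_two, pow_two, hroot, he, hz2]
        have h9 : a * e = 1 ∨ a * e = z := by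
          by_cases h10 : a * e = 1
          · exact Or.inl h10
          · exact Or.inr (huniq _ (mul_mem h6 heC) h10 h8)
        have h11 : Commute (c * t) e := by
          have h12 : Commute (c * t) a := by rw [ha]; exact (Commute.refl (c * t)).zpow_right k
          have h13 : Commute (c * t) (a * e) := by
            rcases h9 with h9 | h9
            · rw [h9]; exact Commute.one_right _
            · rw [h9]; exact hzc _ (mul_mem (hCT hc) hgT)
          have h14 : Commute (c * t) (a⁻¹ * (a * e)) := h12.inv_right.mul_right h13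
          rwa [inv_mul_cancel_left] at h14
        have h15 : (c * t) * e * (c * t)⁻¹ = e := mul_inv_eq_iff_eq_mul.mpr h11
        rw [hcte] at h15
        apply hz1
        rw [← he]
        exact mul_eq_one_iff_eq_inv.mpr h15.symm
      · -- k odd: (c t)^k generates, t inverts it; then t inverts c t
        have hord : ∃ j, orderOf (c * t) = 2 ^ j :=
          orderOf_of_mem_two T.2 (mul_mem (hCT hc) hgT)
        have h4th : (c * t) ^ (4 * k) = 1 := by
          have : (c * t) ^ (4 * k) = ((c * t) ^ k * (c * t) ^ k) * ((c * t) ^ k * (c * t) ^ k) := by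
            rw [← zpow_add, ← zpow_add]; congr 1; ring
          rw [this, hroot, hz2]
        have h4' : (c * t) ^ (4 : ℤ) = 1 := by
          obtain ⟨j, hj⟩ := hord
          have h5 := orderOf_dvd_iff_zpow_eq_one.mpr h4th
          rw [← orderOf_dvd_iff_zpow_eq_one]
          have h6 : IsCoprime ((orderOf (c * t) : ℕ) : ℤ) k := by
            rw [hj]
            push_cast
            apply IsCoprime.pow_left
            rw [hm]
            exact ⟨-m, 1, by ring⟩
          exact h6.dvd_of_dvd_mul_right h5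
        have h6 : (c * t) ^ k = c * t ∨ (c * t) ^ k = (c * t)⁻¹ := by
          rcases Int.even_or_odd' m with ⟨n, hn | hn⟩
          · left
            rw [hm, hn, show 2 * (2 * n) + 1 = 4 * n + 1 by ring, zpow_add, zpow_mul, h4', one_zpow,
              one_mul, zpow_one]
          · right
            rw [hm, hn, show 2 * (2 * n + 1) + 1 = 4 * (n + 1) + (-1) by ring, zpow_add, zpow_mul,
              h4', one_zpow, one_mul, zpow_neg_one]
        have h7 : (c * t) * (c * t) = z := by
          rcases h6 with h6 | h6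
          · rw [h6] at hroot; exact hroot
          · rw [h6, ← mul_inv_rev] at hroot
            rw [← inv_inj, hroot, inv_eq_of_mul_eq_one_left hz2]
        have h8 := hinvt _ h7
        -- t (c t) t⁻¹ = t c = (c t)⁻¹ = t c⁻¹
        have h9 : t * c = t * c⁻¹ := by
          have h10 : t * (c * t) * t⁻¹ = t * c := by group
          rw [← h10, h8, mul_inv_rev, htinv]
        have h11 : c * c = 1 := mul_eq_one_iff_eq_inv.mpr (mul_left_cancel h9)
        apply hcon
        by_cases hc1 : c = 1
        · rw [hc1, one_mul, ht2]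
        · rw [huniq c hc hc1 h11, ← pow_two, (show Commute z t from htz.symm).mul_pow, pow_two,
            pow_two, hz2, ht2, one_mul]
    have h5 : c * (t * c * t⁻¹) = 1 := by
      calc c * (t * c * t⁻¹) = c * t * (c * t) := by rw [htinv]; group
        _ = 1 := hct
    exact eq_inv_of_mul_eq_one_right h5
  · intro a ha
    rcases b1 hN hz1 hz2 he (hzc a ha) with h | h
    · exact Or.inl ((memC a).mpr (mul_inv_eq_iff_eq_mul.mp h))
    · right
      rw [memC]
      apply mul_inv_eq_iff_eq_mul.mp
      calc t * a * e * (t * a)⁻¹ = t * (a * e * a⁻¹) * t⁻¹ := by group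
        _ = (t * e * t⁻¹)⁻¹ := by rw [h]; group
        _ = e := by rw [hinvt e he, inv_inv]

end fin

end H65.NX
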