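import Cfsg.Prelude
import Cfsg.Agent.Lib.H1.Coprime2
import Cfsg.Agent.Lib.H1.UniqueSub
import Cfsg.Agent.Lib.H2.GenCent
import Cfsg.Agent.Lib.H3.QuatSub
import Cfsg.Agent.Lib.H53.Q8

set_option autoImplicit false
set_option linter.unusedSimpArgs false

/-! Noncyclic abelian groups of odd prime power order acting on a 2-group such that every
nontrivial element fixes at most one involution. -/

namespace H65.OneInv

open Subgroup

variable {X : Type*} [Group X]

/-- quaternion pair with an element permuting `i, j, ij` -/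
structure Tri (D : Subgroup X) (i j z f : X) : Prop where
  iD : i ∈ D
  jD : j ∈ D
  gen : D = closure {i, j}
  ii : i * i = z
  jj : j * j = z
  zz : z * z = 1
  z1 : z ≠ 1
  ji : j * i = i * (j * z)
  zi : z * i = i * z
  zj : z * j = j * z
  fi : f * i * f⁻¹ = j
  fj : f * j * f⁻¹ = i * j
  card : Nat.card D = 8

namespace Tri

variable {D : Subgroup X} {i j z f : X}

theorem cases (h : Tri D i j z f) {d : X} (hd : d ∈ D) :
    d = 1 ∨ d = z ∨ d = i ∨ d = i * z ∨ d = j ∨ d = j * z ∨ d = i * j ∨ d = i * j * z := by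
  rw [h.gen] at hd
  have hii := h.ii
  have hjj := h.jj
  have hzz := h.zz
  have hji := h.ji
  have hzi := h.zi
  have hzj := h.zj
  have hiinv : i⁻¹ = i * z := by
    rw [inv_eq_iff_mul_eq_one, ← mul_assoc, hii, hzz]
  have hjinv : j⁻¹ = j * z := by
    rw [inv_eq_iff_mul_eq_one, ← mul_assoc, hjj, hzz]
  have hii' : ∀ x, i * (i * x) = z * x := fun x => by rw [← mul_assoc, hii]
  have hjj' : ∀ x, j * (j * x) = z * x := fun x => by rw [← mul_assoc, hjj]
  have hzz' : ∀ x, z * (z * x) = x := fun x => by rw [← mul_assoc, hzz, one_mul]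
  have hji' : ∀ x, j * (i * x) = i * (j * (z * x)) := fun x => by rw [← mul_assoc, hji]; simp only [mul_assoc]
  have hzi' : ∀ x, z * (i * x) = i * (z * x) := fun x => by rw [← mul_assoc, hzi, mul_assoc]
  have hzj' : ∀ x, z * (j * x) = j * (z * x) := fun x => by rw [← mul_assoc, hzj, mul_assoc]
  induction hd using Subgroup.closure_induction_left with
  | one => exact Or.inl rfl
  | mul_left x hx y hy ih =>
    rcases hx with rfl | hx
    · rcases ih with rfl | rfl | rfl | rfl | rfl | rfl | rfl | rfl <;>
        simp only [mul_assoc, hii, hjj, hzz, hji, hzi, hzj, hii', hjj', hzz', hji', hzi', hzj', mul_one, one_mul,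
          true_or, or_true]
    · rw [Set.mem_singleton_iff] at hx
      subst hx
      rcases ih with rfl | rfl | rfl | rfl | rfl | rfl | rfl | rfl <;>
        simp only [mul_assoc, hii, hjj, hzz, hji, hzi, hzj, hii', hjj', hzz', hji', hzi', hzj', mul_one, one_mul,
          true_or, or_true]
  | inv_mul_cancel x hx y hy ih =>
    rcases hx with rfl | hx
    · rw [hiinv]
      rcases ih with rfl | rfl | rfl | rfl | rfl | rfl | rfl | rfl <;>
        simp only [mul_assoc, hii, hjj, hzz, hji, hzi, hzj, hii', hjj', hzz', hji', hzi', hzj', mul_one, one_mul,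
          true_or, or_true]
    · rw [Set.mem_singleton_iff] at hx
      subst hx
      rw [hjinv]
      rcases ih with rfl | rfl | rfl | rfl | rfl | rfl | rfl | rfl <;>
        simp only [mul_assoc, hii, hjj, hzz, hji, hzi, hzj, hii', hjj', hzz', hji', hzi', hzj', mul_one, one_mul,
          true_or, or_true]

theorem fz (h : Tri D i j z f) : f * z * f⁻¹ = z := by
  calc f * z * f⁻¹ = (f * i * f⁻¹) * (f * i * f⁻¹) := by rw [← h.ii]; group
    _ = z := by rw [h.fi, h.jj]

theorem fij (h : Tri D i j z f) : f * (i * j) * f⁻¹ = i := by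
  calc f * (i * j) * f⁻¹ = (f * i * f⁻¹) * (f * j * f⁻¹) := by group
    _ = j * (i * j) := by rw [h.fi, h.fj]
    _ = (j * i) * j := by group
    _ = i * (j * (z * j)) := by rw [h.ji]; group
    _ = i * ((j * j) * z) := by rw [h.zj]; group
    _ = i := by rw [h.jj, h.zz, mul_one]

theorem i_ne (h : Tri D i j z f) : i ≠ 1 := by
  rintro rfl
  apply h.z1
  rw [← h.ii, mul_one]

theorem j_ne (h : Tri D i j z f) : j ≠ 1 := by
  rintro rfl
  apply h.z1
  rw [← h.jj, mul_one]

theorem i_ne_z (h : Tri D i j z f) : i ≠ z := by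
  intro he
  apply h.z1
  have := h.ii
  rw [he, h.zz] at this
  exact this.symm

theorem j_ne_z (h : Tri D i j z f) : j ≠ z := by
  intro he
  apply h.z1
  have := h.jj
  rw [he, h.zz] at this
  exact this.symm

theorem i_ne_j (h : Tri D i j z f) : i ≠ j := by
  intro he
  have h1 := h.ji
  rw [← he] at h1
  apply h.z1
  have h2 : i * (i * z) = (i * i) * z := by group
  rw [h2, h.ii, h.zz] at h1
  exact h1

theorem i_ne_jz (h : Tri D i j z f) : i ≠ j * z := by
  intro he
  have h1 : j = i * z := by rw [he, mul_assoc, h.zz, mul_one]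
  have h2 := h.ji
  rw [h1] at h2
  apply h.z1
  have h3 : i * z * i = (i * i) * z := by rw [mul_assoc, h.zi]; group
  have h4 : i * (i * z * z) = (i * i) * (z * z) := by group
  rw [h3, h4, h.ii, h.zz, mul_one] at h2
  exact h2.symm

theorem zD (h : Tri D i j z f) : z ∈ D := by
  rw [← h.ii]; exact mul_mem h.iD h.iD

/-- elements fixed modulo `z` -/
theorem fixed (h : Tri D i j z f) {d : X} (hd : d ∈ D) (hf : f * d * f⁻¹ = d ∨ f * d * f⁻¹ = d * z) :
    d = 1 ∨ d = z := by
  have hij : i ≠ i * j := fun he => h.j_ne (by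
    have := mul_left_cancel (a := i) (b := 1) (c := j) (by rw [mul_one]; exact he)
    exact this.symm)
  have hijz : i ≠ i * j * z := fun he => by
    have h1 : j * z = 1 := mul_left_cancel (a := i) (by rw [mul_one, ← mul_assoc]; exact he.symm)
    apply h.j_ne_z
    calc j = j * z * z := by rw [mul_assoc, h.zz, mul_one]
      _ = z := by rw [h1, one_mul]
  have hj : j ≠ i * j := fun he => h.i_ne (by
    have := mul_right_cancel (a := 1) (b := j) (c := i) (by rw [one_mul]; exact he)
    exact this.symm)
  have hjz : i * j ≠ j * z := fun he => h.i_ne_z (by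
    rw [← h.zj] at he
    exact mul_right_cancel he)
  have key : ∀ x y : X, f * x * f⁻¹ = y → f * (x * z) * f⁻¹ = y * z := by
    intro x y hxy
    calc f * (x * z) * f⁻¹ = (f * x * f⁻¹) * (f * z * f⁻¹) := by group
      _ = y * z := by rw [hxy, h.fz]
  have c : ∀ x y : X, x * z = y * z → x = y := fun x y => mul_right_cancel
  have c' : ∀ x y : X, x * z = y → x = y * z := fun x y hxy => by
    rw [← hxy, mul_assoc, h.zz, mul_one]
  rcases h.cases hd with rfl | rfl | rfl | rfl | rfl | rfl | rfl | rfl
  · exact Or.inl rfl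
  · exact Or.inr rfl
  · exfalso
    rcases hf with hf | hf
    · rw [h.fi] at hf; exact h.i_ne_j hf.symm
    · rw [h.fi] at hf; exact h.i_ne_jz (by rw [hf, mul_assoc, h.zz, mul_one])
  · exfalso
    rcases hf with hf | hf
    · rw [key _ _ h.fi] at hf; exact h.i_ne_j (c _ _ hf).symm
    · rw [key _ _ h.fi] at hf; exact h.i_ne_jz (by rw [c _ _ hf, mul_assoc, h.zz, mul_one])
  · exfalso
    rcases hf with hf | hf
    · rw [h.fj] at hf; exact hj hf.symm
    · rw [h.fj] at hf; exact hjz hf
  · exfalso
    rcases hf with hf | hf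
    · rw [key _ _ h.fj] at hf; exact hj (c _ _ hf).symm
    · rw [key _ _ h.fj] at hf; exact hjz (c _ _ hf)
  · exfalso
    rcases hf with hf | hf
    · rw [h.fij] at hf; exact hij hf
    · rw [h.fij] at hf; exact hijz hf
  · exfalso
    rcases hf with hf | hf
    · rw [key _ _ h.fij] at hf; exact hij (c _ _ hf)
    · rw [key _ _ h.fij] at hf; exact hijz (c _ _ hf)

theorem sub_eq (h : Tri D i j z f) {N : Subgroup X} (hN : N ≤ D) (hf : ∀ x ∈ N, f * x * f⁻¹ ∈ N)
    {d : X} (hd : d ∈ N) (h1 : d ≠ 1) (h2 : d ≠ z) : N = D := by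
  apply le_antisymm hN
  have hz : z ∈ N := by
    have hsq : d * d = z := by
      have a1 : i * z * (i * z) = z := by
        calc i * z * (i * z) = i * (z * i) * z := by group
          _ = i * (i * z) * z := by rw [h.zi]
          _ = (i * i) * (z * z) := by group
          _ = z := by rw [h.ii, h.zz, mul_one]
      have a2 : j * z * (j * z) = z := by
        calc j * z * (j * z) = j * (z * j) * z := by group
          _ = j * (j * z) * z := by rw [h.zj]
          _ = (j * j) * (z * z) := by group
          _ = z := by rw [h.jj, h.zz, mul_one]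
      have a3 : i * j * (i * j) = z := by
        calc i * j * (i * j) = i * (j * i) * j := by group
          _ = i * (i * (j * z)) * j := by rw [h.ji]
          _ = (i * i) * j * (z * j) := by group
          _ = z * j * (j * z) := by rw [h.ii, h.zj]
          _ = z * (j * j) * z := by group
          _ = z := by rw [h.jj, h.zz, one_mul]
      have a4 : i * j * z * (i * j * z) = z := by
        calc i * j * z * (i * j * z) = i * j * (z * i) * j * z := by group
          _ = i * j * (i * z) * j * z := by rw [h.zi]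
          _ = i * j * i * (z * j) * z := by group
          _ = i * j * i * (j * z) * z := by rw [h.zj]
          _ = i * j * (i * j) * (z * z) := by group
          _ = z := by rw [a3, h.zz, mul_one]
      rcases h.cases (hN hd) with rfl | rfl | rfl | rfl | rfl | rfl | rfl | rfl
      · exact absurd rfl h1
      · exact absurd rfl h2
      · exact h.ii
      · exact a1
      · exact h.jj
      · exact a2
      · exact a3
      · exact a4
    rw [← hsq]; exact mul_mem hd hd
  have key : i ∈ N → D ≤ N := by
    intro hi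
    rw [h.gen, closure_le]
    rintro x (rfl | hx)
    · exact hi
    · rw [Set.mem_singleton_iff] at hx
      rw [hx, ← h.fi]; exact hf i hi
  have key2 : j ∈ N → D ≤ N := by
    intro hj
    apply key
    have h3 := hf j hj
    rw [h.fj] at h3
    have := mul_mem h3 (inv_mem hj)
    rwa [mul_inv_cancel_right] at this
  have key3 : i * j ∈ N → D ≤ N := by
    intro hij
    apply key
    have h3 := hf _ hij
    rwa [h.fij] at h3
  have dz : ∀ x : X, x * z ∈ N → x ∈ N := by
    intro x hx
    have := mul_mem hx (inv_mem hz)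
    rwa [mul_inv_cancel_right] at this
  rcases h.cases (hN hd) with rfl | rfl | rfl | rfl | rfl | rfl | rfl | rfl
  · exact absurd rfl h1
  · exact absurd rfl h2
  · exact key hd
  · exact key (dz _ hd)
  · exact key2 hd
  · exact key2 (dz _ hd)
  · exact key3 hd
  · exact key3 (dz _ hd)

/-- an element acting trivially modulo `z` acts as an inner automorphism -/
theorem inner (h : Tri D i j z f) {w : X} (hi : w * i * w⁻¹ = i ∨ w * i * w⁻¹ = i * z)
    (hj : w * j * w⁻¹ = j ∨ w * j * w⁻¹ = j * z) : ∃ q ∈ D, q⁻¹ * w ∈ centralizer (D : Set X) := by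
  have mk : ∀ q ∈ D, q⁻¹ * (w * i * w⁻¹) * q = i → q⁻¹ * (w * j * w⁻¹) * q = j →
      q⁻¹ * w ∈ centralizer (D : Set X) := by
    intro q _ h1 h2
    rw [h.gen, centralizer_closure, mem_centralizer_iff]
    intro x hx
    have e : q⁻¹ * w * x * (q⁻¹ * w)⁻¹ = q⁻¹ * (w * x * w⁻¹) * q := by group
    rcases hx with hx | hx
    · rw [hx] at e ⊢
      rw [h1] at e
      exact (mul_inv_eq_iff_eq_mul.mp e).symm
    · rw [Set.mem_singleton_iff] at hx
      rw [hx] at e ⊢
      rw [h2] at e
      exact (mul_inv_eq_iff_eq_mul.mp e).symm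
  have hij : i⁻¹ * (j * z) * i = j := by
    have : j * z * i = i * j := by
      calc j * z * i = j * (z * i) := by group
        _ = (j * i) * z := by rw [h.zi]; group
        _ = i * j * (z * z) := by rw [h.ji]; group
        _ = i * j := by rw [h.zz, mul_one]
    rw [mul_assoc, this]; group
  have hji : j⁻¹ * (i * z) * j = i := by
    have : i * z * j = j * i := by
      rw [h.ji, mul_assoc, h.zj]
    rw [mul_assoc, this]; group
  have hiz : i⁻¹ * (i * z) * i = i * z := by
    have : i⁻¹ * (i * z) * i = z * i := by group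
    rw [this, h.zi]
  rcases hi with hi | hi <;> rcases hj with hj | hj
  · exact ⟨1, one_mem _, mk 1 (one_mem _) (by rw [hi]; group) (by rw [hj]; group)⟩
  · exact ⟨i, h.iD, mk i h.iD (by rw [hi]; group) (by rw [hj, hij])⟩
  · refine ⟨j, h.jD, mk j h.jD (by rw [hi, hji]) (by rw [hj]; group)⟩
  · refine ⟨i * j, mul_mem h.iD h.jD, mk _ (mul_mem h.iD h.jD) ?_ ?_⟩
    · rw [hi]
      have : (i * j)⁻¹ * (i * z) * (i * j) = j⁻¹ * (i⁻¹ * (i * z) * i) * j := by group
      rw [this, hiz, hji]
    · rw [hj]
      have : (i * j)⁻¹ * (j * z) * (i * j) = j⁻¹ * (i⁻¹ * (j * z) * i) * j := by group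
      rw [this, hij]; group

end Tri

end H65.OneInv
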