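import Cfsg.Agent.Lib.H65.OneInv

set_option autoImplicit false

/-! Main analysis: `E` noncyclic abelian `p`-group on a 2-group `W`, fixed points of each `e ≠ 1` contain at most
one involution. -/

namespace H65.OneInv

open Subgroup H1.Coprime H1.Coprime2
open scoped commutatorElement

variable {X : Type*} [Group X]

structure Hyp (p : ℕ) (E W : Subgroup X) : Prop where
  pr : p.Prime
  odd : p ≠ 2
  W2 : IsPGroup 2 W
  Ep : IsPGroup p E
  comm : ∀ x ∈ E, ∀ y ∈ E, x * y = y * x
  nc : ¬ IsCyclic E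
  norm : E ≤ normalizer (W : Set X)
  faith : ∀ e ∈ E, e ∈ centralizer (W : Set X) → e = 1
  one : ∀ e ∈ E, e ≠ 1 → ∀ x ∈ W, ∀ y ∈ W, orderOf x = 2 → orderOf y = 2 → e * x = x * e → e * y = y * e → x = y

/-- fixed points of `e` -/
def fx (W : Subgroup X) (e : X) : Subgroup X := W ⊓ centralizer {e}

theorem mem_fx {W : Subgroup X} {e x : X} : x ∈ fx W e ↔ x ∈ W ∧ e * x = x * e := by
  rw [fx, mem_inf, mem_centralizer_singleton_iff]
  constructor
  · rintro ⟨h1, h2⟩; exact ⟨h1, h2.symm⟩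
  · rintro ⟨h1, h2⟩; exact ⟨h1, h2.symm⟩

variable {p : ℕ} {E W : Subgroup X}

theorem Hyp.odd_order [Finite X] (h : Hyp p E W) {e : X} (he : e ∈ E) : Odd (orderOf e) := by
  obtain ⟨k, hk⟩ := h.Ep ⟨e, he⟩
  have h1 : e ^ p ^ k = 1 := congrArg Subtype.val hk
  have h2 := orderOf_dvd_of_pow_eq_one h1
  exact (h.pr.odd_of_ne_two h.odd |>.pow).of_dvd_nat h2

theorem Hyp.norm_fx (h : Hyp p E W) {e f : X} (he : e ∈ E) (hf : f ∈ E) :
    f ∈ normalizer (fx W e : Set X) := by
  have key : ∀ f ∈ E, ∀ x ∈ fx W e, f * x * f⁻¹ ∈ fx W e := by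
    intro f hf x hx
    rw [mem_fx] at hx ⊢
    refine ⟨(mem_normalizer_iff.mp (h.norm hf) x).mp hx.1, ?_⟩
    calc e * (f * x * f⁻¹) = (e * f) * x * f⁻¹ := by group
      _ = f * (e * x) * f⁻¹ := by rw [h.comm e he f hf]; group
      _ = f * x * (e * f⁻¹) := by rw [hx.2]; group
      _ = f * x * f⁻¹ * e := by rw [h.comm e he f⁻¹ (inv_mem hf)]; group
  rw [mem_normalizer_iff]
  intro x
  constructor
  · exact key f hf x
  · intro hx
    have := key f⁻¹ (inv_mem hf) _ hx
    have e1 : f⁻¹ * (f * x * f⁻¹) * f⁻¹⁻¹ = x := by group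
    rwa [e1] at this

theorem Hyp.tri [Finite X] (h : Hyp p E W) {e f : X} (he : e ∈ E) (he1 : e ≠ 1) (hf : f ∈ E)
    (hfD : f ∉ centralizer (fx W e : Set X)) : ∃ i j z : X, Tri (fx W e) i j z f ∧ orderOf z = 2 ∧ p = 3 := by
  set D := fx W e with hD
  have hDW : D ≤ W := inf_le_left
  have hD2 : IsPGroup 2 D := h.W2.to_le hDW
  have hfn := h.norm_fx he hf
  have huniq : ∀ H K : Subgroup D, Nat.card H = 2 → Nat.card K = 2 → H = K := by
    have gen : ∀ H : Subgroup D, Nat.card H = 2 → ∃ x : D, orderOf x = 2 ∧ H = zpowers x := by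
      intro H hH
      have : Fact (Nat.Prime 2) := ⟨Nat.prime_two⟩
      obtain ⟨x, hx⟩ := exists_prime_orderOf_dvd_card' (G := H) 2 (by rw [hH])
      refine ⟨x, by rw [orderOf_coe, hx], ?_⟩
      symm
      apply Subgroup.eq_of_le_of_card_ge
      · rw [zpowers_le]; exact x.2
      · rw [hH, Nat.card_zpowers, orderOf_coe, hx]
    intro H K hH hK
    obtain ⟨x, hx, rfl⟩ := gen H hH
    obtain ⟨y, hy, rfl⟩ := gen K hK
    have : (x : X) = y := h.one e he he1 x (hDW x.2) y (hDW y.2) (by rw [orderOf_coe, hx]) (by rw [orderOf_coe, hy])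
      (mem_fx.mp x.2).2 (mem_fx.mp y.2).2
    rw [Subtype.ext this]
  have : Fact (Nat.Prime 2) := ⟨Nat.prime_two⟩
  rcases H1.UniqueSub.cyclic_or_quaternion 2 hD2 huniq with hc | ⟨-, n, ⟨φ⟩⟩
  · exact absurd (H53.Q8.mem_centralizer_of_cyclic hD2 hfn (h.odd_order hf)) hfD
  · let α : MulAut D := D.normalizerMonoidHom ⟨f, hfn⟩
    have hα : ∀ x : D, ((α x : D) : X) = f * x * f⁻¹ := fun x => rfl
    have hord : orderOf α ∣ orderOf f := by
      have := orderOf_map_dvd D.normalizerMonoidHom (⟨f, hfn⟩ : ↥(Subgroup.normalizer (D : Set X)))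
      rwa [Subgroup.orderOf_mk] at this
    have hα1 : α ≠ 1 := by
      intro h1
      apply hfD
      have h5 : (⟨f, hfn⟩ : ↥(Subgroup.normalizer (D : Set X))) ∈ D.normalizerMonoidHom.ker := h1
      rw [Subgroup.normalizerMonoidHom_ker] at h5
      exact h5
    obtain ⟨i, j, hi4, hi2, hj2, hji, hαi, hαj, hgen, hcard⟩ := H3.QuatSub.main hD2 (m := 2 ^ n) φ.toMonoidHom φ.injective α
      (Nat.coprime_two_right.mpr ((h.odd_order hf).of_dvd_nat hord)) hα1
    have hz1 : (i : X) * i ≠ 1 := by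
      intro h1
      apply hi2
      apply Subtype.ext
      rw [pow_two]; exact h1
    have hzz : (i : X) * i * (i * i) = 1 := by
      have h4 : (i : X) ^ 4 = 1 := congrArg (Subtype.val : D → X) hi4
      rw [← h4]; simp only [pow_succ, pow_zero, one_mul, mul_assoc]
    have hjj : (j : X) * j = i * i := by
      have := congrArg (Subtype.val : D → X) hj2
      have h2 : (j : X) ^ 2 = (i : X) ^ 2 := this
      rwa [pow_two, pow_two] at h2
    have hji' : (j : X) * i = (i : X)⁻¹ * j := congrArg (Subtype.val : D → X) hji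
    have hiinv : (i : X)⁻¹ = i * (i * i) := by
      rw [inv_eq_iff_mul_eq_one, ← hzz]; group
    have hzj : (i : X) * i * j = j * (i * i) := by
      rw [← hjj]; group
    have htri : Tri D (i : X) j ((i : X) * i) f := by
      refine ⟨i.2, j.2, ?_, rfl, hjj, hzz, hz1, ?_, by group, hzj, ?_, ?_, hcard⟩
      · have h1 : closure (D.subtype '' {i, j}) = D := by
          rw [← MonoidHom.map_closure, hgen, ← MonoidHom.range_eq_map, Subgroup.range_subtype]
        rw [Set.image_pair] at h1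
        exact h1.symm
      · rw [hji', hiinv, ← hzj]; group
      · rw [← hα i, hαi]
      · rw [← hα j, hαj]; rfl
    refine ⟨i, j, (i : X) * i, htri, ?_, ?_⟩
    · exact orderOf_eq_prime (by rw [pow_two]; exact hzz) hz1
    · by_contra hp3
      apply hfD
      have hf3 : f ^ 3 ∈ centralizer (D : Set X) := by
        have e1 : f ^ 3 * i * (f ^ 3)⁻¹ = i := by
          calc f ^ 3 * i * (f ^ 3)⁻¹ = f * (f * (f * i * f⁻¹) * f⁻¹) * f⁻¹ := by
                simp only [pow_succ, pow_zero, one_mul, mul_inv_rev, mul_assoc]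
            _ = i := by rw [htri.fi, htri.fj, htri.fij]
        have e2 : f ^ 3 * j * (f ^ 3)⁻¹ = j := by
          calc f ^ 3 * j * (f ^ 3)⁻¹ = f * (f * (f * j * f⁻¹) * f⁻¹) * f⁻¹ := by
                simp only [pow_succ, pow_zero, one_mul, mul_inv_rev, mul_assoc]
            _ = j := by rw [htri.fj, htri.fij, htri.fi]
        rw [htri.gen, centralizer_closure, mem_centralizer_iff]
        intro x hx
        rcases hx with hx | hx
        · rw [hx]; exact (mul_inv_eq_iff_eq_mul.mp e1).symm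
        · rw [Set.mem_singleton_iff] at hx
          rw [hx]; exact (mul_inv_eq_iff_eq_mul.mp e2).symm
      obtain ⟨k, hk⟩ := h.Ep ⟨f, hf⟩
      have h1 : f ^ p ^ k = 1 := congrArg Subtype.val hk
      have hcop : Nat.Coprime 3 (p ^ k) := by
        apply Nat.Coprime.pow_right
        rw [Nat.coprime_primes Nat.prime_three h.pr]
        exact fun he => hp3 he.symm
      have hcop2 : IsCoprime ((3 : ℕ) : ℤ) ((p ^ k : ℕ) : ℤ) := Nat.isCoprime_iff_coprime.mpr hcop
      obtain ⟨a, b, hab⟩ := hcop2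
      have h2 : f = (f ^ 3) ^ a * (f ^ p ^ k) ^ b := by
        calc f = f ^ (1 : ℤ) := (zpow_one f).symm
          _ = f ^ (a * ((3 : ℕ) : ℤ) + b * ((p ^ k : ℕ) : ℤ)) := by rw [hab]
          _ = (f ^ 3) ^ a * (f ^ p ^ k) ^ b := by
            rw [zpow_add, mul_comm a, mul_comm b, zpow_mul, zpow_mul, zpow_natCast, zpow_natCast]
      rw [h1, one_zpow, mul_one] at h2
      rw [h2]
      exact zpow_mem hf3 a

end H65.OneInv
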