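import Cfsg.Agent.Lib.H65.OneInv2
import Cfsg.Agent.Lib.H3.CardSup
import Cfsg.Agent.Lib.H65.Semi

set_option autoImplicit false

/-! Structure of `W`: central product of quaternion groups. -/

namespace H65.OneInv

open Subgroup H1.Coprime H1.Coprime2
open scoped commutatorElement

variable {X : Type*} [Group X] {p : ℕ} {E W : Subgroup X}

/-- base data: the common fixed points are `{1, z}` -/
structure Base (E W : Subgroup X) (z : X) : Prop where
  zW : z ∈ W
  z2 : orderOf z = 2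
  zE : ∀ e ∈ E, e * z = z * e
  fE : ∀ x ∈ W, (∀ e ∈ E, e * x = x * e) → x = 1 ∨ x = z
  zc : ∀ x ∈ W, z * x = x * z
  tri : ∀ e ∈ E, e ≠ 1 → ∀ x ∈ fx W e, x ≠ 1 → x ≠ z → ∀ f ∈ E, f ∉ centralizer (fx W e : Set X) →
    ∃ i j : X, Tri (fx W e) i j z f
  ex : ∀ e ∈ E, e ≠ 1 → ∀ x ∈ fx W e, x ≠ 1 → x ≠ z → ∃ f ∈ E, f ∉ centralizer (fx W e : Set X)
  ne : ∃ e ∈ E, e ≠ 1 ∧ ∃ x ∈ fx W e, x ≠ 1 ∧ x ≠ z

theorem Hyp.not_bot (h : Hyp p E W) : E ≠ ⊥ := by
  rintro rfl
  exact h.nc (by infer_instance)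

theorem Hyp.imc (h : Hyp p E W) : IsMulCommutative E :=
  ⟨⟨fun a b => Subtype.ext (h.comm a a.2 b b.2)⟩⟩

theorem Hyp.coprime [Finite X] (h : Hyp p E W) : (Nat.card E).Coprime (Nat.card W) := by
  have := Fact.mk h.pr
  obtain ⟨m, hm⟩ := IsPGroup.iff_card.mp h.Ep
  have : Fact (Nat.Prime 2) := ⟨Nat.prime_two⟩
  obtain ⟨n, hn⟩ := IsPGroup.iff_card.mp h.W2
  rw [hm, hn]
  exact Nat.Coprime.pow _ _ ((Nat.coprime_primes h.pr Nat.prime_two).mpr h.odd)

theorem Hyp.base [Finite X] (h : Hyp p E W) : p = 3 ∧ ∃ z, Base E W z := by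
  have hgen := H2.GenCent.main E W h.imc h.nc h.norm h.coprime
  -- some e with nontrivial action on its fixed points
  have hex : ∃ e ∈ E, e ≠ 1 ∧ ∃ f ∈ E, f ∉ centralizer (fx W e : Set X) := by
    by_contra hcon
    push Not at hcon
    apply h.not_bot
    rw [eq_bot_iff]
    intro f hf
    rw [mem_bot]
    apply h.faith f hf
    rw [mem_centralizer_iff]
    have hle : W ≤ centralizer {f} := by
      rw [← hgen, H2.GenCent.gen]
      apply iSup₂_le
      rintro e ⟨he, he1⟩ x hx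
      rw [mem_centralizer_singleton_iff]
      exact mem_centralizer_iff.mp (hcon e he he1 f hf) x hx
    intro x hx
    exact mem_centralizer_singleton_iff.mp (hle hx)
  obtain ⟨e₁, he₁, he₁1, f₁, hf₁, hf₁D⟩ := hex
  obtain ⟨i₁, j₁, z, ht, hz2, hp3⟩ := h.tri he₁ he₁1 hf₁ hf₁D
  refine ⟨hp3, z, ?_⟩
  have hzD : z ∈ fx W e₁ := ht.zD
  have hzE : ∀ e ∈ E, e * z = z * e := by
    intro e he
    have h1 : e * z * e⁻¹ ∈ fx W e₁ := (mem_normalizer_iff.mp (h.norm_fx he₁ he) z).mp hzD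
    have h2 : e * z * e⁻¹ = z := by
      apply h.one e₁ he₁ he₁1 _ (mem_fx.mp h1).1 _ (mem_fx.mp hzD).1 _ hz2 (mem_fx.mp h1).2 (mem_fx.mp hzD).2
      rw [← hz2]
      exact (MulAut.conj e).orderOf_eq z
    exact mul_inv_eq_iff_eq_mul.mp h2
  have hfE : ∀ x ∈ W, (∀ e ∈ E, e * x = x * e) → x = 1 ∨ x = z := by
    intro x hx hxE
    apply ht.fixed (d := x) (mem_fx.mpr ⟨hx, hxE e₁ he₁⟩)
    left
    rw [hxE f₁ hf₁]; group
  have hzfx : ∀ e ∈ E, z ∈ fx W e := fun e he => mem_fx.mpr ⟨(mem_fx.mp hzD).1, hzE e he⟩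
  have htri : ∀ e ∈ E, e ≠ 1 → ∀ f ∈ E, f ∉ centralizer (fx W e : Set X) → ∃ i j : X, Tri (fx W e) i j z f := by
    intro e he he1 f hf hfD
    obtain ⟨i, j, z', ht', hz', -⟩ := h.tri he he1 hf hfD
    have : z' = z := h.one e he he1 _ (mem_fx.mp ht'.zD).1 _ (mem_fx.mp hzD).1 hz' hz2 (mem_fx.mp ht'.zD).2 (hzE e he)
    subst this
    exact ⟨i, j, ht'⟩
  have hexf : ∀ e ∈ E, e ≠ 1 → ∀ x ∈ fx W e, x ≠ 1 → x ≠ z → ∃ f ∈ E, f ∉ centralizer (fx W e : Set X) := by
    intro e he he1 x hx hx1 hx2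
    by_contra hcon
    push Not at hcon
    rcases hfE x (mem_fx.mp hx).1 (fun f hf => by
      exact (mem_centralizer_iff.mp (hcon f hf) x hx).symm) with h1 | h1
    · exact hx1 h1
    · exact hx2 h1
  refine ⟨(mem_fx.mp hzD).1, hz2, hzE, hfE, ?_, ?_, hexf, ?_⟩
  · have hle : W ≤ centralizer {z} := by
      rw [← hgen, H2.GenCent.gen]
      apply iSup₂_le
      rintro e ⟨he, he1⟩ x hx
      rw [mem_centralizer_singleton_iff]
      by_cases hc : x = 1 ∨ x = z
      · rcases hc with rfl | rfl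
        · rw [one_mul, mul_one]
        · rfl
      · push Not at hc
        obtain ⟨f, hf, hfD⟩ := hexf e he he1 x hx hc.1 hc.2
        obtain ⟨i, j, ht'⟩ := htri e he he1 f hf hfD
        have : fx W e ≤ centralizer {z} := by
          rw [ht'.gen, closure_le]
          intro y hy
          rw [SetLike.mem_coe, mem_centralizer_singleton_iff]
          rcases hy with hy | hy
          · rw [hy]; exact ht'.zi.symm
          · rw [Set.mem_singleton_iff] at hy
            rw [hy]; exact ht'.zj.symm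
        exact mem_centralizer_singleton_iff.mp (this hx)
    intro x hx
    exact (mem_centralizer_singleton_iff.mp (hle hx)).symm
  · intro e he he1 x _ _ _ f hf hfD
    exact htri e he he1 f hf hfD
  · exact ⟨e₁, he₁, he₁1, i₁, ht.iD, ht.i_ne, ht.i_ne_z⟩

variable {z : X}

theorem Base.zz (b : Base E W z) : z * z = 1 := by
  have := pow_orderOf_eq_one z
  rwa [b.z2, pow_two] at this

theorem Base.z1 (b : Base E W z) : z ≠ 1 := by
  intro h
  have := b.z2
  rw [h, orderOf_one] at this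
  omega

/-- admissible subgroups -/
structure Adm (E W : Subgroup X) (z : X) (V : Subgroup X) : Prop where
  le : V ≤ W
  zV : z ∈ V
  norm : E ≤ normalizer (V : Set X)

/-- the quaternion fixed point subgroups -/
def QQ (E W : Subgroup X) (z : X) : Set (Subgroup X) :=
  {Q | ∃ e ∈ E, e ≠ 1 ∧ Q = fx W e ∧ ∃ x ∈ Q, x ≠ 1 ∧ x ≠ z}

theorem QQ_tri (b : Base E W z) {Q : Subgroup X} (hQ : Q ∈ QQ E W z) : ∃ f ∈ E, ∃ i j : X, Tri Q i j z f := by
  obtain ⟨e, he, he1, rfl, x, hx, hx1, hxz⟩ := hQ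
  obtain ⟨f, hf, hfD⟩ := b.ex e he he1 x hx hx1 hxz
  obtain ⟨i, j, ht⟩ := b.tri e he he1 x hx hx1 hxz f hf hfD
  exact ⟨f, hf, i, j, ht⟩

theorem exists_normal [Finite X] (h : Hyp p E W) (b : Base E W z) {V : Subgroup X} (hV : Adm E W z V)
    (hx : ∃ x ∈ V, x ≠ 1 ∧ x ≠ z) :
    ∃ Q ∈ QQ E W z, Q ≤ V ∧ ∀ x ∈ ⁅Q, V⁆, x = 1 ∨ x = z := by
  let S : Set (Subgroup X) := {N | z ∈ N ∧ (∃ x ∈ N, x ≠ 1 ∧ x ≠ z) ∧ N ≤ V ∧ E ≤ normalizer (N : Set X) ∧
    V ≤ normalizer (N : Set X)}
  obtain ⟨N, hN⟩ := (Set.toFinite S).exists_minimal ⟨V, hV.zV, hx, le_rfl, hV.norm, Subgroup.le_normalizer⟩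
  obtain ⟨⟨hzN, hxN, hNV, hEN, hVN⟩, hmin⟩ := hN
  have hmin' : ∀ M : Subgroup X, M ∈ S → M ≤ N → M = N := fun M hM hMN => le_antisymm hMN (hmin hM hMN)
  have hVp : IsPGroup 2 V := h.W2.to_le hV.le
  have : Fact (Nat.Prime 2) := ⟨Nat.prime_two⟩
  have hzc : ∀ x ∈ V, z * x = x * z := fun x hx => b.zc x (hV.le hx)
  have hZV : V ≤ normalizer ((zpowers z : Subgroup X) : Set X) := by
    apply le_normalizer_of_conj_mem
    intro v hv x hx
    obtain ⟨k, rfl⟩ := mem_zpowers_iff.mp hx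
    have h1 : v * z ^ k * v⁻¹ = z ^ k := by
      have : Commute v (z ^ k) := (Commute.zpow_right (hzc v hv).symm k)
      rw [this.eq, mul_inv_cancel_right]
    rw [h1]; exact hx
  have hZE : E ≤ normalizer ((zpowers z : Subgroup X) : Set X) := by
    apply le_normalizer_of_conj_mem
    intro v hv x hx
    obtain ⟨k, rfl⟩ := mem_zpowers_iff.mp hx
    have h1 : v * z ^ k * v⁻¹ = z ^ k := by
      have : Commute v (z ^ k) := (Commute.zpow_right (b.zE v hv) k)
      rw [this.eq, mul_inv_cancel_right]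
    rw [h1]; exact hx
  have hcom : ∀ x ∈ ⁅N, V⁆, x = 1 ∨ x = z := by
    set U := ⁅N, V⁆ with hU
    have hUN : U ≤ N := commutator_le_left hVN
    by_contra hcon
    push Not at hcon
    obtain ⟨x, hxU, hx1, hxz⟩ := hcon
    have hVU : V ≤ normalizer (U : Set X) := le_normalizer_commutator hVN Subgroup.le_normalizer
    have hEU : E ≤ normalizer (U : Set X) := le_normalizer_commutator hEN hV.norm
    have hM : U ⊔ zpowers z = N := by
      apply hmin' _ _ (sup_le hUN (by rw [zpowers_le]; exact hzN))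
      exact ⟨(le_sup_right : zpowers z ≤ _) (mem_zpowers z), ⟨x, (le_sup_left : U ≤ _) hxU, hx1, hxz⟩,
        (sup_le hUN (by rw [zpowers_le]; exact hzN)).trans hNV, le_normalizer_sup hEU hZE, le_normalizer_sup hVU hZV⟩
    have hUne : U ≠ ⊥ := by
      intro hb
      rw [hb, mem_bot] at hxU
      exact hx1 hxU
    have hlt := commutator_lt_of_isPGroup hVp (hVp.to_le (hUN.trans hNV)) hVU hUne
    apply absurd hlt
    apply not_lt_of_ge
    conv_lhs => rw [hU]
    rw [← hM, Subgroup.commutator_le]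
    intro g hg v hv
    obtain ⟨u, hu, c, hc, rfl⟩ := (H65.Semi.mem_sup_iff ((hUN.trans hNV).trans hZV)).mp hg
    obtain ⟨k, rfl⟩ := mem_zpowers_iff.mp hc
    have h1 : ⁅z ^ k, v⁆ = 1 := by
      rw [commutatorElement_eq_one_iff_mul_comm]
      exact (Commute.zpow_left (hzc v hv) k)
    rw [commutatorElement_mul_left, h1]
    simp only [mul_one, mul_inv_cancel, one_mul]
    exact commutator_mem_commutator hu hv
  -- fixed points
  have hgenN := H2.GenCent.main E N h.imc h.nc hEN (Nat.Coprime.coprime_dvd_right (card_dvd_of_le (hNV.trans hV.le)) h.coprime)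
  have hex : ∃ e ∈ E, e ≠ 1 ∧ ∃ x ∈ N ⊓ centralizer {e}, x ≠ 1 ∧ x ≠ z := by
    by_contra hcon
    push Not at hcon
    obtain ⟨x, hxN', hx1, hxz⟩ := hxN
    have hle : N ≤ zpowers z := by
      rw [← hgenN, H2.GenCent.gen]
      apply iSup₂_le
      rintro e ⟨he, he1⟩ y hy
      by_cases hy1 : y = 1
      · rw [hy1]; exact one_mem _
      · rw [hcon e he he1 y hy hy1]; exact mem_zpowers z
    have h1 := hle hxN'
    rw [mem_zpowers_iff] at h1
    obtain ⟨k, hk⟩ := h1
    rcases Int.even_or_odd k with ⟨m, hm⟩ | ⟨m, hm⟩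
    · apply hx1
      rw [← hk, hm, zpow_add, ← (Commute.refl z).mul_zpow, b.zz, one_zpow]
    · apply hxz
      rw [← hk, hm, zpow_add, two_mul, zpow_add, ← (Commute.refl z).mul_zpow, b.zz, one_zpow, one_mul, zpow_one]
  obtain ⟨e, he, he1, x, hx, hx1, hxz⟩ := hex
  have hxfx : x ∈ fx W e := ⟨hV.le (hNV (mem_inf.mp hx).1), (mem_inf.mp hx).2⟩
  have hN1 : N ⊓ centralizer {e} = N := by
    apply hmin' _ _ inf_le_left
    refine ⟨mem_inf.mpr ⟨hzN, mem_centralizer_singleton_iff.mpr (b.zE e he).symm⟩, ⟨x, hx, hx1, hxz⟩,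
      inf_le_left.trans hNV, ?_, ?_⟩
    · apply le_normalizer_of_conj_mem
      intro f hf y hy
      refine mem_inf.mpr ⟨(mem_normalizer_iff.mp (hEN hf) y).mp (mem_inf.mp hy).1, ?_⟩
      rw [mem_centralizer_singleton_iff]
      have h1 : y * e = e * y := mem_centralizer_singleton_iff.mp (mem_inf.mp hy).2
      have h2 := h.comm f hf e he
      calc f * y * f⁻¹ * e = f * y * (f⁻¹ * e) := by group
        _ = f * (y * e) * f⁻¹ := by rw [h.comm _ (inv_mem hf) e he]; group
        _ = (f * e) * y * f⁻¹ := by rw [h1]; group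
        _ = e * (f * y * f⁻¹) := by rw [h2]; group
    · apply le_normalizer_of_conj_mem
      intro v hv y hy
      have h1 : ⁅v, y⁆ = 1 ∨ ⁅v, y⁆ = z := by
        apply hcom
        rw [commutator_comm]
        exact commutator_mem_commutator hv (mem_inf.mp hy).1
      have h2 : v * y * v⁻¹ = ⁅v, y⁆ * y := by rw [commutatorElement_def]; group
      rw [h2]
      rcases h1 with h1 | h1
      · rw [h1, one_mul]; exact hy
      · rw [h1]
        exact mul_mem (mem_inf.mpr ⟨hzN, mem_centralizer_singleton_iff.mpr (b.zE e he).symm⟩) hy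
  obtain ⟨f, hf, hfD⟩ := b.ex e he he1 x hxfx hx1 hxz
  obtain ⟨i, j, ht⟩ := b.tri e he he1 x hxfx hx1 hxz f hf hfD
  have hNfx : N ≤ fx W e := le_inf (hNV.trans hV.le) (by rw [← hN1]; exact inf_le_right)
  have hNeq : N = fx W e := ht.sub_eq hNfx (fun y hy => (mem_normalizer_iff.mp (hEN hf) y).mp hy) (mem_inf.mp hx).1 hx1 hxz
  refine ⟨N, ⟨e, he, he1, hNeq, x, (mem_inf.mp hx).1, hx1, hxz⟩, hNV, hcom⟩

theorem Tri.center {D : Subgroup X} {i j z f : X} (h : Tri D i j z f) {d : X} (hd : d ∈ D)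
    (hc : ∀ y ∈ D, d * y = y * d) : d = 1 ∨ d = z := by
  by_contra hcon
  push Not at hcon
  have hN : D ⊓ centralizer (D : Set X) = D := by
    apply h.sub_eq inf_le_left (N := D ⊓ centralizer (D : Set X)) (d := d) _ _ hcon.1 hcon.2
    · intro x hx
      have key : ∀ y ∈ D, f * y * f⁻¹ ∈ D := by
        intro y hy
        rw [h.gen] at hy
        induction hy using Subgroup.closure_induction with
        | mem y hy =>
          rcases hy with hy | hy
          · rw [hy, h.fi]; exact h.jD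
          · rw [Set.mem_singleton_iff] at hy
            rw [hy, h.fj]; exact mul_mem h.iD h.jD
        | one => rw [mul_one, mul_inv_cancel]; exact one_mem _
        | mul a b _ _ ha hb =>
          have : f * (a * b) * f⁻¹ = (f * a * f⁻¹) * (f * b * f⁻¹) := by group
          rw [this]; exact mul_mem ha hb
        | inv a _ ha =>
          have : f * a⁻¹ * f⁻¹ = (f * a * f⁻¹)⁻¹ := by group
          rw [this]; exact inv_mem ha
      refine mem_inf.mpr ⟨key x hx.1, ?_⟩
      have hsub : D ≤ centralizer {f * x * f⁻¹} := by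
        have hx2 := mem_centralizer_iff.mp hx.2
        have e1 : ∀ y ∈ D, f * y * f⁻¹ ∈ centralizer {f * x * f⁻¹} := by
          intro y hy
          rw [mem_centralizer_singleton_iff]
          calc f * y * f⁻¹ * (f * x * f⁻¹) = f * (y * x) * f⁻¹ := by group
            _ = f * (x * y) * f⁻¹ := by rw [hx2 y hy]
            _ = f * x * f⁻¹ * (f * y * f⁻¹) := by group
        have hj := e1 i h.iD
        rw [h.fi] at hj
        have hi := e1 _ (mul_mem h.iD h.jD)
        rw [h.fij] at hi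
        rw [h.gen, closure_le]
        intro y hy
        rcases hy with hy | hy
        · rw [hy]; exact hi
        · rw [Set.mem_singleton_iff] at hy
          rw [hy]; exact hj
      rw [mem_centralizer_iff]
      intro y hy
      exact mem_centralizer_singleton_iff.mp (hsub hy)
    · exact mem_inf.mpr ⟨hd, mem_centralizer_iff.mpr (fun y hy => (hc y hy).symm)⟩
  have hi : i ∈ centralizer (D : Set X) := by
    have : i ∈ D ⊓ centralizer (D : Set X) := by rw [hN]; exact h.iD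
    exact (mem_inf.mp this).2
  have h1 := mem_centralizer_iff.mp hi j h.jD
  rw [h.ji] at h1
  have h2 := mul_left_cancel h1
  apply h.z1
  have h3 : j * z = j * 1 := by rw [mul_one]; exact h2
  exact mul_left_cancel h3

end H65.OneInv
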