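import Cfsg.Agent.Lib.H65.OneInv3

set_option autoImplicit false

/-! Structure of `W`: central product of quaternion groups; the induction. -/

namespace H65.OneInv

open Subgroup H1.Coprime H1.Coprime2
open scoped commutatorElement

variable {X : Type*} [Group X] {p : ℕ} {E W : Subgroup X} {z : X}

/-- the quaternion fixed point subgroups in `V` -/
def QV (E W : Subgroup X) (z : X) (V : Subgroup X) : Set (Subgroup X) := {Q | Q ∈ QQ E W z ∧ Q ≤ V}

theorem Base.pair (b : Base E W z) (x : X) : x ∈ zpowers z ↔ x = 1 ∨ x = z := by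
  constructor
  · intro h1
    rw [mem_zpowers_iff] at h1
    obtain ⟨k, hk⟩ := h1
    rcases Int.even_or_odd k with ⟨m, hm⟩ | ⟨m, hm⟩
    · left
      rw [← hk, hm, zpow_add, ← (Commute.refl z).mul_zpow, b.zz, one_zpow]
    · right
      rw [← hk, hm, zpow_add, two_mul, zpow_add, ← (Commute.refl z).mul_zpow, b.zz, one_zpow, one_mul, zpow_one]
  · rintro (rfl | rfl)
    · exact one_mem _
    · exact mem_zpowers _

theorem QQ_eq (b : Base E W z) {Q : Subgroup X} (hQ : Q ∈ QQ E W z) {e : X} (he : e ∈ E) (he1 : e ≠ 1)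
    (hle : Q ≤ fx W e) [Finite X] : Q = fx W e := by
  obtain ⟨f, hf, i, j, ht⟩ := QQ_tri b hQ
  have hQ2 : fx W e ∈ QQ E W z := ⟨e, he, he1, rfl, i, hle ht.iD, ht.i_ne, ht.i_ne_z⟩
  obtain ⟨f', hf', i', j', ht'⟩ := QQ_tri b hQ2
  apply Subgroup.eq_of_le_of_card_ge hle
  rw [ht.card, ht'.card]

theorem QQ_le (b : Base E W z) {Q : Subgroup X} (hQ : Q ∈ QQ E W z) : Q ≤ W := by
  obtain ⟨e, he, he1, rfl, -⟩ := hQ
  exact inf_le_left

theorem main [Finite X] (h : Hyp p E W) (b : Base E W z) : ∀ n : ℕ, ∀ V : Subgroup X, Adm E W z V → Nat.card V = n →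
    (∀ x ∈ V, (∀ y ∈ V, x * y = y * x) → x = 1 ∨ x = z) ∧
    (∀ x ∈ V, ∀ y ∈ V, ⁅x, y⁆ = 1 ∨ ⁅x, y⁆ = z) ∧
    Nat.card V = 2 * 4 ^ (QV E W z V).ncard ∧
    (∀ Q ∈ QV E W z V, ∀ Q' ∈ QV E W z V, Q ≠ Q' → ∀ x ∈ Q, ∀ y ∈ Q', x * y = y * x) := by
  intro n
  induction n using Nat.strong_induction_on with
  | _ n ih =>
  intro V hV hn
  by_cases hx : ∃ x ∈ V, x ≠ 1 ∧ x ≠ z
  swap
  · push Not at hx
    have hVz : V = zpowers z := by
      apply le_antisymm
      · intro x hxV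
        rw [b.pair]
        by_cases h1 : x = 1
        · exact Or.inl h1
        · exact Or.inr (hx x hxV h1)
      · rw [zpowers_le]; exact hV.zV
    have hcases : ∀ x ∈ V, x = 1 ∨ x = z := fun x hx' => (b.pair x).mp (by rw [← hVz]; exact hx')
    have hQV : QV E W z V = ∅ := by
      rw [Set.eq_empty_iff_forall_notMem]
      rintro Q ⟨hQ, hQV⟩
      obtain ⟨e, he, he1, -, x, hxQ, hx1, hxz⟩ := hQ
      exact hxz (hx x (hQV hxQ) hx1)
    refine ⟨fun x hx' _ => hcases x hx', ?_, ?_, ?_⟩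
    · intro x hx' y hy
      left
      rw [commutatorElement_eq_one_iff_mul_comm]
      rcases hcases x hx' with rfl | rfl
      · rw [one_mul, mul_one]
      · exact b.zc y (hV.le hy)
    · rw [hQV, Set.ncard_empty, pow_zero, mul_one, hVz, Nat.card_zpowers, b.z2]
    · rw [hQV]; intro Q hQ; exact absurd hQ (Set.notMem_empty _)
  obtain ⟨Q, hQ, hQV, hcom⟩ := exists_normal h b hV hx
  obtain ⟨f, hf, i, j, ht⟩ := QQ_tri b hQ
  obtain ⟨e₁, he₁, he₁1, hQe, -⟩ := id hQ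
  have hQn : ∀ g ∈ E, g ∈ normalizer (Q : Set X) := by
    intro g hg; rw [hQe]; exact h.norm_fx he₁ hg
  set V2 : Subgroup X := V ⊓ centralizer (Q : Set X) with hV2
  have hV2V : V2 ≤ V := inf_le_left
  have hcQ : ∀ q ∈ Q, ∀ c ∈ V2, q * c = c * q := fun q hq c hc => mem_centralizer_iff.mp (mem_inf.mp hc).2 q hq
  have hzV2 : z ∈ V2 := mem_inf.mpr ⟨hV.zV, mem_centralizer_iff.mpr (fun q hq => (b.zc q (hV.le (hQV hq))).symm)⟩
  -- decomposition
  have hdec : ∀ w ∈ V, ∃ q ∈ Q, ∃ c ∈ V2, w = q * c := by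
    intro w hw
    have key : ∀ y ∈ Q, w * y * w⁻¹ = y ∨ w * y * w⁻¹ = y * z := by
      intro y hy
      have h1 : ⁅w, y⁆ = 1 ∨ ⁅w, y⁆ = z := by
        apply hcom
        rw [Subgroup.commutator_comm]
        exact commutator_mem_commutator hw hy
      have h2 : w * y * w⁻¹ = ⁅w, y⁆ * y := by rw [commutatorElement_def]; group
      rcases h1 with h1 | h1
      · left; rw [h2, h1, one_mul]
      · right; rw [h2, h1]; exact b.zc y (hV.le (hQV hy))
    obtain ⟨q, hq, hqc⟩ := ht.inner (key i ht.iD) (key j ht.jD)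
    exact ⟨q, hq, q⁻¹ * w, mem_inf.mpr ⟨mul_mem (inv_mem (hQV hq)) hw, hqc⟩, by group⟩
  have hAdm : Adm E W z V2 := by
    refine ⟨hV2V.trans hV.le, hzV2, ?_⟩
    apply le_normalizer_of_conj_mem
    intro g hg c hc
    refine mem_inf.mpr ⟨(mem_normalizer_iff.mp (hV.norm hg) c).mp (mem_inf.mp hc).1, mem_centralizer_iff.mpr ?_⟩
    intro q hq
    have hq' : g⁻¹ * q * g ∈ Q := by
      have := (mem_normalizer_iff.mp (hQn g⁻¹ (inv_mem hg)) q).mp hq
      rwa [inv_inv] at this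
    have h1 := hcQ _ hq' c hc
    calc q * (g * c * g⁻¹) = g * ((g⁻¹ * q * g) * c) * g⁻¹ := by group
      _ = g * (c * (g⁻¹ * q * g)) * g⁻¹ := by rw [h1]
      _ = g * c * g⁻¹ * q := by group
  have hinf : ∀ x, x ∈ Q → x ∈ V2 → x = 1 ∨ x = z := by
    intro x hxQ hxV
    exact ht.center hxQ (fun y hy => (hcQ y hy x hxV).symm)
  have hiV2 : i ∉ V2 := by
    intro hi
    rcases hinf i ht.iD hi with h1 | h1
    · exact ht.i_ne h1
    · exact ht.i_ne_z h1
  have hlt : Nat.card V2 < Nat.card V := by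
    apply lt_of_le_of_ne (Subgroup.card_le_of_le hV2V)
    intro he
    apply hiV2
    rw [Subgroup.eq_of_le_of_card_ge hV2V he.ge]
    exact hQV ht.iD
  have hcard : Nat.card V = 4 * Nat.card V2 := by
    have hsup : Q ⊔ V2 = V := by
      apply le_antisymm (sup_le hQV hV2V)
      intro w hw
      obtain ⟨q, hq, c, hc, rfl⟩ := hdec w hw
      exact mul_mem ((le_sup_left : Q ≤ Q ⊔ V2) hq) ((le_sup_right : V2 ≤ Q ⊔ V2) hc)
    have hinf' : Q ⊓ V2 = zpowers z := by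
      apply le_antisymm
      · intro x hx'
        rw [b.pair]; exact hinf x (mem_inf.mp hx').1 (mem_inf.mp hx').2
      · rw [zpowers_le]; exact mem_inf.mpr ⟨ht.zD, hzV2⟩
    have hn1 : Q ≤ normalizer (V2 : Set X) := by
      apply le_normalizer_of_conj_mem
      intro q hq c hc
      rw [hcQ q hq c hc, mul_inv_cancel_right]; exact hc
    have := H3.CardSup.card_sup_mul_card_inf Q V2 hn1
    rw [hsup, hinf', Nat.card_zpowers, b.z2, ht.card] at this
    omega
  obtain ⟨ih1, ih2, ih3, ih4⟩ := ih (Nat.card V2) (by rw [← hn]; exact hlt) V2 hAdm rfl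
  -- the set of quaternion subgroups
  have hQset : QV E W z V = insert Q (QV E W z V2) := by
    ext Q'
    constructor
    · rintro ⟨hQ', hQ'V⟩
      by_cases hne : Q' = Q
      · exact Or.inl hne
      · right
        refine ⟨hQ', ?_⟩
        obtain ⟨e, he, he1, hQ'e, -⟩ := id hQ'
        have heQ : e ∉ centralizer (Q : Set X) := by
          intro hc
          apply hne
          have hle : Q ≤ fx W e := by
            intro q hq
            rw [mem_fx]
            exact ⟨hV.le (hQV hq), (mem_centralizer_iff.mp hc q hq).symm⟩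
          rw [hQ'e]
          exact (QQ_eq b hQ he he1 hle).symm
        rw [hQe] at heQ
        obtain ⟨i', j', ht'⟩ := b.tri e₁ he₁ he₁1 i (by rw [← hQe]; exact ht.iD) ht.i_ne ht.i_ne_z e he heQ
        rw [← hQe] at ht'
        intro x hx'
        obtain ⟨q, hq, c, hc, hxqc⟩ := hdec x (hQ'V hx')
        have hfix : e * x = x * e := by
          rw [hQ'e] at hx'
          exact (mem_fx.mp hx').2
        have heq : e * q * e⁻¹ ∈ Q := (mem_normalizer_iff.mp (hQn e he) q).mp hq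
        have hec : e * c * e⁻¹ ∈ V2 := (mem_normalizer_iff.mp (hAdm.norm he) c).mp hc
        have h1 : (e * q * e⁻¹) * (e * c * e⁻¹) = q * c := by
          rw [← hxqc]
          calc (e * q * e⁻¹) * (e * c * e⁻¹) = e * (q * c) * e⁻¹ := by group
            _ = x := by rw [← hxqc, hfix, mul_inv_cancel_right]
        have h2 : q⁻¹ * (e * q * e⁻¹) = c * (e * c * e⁻¹)⁻¹ := by
          rw [inv_mul_eq_iff_eq_mul, ← mul_assoc, eq_mul_inv_iff_mul_eq]
          exact h1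
        have h3 : q⁻¹ * (e * q * e⁻¹) = 1 ∨ q⁻¹ * (e * q * e⁻¹) = z :=
          hinf _ (mul_mem (inv_mem hq) heq) (by rw [h2]; exact mul_mem hc (inv_mem hec))
        have h4 : e * q * e⁻¹ = q ∨ e * q * e⁻¹ = q * z := by
          rcases h3 with h3 | h3
          · left; rw [inv_mul_eq_one] at h3; exact h3.symm
          · right; rw [inv_mul_eq_iff_eq_mul] at h3; exact h3
        rcases ht'.fixed hq h4 with h5 | h5
        · rw [hxqc, h5, one_mul]; exact hc
        · rw [hxqc, h5]; exact mul_mem hzV2 hc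
    · rintro (rfl | ⟨hQ', hQ'V⟩)
      · exact ⟨hQ, hQV⟩
      · exact ⟨hQ', hQ'V.trans hV2V⟩
  have hQn2 : Q ∉ QV E W z V2 := fun hmem => hiV2 (hmem.2 ht.iD)
  refine ⟨?_, ?_, ?_, ?_⟩
  · intro x hxV hxc
    obtain ⟨q, hq, c, hc, rfl⟩ := hdec x hxV
    have h1 : q = 1 ∨ q = z := by
      apply ht.center hq
      intro y hy
      have h1 := hxc y (hQV hy)
      have h2 := hcQ y hy c hc
      have h3 : (q * y) * c = (y * q) * c := by
        calc q * y * c = q * c * y := by rw [mul_assoc, h2, ← mul_assoc]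
          _ = y * q * c := by rw [h1]; group
      exact mul_right_cancel h3
    have hxV2 : q * c ∈ V2 := by
      rcases h1 with h1 | h1
      · rw [h1, one_mul]; exact hc
      · rw [h1]; exact mul_mem hzV2 hc
    exact ih1 _ hxV2 (fun y hy => hxc y (hV2V hy))
  · intro x hxV y hyV
    obtain ⟨q, hq, c, hc, rfl⟩ := hdec x hxV
    obtain ⟨q', hq', c', hc', rfl⟩ := hdec y hyV
    have h1 : ⁅q, q'⁆ = 1 ∨ ⁅q, q'⁆ = z := hcom _ (commutator_mem_commutator hq (hQV hq'))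
    have h2 := ih2 c hc c' hc'
    have e : ⁅q * c, q' * c'⁆ = ⁅q, q'⁆ * ⁅c, c'⁆ := by
      have a1 : c * q' = q' * c := (hcQ q' hq' c hc).symm
      have a2 : c' * q⁻¹ = q⁻¹ * c' := (hcQ q⁻¹ (inv_mem hq) c' hc').symm
      have a3 : c⁻¹ * q⁻¹ = q⁻¹ * c⁻¹ := (hcQ q⁻¹ (inv_mem hq) c⁻¹ (inv_mem hc)).symm
      have a4 : c * q⁻¹ = q⁻¹ * c := (hcQ q⁻¹ (inv_mem hq) c hc).symm
      have a5 : c'⁻¹ * q'⁻¹ = q'⁻¹ * c'⁻¹ := (hcQ q'⁻¹ (inv_mem hq') c'⁻¹ (inv_mem hc')).symm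
      have a6 : ∀ t ∈ V2, t * q'⁻¹ = q'⁻¹ * t := fun t ht' => (hcQ q'⁻¹ (inv_mem hq') t ht').symm
      have hm : c * c' * c⁻¹ * c'⁻¹ ∈ V2 := mul_mem (mul_mem (mul_mem hc hc') (inv_mem hc)) (inv_mem hc')
      rw [commutatorElement_def, commutatorElement_def, commutatorElement_def]
      calc q * c * (q' * c') * (q * c)⁻¹ * (q' * c')⁻¹ = q * (c * q') * c' * (c⁻¹ * q⁻¹) * (c'⁻¹ * q'⁻¹) := by group
        _ = q * q' * c * (c' * q⁻¹) * c⁻¹ * q'⁻¹ * c'⁻¹ := by rw [a1, a3, a5]; group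
        _ = q * q' * (c * q⁻¹) * c' * c⁻¹ * q'⁻¹ * c'⁻¹ := by rw [a2]; group
        _ = q * q' * q⁻¹ * ((c * c' * c⁻¹ * c'⁻¹) * (c' * q'⁻¹ * c'⁻¹)) := by rw [a4]; group
        _ = q * q' * q⁻¹ * ((c * c' * c⁻¹ * c'⁻¹) * q'⁻¹) := by
            rw [a6 c' hc', mul_inv_cancel_right]
        _ = q * q' * q⁻¹ * q'⁻¹ * (c * c' * c⁻¹ * c'⁻¹) := by rw [a6 _ hm]; group
    rw [e]
    rcases h1 with h1 | h1 <;> rcases h2 with h2 | h2 <;> rw [h1, h2]
    · left; rw [one_mul]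
    · right; rw [one_mul]
    · right; rw [mul_one]
    · left; exact b.zz
  · rw [hQset, Set.ncard_insert_of_notMem hQn2 (Set.toFinite _), hcard, ih3, pow_succ]; ring
  · intro Q1 hQ1 Q2 hQ2 hne x hx' y hy
    rw [hQset] at hQ1 hQ2
    rcases hQ1 with h1 | h1 <;> rcases hQ2 with h2 | h2
    · exact absurd (h1.trans h2.symm) hne
    · rw [h1] at hx'
      exact hcQ x hx' y (h2.2 hy)
    · rw [h2] at hy
      exact (hcQ y hy x (h1.2 hx')).symm
    · exact ih4 Q1 h1 Q2 h2 hne x hx' y hy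

end H65.OneInv
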