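import Cfsg.Agent.Lib.H65.OneInv4

set_option autoImplicit false

/-! Counting: `|E| = 9` and at most four quaternion subgroups. -/

namespace H65.OneInv

open Subgroup
open scoped commutatorElement

variable {X : Type*} [Group X] {p : ℕ} {E W : Subgroup X} {z : X}

theorem QQ_ker (h : Hyp p E W) (b : Base E W z) {Q : Subgroup X} (hQ : Q ∈ QQ E W z) [Finite X] :
    Nat.card E ≤ 3 * Nat.card (E ⊓ centralizer (Q : Set X) : Subgroup X) := by
  obtain ⟨f, hf, i, j, ht⟩ := QQ_tri b hQ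
  obtain ⟨e₁, he₁, he₁1, hQe, -⟩ := id hQ
  have hQn : ∀ g ∈ E, g ∈ normalizer (Q : Set X) := by
    intro g hg; rw [hQe]; exact h.norm_fx he₁ hg
  set A : Subgroup X := E ⊓ centralizer (Q : Set X) with hA
  -- an element fixing `i`
  have hfix : ∀ g ∈ E, g * i * g⁻¹ = i → g ∈ A := by
    intro g hg hgi
    refine mem_inf.mpr ⟨hg, ?_⟩
    rw [ht.gen, centralizer_closure, mem_centralizer_iff]
    intro x hx
    rcases hx with hx | hx
    · rw [hx]; exact (mul_inv_eq_iff_eq_mul.mp hgi).symm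
    · rw [Set.mem_singleton_iff] at hx
      rw [hx]
      have : g * j * g⁻¹ = j := by
        calc g * j * g⁻¹ = (g * f) * i * (g * f)⁻¹ := by rw [← ht.fi]; group
          _ = f * (g * i * g⁻¹) * f⁻¹ := by rw [h.comm g hg f hf]; group
          _ = j := by rw [hgi, ht.fi]
      exact (mul_inv_eq_iff_eq_mul.mp this).symm
  have hz : ∀ g ∈ E, g * z * g⁻¹ = z := fun g hg => by rw [b.zE g hg, mul_inv_cancel_right]
  have hfix2 : ∀ g ∈ E, g * i * g⁻¹ = i * z → g ∈ A := by
    intro g hg hgi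
    have h2 : g * g ∈ A := by
      apply hfix _ (mul_mem hg hg)
      calc g * g * i * (g * g)⁻¹ = g * (g * i * g⁻¹) * g⁻¹ := by group
        _ = g * (i * z) * g⁻¹ := by rw [hgi]
        _ = (g * i * g⁻¹) * (g * z * g⁻¹) := by group
        _ = i := by rw [hgi, hz g hg, mul_assoc, ht.zz, mul_one]
    obtain ⟨k, hk⟩ := h.odd_order hg
    have h3 : (g * g) ^ (k + 1) = g := by
      rw [← pow_two, ← pow_mul]
      have : 2 * (k + 1) = orderOf g + 1 := by omega
      rw [this, pow_succ, pow_orderOf_eq_one, one_mul]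
    rw [← h3]; exact pow_mem h2 _
  have hcov : ∀ g ∈ E, g ∈ A ∨ f⁻¹ * g ∈ A ∨ f⁻¹ * (f⁻¹ * g) ∈ A := by
    intro g hg
    have hgi : g * i * g⁻¹ ∈ Q := (mem_normalizer_iff.mp (hQn g hg) i).mp ht.iD
    have hfi : f⁻¹ * j * f = i := by rw [← ht.fi]; group
    have hfij : f⁻¹ * (i * j) * f = j := by rw [← ht.fj]; group
    have hfz : f⁻¹ * z * f = z := by
      have := hz f⁻¹ (inv_mem hf); rwa [inv_inv] at this
    have e1 : ∀ t, (f⁻¹ * t) * i * (f⁻¹ * t)⁻¹ = f⁻¹ * (t * i * t⁻¹) * f := fun t => by group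
    have e2 : ∀ x y, f⁻¹ * (x * y) * f = (f⁻¹ * x * f) * (f⁻¹ * y * f) := fun x y => by group
    rcases ht.cases hgi with h1 | h1 | h1 | h1 | h1 | h1 | h1 | h1
    · exfalso
      apply ht.i_ne
      rw [mul_inv_eq_one] at h1
      exact (mul_eq_left.mp h1)
    · exfalso
      apply ht.i_ne_z
      have : g * i * g⁻¹ = g * z * g⁻¹ := by rw [h1, hz g hg]
      exact mul_left_cancel (mul_right_cancel this)
    · exact Or.inl (hfix g hg h1)
    · exact Or.inl (hfix2 g hg h1)
    · right; left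
      apply hfix _ (mul_mem (inv_mem hf) hg)
      rw [e1, h1, hfi]
    · right; left
      apply hfix2 _ (mul_mem (inv_mem hf) hg)
      rw [e1, h1, e2, hfi, hfz]
    · right; right
      apply hfix _ (mul_mem (inv_mem hf) (mul_mem (inv_mem hf) hg))
      rw [e1, e1, h1, hfij, hfi]
    · right; right
      apply hfix2 _ (mul_mem (inv_mem hf) (mul_mem (inv_mem hf) hg))
      rw [e1, e1, h1, e2 (i * j) z, hfij, hfz, e2, hfi, hfz]
  have hsub : (E : Set X) ⊆ (A : Set X) ∪ ((fun x => f * x) '' (A : Set X) ∪ (fun x => f * f * x) '' (A : Set X)) := by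
    intro g hg
    rcases hcov g hg with h1 | h1 | h1
    · exact Or.inl h1
    · right; left; exact ⟨_, h1, by group⟩
    · right; right; exact ⟨_, h1, by group⟩
  have h1 := Set.ncard_le_ncard hsub (Set.toFinite _)
  have h2 := Set.ncard_union_le (A : Set X) ((fun x => f * x) '' (A : Set X) ∪ (fun x => f * f * x) '' (A : Set X))
  have h3 := Set.ncard_union_le ((fun x => f * x) '' (A : Set X)) ((fun x => f * f * x) '' (A : Set X))
  have h4 := Set.ncard_image_le (f := fun x => f * x) (Set.toFinite (A : Set X))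
  have h5 := Set.ncard_image_le (f := fun x => f * f * x) (Set.toFinite (A : Set X))
  have e1 : Nat.card E = (E : Set X).ncard := rfl
  have e2 : Nat.card A = (A : Set X).ncard := rfl
  rw [e1, e2]
  omega

theorem ker_inf (b : Base E W z) {Q Q' : Subgroup X} (hQ : Q ∈ QQ E W z) (hQ' : Q' ∈ QQ E W z) [Finite X]
    (hne : Q ≠ Q') {a : X} (ha : a ∈ E) (h1 : a ∈ centralizer (Q : Set X)) (h2 : a ∈ centralizer (Q' : Set X)) :
    a = 1 := by
  by_contra ha1
  apply hne
  have key : ∀ R ∈ QQ E W z, a ∈ centralizer (R : Set X) → R = fx W a := by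
    intro R hR hc
    apply QQ_eq b hR ha ha1
    intro x hx
    exact mem_fx.mpr ⟨QQ_le b hR hx, (mem_centralizer_iff.mp hc x hx).symm⟩
  rw [key Q hQ h1, key Q' hQ' h2]

theorem card_prod_le [Finite X] {E A B : Subgroup X} (hA : A ≤ E) (hB : B ≤ E) (hAB : A ⊓ B = ⊥)  :
    Nat.card A * Nat.card B ≤ Nat.card E := by
  rw [← Nat.card_prod]
  apply Nat.card_le_card_of_injective (fun x : A × B => (⟨x.1 * x.2, mul_mem (hA x.1.2) (hB x.2.2)⟩ : E))
  rintro ⟨a, b⟩ ⟨a', b'⟩ hab
  have h1 : (a : X) * b = a' * b' := congrArg Subtype.val hab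
  have h2 : (a' : X)⁻¹ * a = b' * (b : X)⁻¹ := by
    rw [inv_mul_eq_iff_eq_mul, ← mul_assoc, eq_mul_inv_iff_mul_eq]; exact h1
  have h3 : (a' : X)⁻¹ * a ∈ A ⊓ B :=
    mem_inf.mpr ⟨mul_mem (inv_mem a'.2) a.2, by rw [h2]; exact mul_mem b'.2 (inv_mem b.2)⟩
  rw [hAB, mem_bot] at h3
  have h4 : a = a' := Subtype.ext (by rw [inv_mul_eq_one] at h3; exact h3.symm)
  rw [h3] at h2
  have h5 : b = b' := Subtype.ext (by
    have := mul_inv_eq_one.mp h2.symm
    exact this.symm)
  rw [h4, h5]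

theorem final [Finite X] (h : Hyp p E W) (b : Base E W z) (hp3 : p = 3) :
    Nat.card E = 9 ∧ (Nat.card W = 2 ^ 5 ∨ Nat.card W = 2 ^ 7 ∨ Nat.card W = 2 ^ 9) := by
  have hAdm : Adm E W z W := ⟨le_rfl, b.zW, h.norm⟩
  obtain ⟨-, -, hcard, -⟩ := main h b _ W hAdm rfl
  have hQV : QV E W z W = QQ E W z := by
    ext Q; exact ⟨fun hq => hq.1, fun hq => ⟨hq, QQ_le b hq⟩⟩
  rw [hQV] at hcard
  have hE9 : 9 ≤ Nat.card E := by
    have := Fact.mk h.pr
    obtain ⟨m, hm⟩ := IsPGroup.iff_card.mp h.Ep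
    have hm2 : 2 ≤ m := by
      by_contra hlt
      apply h.nc
      interval_cases m
      · rw [pow_zero] at hm
        have : Subsingleton E := (Nat.card_eq_one_iff_unique.mp hm).1
        infer_instance
      · rw [pow_one] at hm
        exact isCyclic_of_prime_card hm
    rw [hm, hp3]
    calc 9 = 3 ^ 2 := rfl
      _ ≤ 3 ^ m := Nat.pow_le_pow_right (by norm_num) hm2
  obtain ⟨e, he, he1, x, hx, hx1, hxz⟩ := b.ne
  have hQ1 : fx W e ∈ QQ E W z := ⟨e, he, he1, rfl, x, hx, hx1, hxz⟩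
  -- at least two
  have hk2 : ∃ Q' ∈ QQ E W z, Q' ≠ fx W e := by
    by_contra hcon
    push Not at hcon
    have hset : QQ E W z = {fx W e} := by
      ext Q; exact ⟨fun hq => hcon Q hq, fun hq => by rw [Set.mem_singleton_iff] at hq; rw [hq]; exact hQ1⟩
    rw [hset, Set.ncard_singleton] at hcard
    obtain ⟨f, hf, i, j, ht⟩ := QQ_tri b hQ1
    have hW : fx W e = W := by
      apply Subgroup.eq_of_le_of_card_ge (QQ_le b hQ1)
      rw [hcard, ht.card]; norm_num
    apply he1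
    apply h.faith e he
    rw [mem_centralizer_iff]
    intro w hw
    rw [← hW] at hw
    exact (mem_fx.mp hw).2.symm
  obtain ⟨Q', hQ', hne⟩ := hk2
  have h9 : Nat.card E ≤ 9 := by
    have h1 := QQ_ker h b hQ1
    have h2 := QQ_ker h b hQ'
    have h3 : Nat.card (E ⊓ centralizer (fx W e : Set X) : Subgroup X) * Nat.card (E ⊓ centralizer (Q' : Set X) : Subgroup X)
        ≤ Nat.card E := by
      apply card_prod_le inf_le_left inf_le_left
      rw [eq_bot_iff]
      intro a ha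
      rw [mem_bot]
      exact ker_inf b hQ1 hQ' hne.symm (mem_inf.mp (mem_inf.mp ha).1).1 (mem_inf.mp (mem_inf.mp ha).1).2
        (mem_inf.mp (mem_inf.mp ha).2).2
    have hpos : 0 < Nat.card E := Nat.card_pos
    have h4 := Nat.mul_le_mul h1 h2
    have h5 : Nat.card E * Nat.card E ≤ 9 * Nat.card E := by
      calc Nat.card E * Nat.card E ≤ 3 * Nat.card (E ⊓ centralizer (fx W e : Set X) : Subgroup X) *
          (3 * Nat.card (E ⊓ centralizer (Q' : Set X) : Subgroup X)) := h4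
        _ = 9 * (Nat.card (E ⊓ centralizer (fx W e : Set X) : Subgroup X) *
          Nat.card (E ⊓ centralizer (Q' : Set X) : Subgroup X)) := by ring
        _ ≤ 9 * Nat.card E := Nat.mul_le_mul_left _ h3
    exact Nat.le_of_mul_le_mul_right h5 hpos
  have hE : Nat.card E = 9 := le_antisymm h9 hE9
  refine ⟨hE, ?_⟩
  -- at most four
  have hk4 : (QQ E W z).ncard ≤ 4 := by
    classical
    have hfin : (QQ E W z).Finite := Set.toFinite _
    let S : Finset (Subgroup X) := hfin.toFinset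
    let T : Subgroup X → Finset X := fun Q => (Set.toFinite ({a : X | a ∈ E ∧ a ∈ centralizer (Q : Set X) ∧ a ≠ 1})).toFinset
    have hT : ∀ Q ∈ S, 2 ≤ (T Q).card := by
      intro Q hQ
      have hQ2 : Q ∈ QQ E W z := by simpa [S] using hQ
      have h1 := QQ_ker h b hQ2
      rw [hE] at h1
      have h2 : insert (1 : X) {a : X | a ∈ E ∧ a ∈ centralizer (Q : Set X) ∧ a ≠ 1} =
          ((E ⊓ centralizer (Q : Set X) : Subgroup X) : Set X) := by
        ext a
        constructor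
        · rintro (rfl | ha)
          · exact one_mem _
          · exact mem_inf.mpr ⟨ha.1, ha.2.1⟩
        · intro ha
          by_cases ha1 : a = 1
          · exact Or.inl ha1
          · exact Or.inr ⟨(mem_inf.mp ha).1, (mem_inf.mp ha).2, ha1⟩
      have h3 : Nat.card (E ⊓ centralizer (Q : Set X) : Subgroup X) =
          ((E ⊓ centralizer (Q : Set X) : Subgroup X) : Set X).ncard := rfl
      rw [h3, ← h2, Set.ncard_insert_of_notMem (by simp) (Set.toFinite _)] at h1
      have h4 : (T Q).card = ({a : X | a ∈ E ∧ a ∈ centralizer (Q : Set X) ∧ a ≠ 1}).ncard :=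
        (Set.ncard_eq_toFinset_card _ (Set.toFinite _)).symm
      omega
    have hdisj : ∀ Q ∈ S, ∀ Q' ∈ S, Q ≠ Q' → Disjoint (T Q) (T Q') := by
      intro Q hQ Q' hQ' hne
      have hQ2 : Q ∈ QQ E W z := by simpa [S] using hQ
      have hQ2' : Q' ∈ QQ E W z := by simpa [S] using hQ'
      rw [Finset.disjoint_left]
      intro a ha ha'
      simp only [T, Set.Finite.mem_toFinset, Set.mem_ofPred_eq] at ha ha'
      exact ha.2.2 (ker_inf b hQ2 hQ2' hne ha.1 ha.2.1 ha'.2.1)
    have hcu : (S.biUnion T).card = ∑ Q ∈ S, (T Q).card := Finset.card_biUnion hdisj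
    have hle : (S.biUnion T).card ≤ 8 := by
      have hsub : S.biUnion T ⊆ (Set.toFinite ({a : X | a ∈ E ∧ a ≠ 1})).toFinset := by
        intro a ha
        rw [Finset.mem_biUnion] at ha
        obtain ⟨Q, -, ha⟩ := ha
        simp only [T, Set.Finite.mem_toFinset, Set.mem_ofPred_eq] at ha
        simp only [Set.Finite.mem_toFinset, Set.mem_ofPred_eq]
        exact ⟨ha.1, ha.2.2⟩
      refine (Finset.card_le_card hsub).trans ?_
      have h2 : insert (1 : X) {a : X | a ∈ E ∧ a ≠ 1} = (E : Set X) := by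
        ext a
        constructor
        · rintro (rfl | ha)
          · exact one_mem _
          · exact ha.1
        · intro ha
          by_cases ha1 : a = 1
          · exact Or.inl ha1
          · exact Or.inr ⟨ha, ha1⟩
      have h3 : Nat.card E = (E : Set X).ncard := rfl
      rw [h3, ← h2, Set.ncard_insert_of_notMem (by simp) (Set.toFinite _)] at hE
      rw [← Set.ncard_eq_toFinset_card]
      omega
    have hsum : S.card * 2 ≤ ∑ Q ∈ S, (T Q).card := by
      rw [← smul_eq_mul]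
      exact Finset.card_nsmul_le_sum S _ 2 hT
    have hS : S.card = (QQ E W z).ncard := (Set.ncard_eq_toFinset_card _ hfin).symm
    rw [← hS]
    omega
  have hk2' : 2 ≤ (QQ E W z).ncard := by
    have : ({fx W e, Q'} : Set (Subgroup X)).ncard = 2 := Set.ncard_pair hne.symm
    rw [← this]
    apply Set.ncard_le_ncard _ (Set.toFinite _)
    rintro Q (rfl | hQ)
    · exact hQ1
    · rw [Set.mem_singleton_iff] at hQ; rw [hQ]; exact hQ'
  generalize (QQ E W z).ncard = k at *
  rw [hcard]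
  interval_cases k <;> norm_num

/-- summary -/
theorem summary [Finite X] (h : Hyp p E W) : Nat.card E = 9 ∧
    (Nat.card W = 2 ^ 5 ∨ Nat.card W = 2 ^ 7 ∨ Nat.card W = 2 ^ 9) ∧
    ∃ z ∈ W, orderOf z = 2 ∧ (∀ e ∈ E, e * z = z * e) ∧ (∀ x ∈ W, (∀ e ∈ E, e * x = x * e) → x = 1 ∨ x = z) ∧
      (∀ x ∈ W, z * x = x * z) ∧ (∀ x ∈ W, (∀ y ∈ W, x * y = y * x) → x = 1 ∨ x = z) ∧
      (∀ x ∈ W, ∀ y ∈ W, ⁅x, y⁆ = 1 ∨ ⁅x, y⁆ = z) ∧ (∃ x ∈ W, ∃ y ∈ W, ⁅x, y⁆ ≠ 1) := by
  obtain ⟨hp3, z, b⟩ := h.base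
  obtain ⟨h1, h2⟩ := final h b hp3
  refine ⟨h1, h2, z, b.zW, b.z2, b.zE, b.fE, b.zc, ?_, ?_, ?_⟩
  · exact (main h b _ W ⟨le_rfl, b.zW, h.norm⟩ rfl).1
  · exact (main h b _ W ⟨le_rfl, b.zW, h.norm⟩ rfl).2.1
  · obtain ⟨e, he, he1, x, hx, hx1, hxz⟩ := b.ne
    by_contra hcon
    push Not at hcon
    have hcen := (main h b _ W ⟨le_rfl, b.zW, h.norm⟩ rfl).1 x (mem_fx.mp hx).1 (fun y hy =>
      commutatorElement_eq_one_iff_mul_comm.mp (hcon x (mem_fx.mp hx).1 y hy))
    rcases hcen with h | h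
    · exact hx1 h
    · exact hxz h

end H65.OneInv
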