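import Cfsg.Agent.Lib.H39.DA2

set_option autoImplicit false
set_option linter.unusedVariables false

/-! S3262, piece Q9b: the part on `Et ∩ x Et x⁻¹`. -/

namespace H65.Q9bPart

open MulAction H39.DA

universe u v

variable {G : Type u} {Ω : Type v} [Group G] [Finite G] [MulAction G Ω] [Finite Ω]

/-- a nontrivial element of `Et` centralizing `V` -/
theorem exists_e {a b : Ω} (hab : a ≠ b) {t : G} (ht : Inv t) (hts : t ∈ St G a b)
    {r k : ℕ} (hr : r.Prime) (hr2 : r ≠ 2) (hk : 1 ≤ k) (hrk : fx G Ω t = r ^ k)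
    (hV2 : ∀ g ∈ VV a b t, g * g = 1)
    (witt : ∀ c d c' d' : Ω, c ≠ d → c' ≠ d' → t • c = c → t • d = d → t • c' = c' → t • d' = d' →
      ∃ g : G, g * t = t * g ∧ g • c = c' ∧ g • d = d')
    (Et : Subgroup G) (h1 : Et ≤ Subgroup.centralizer ({t} : Set G)) (h2 : Nat.card Et = fx G Ω t)
    (h3 : ∀ g : G, g * t = t * g → ∀ e ∈ Et, g * e * g⁻¹ ∈ Et) (h5 : ∀ e ∈ Et, e ^ r = 1) :
    ∃ e ∈ Et, e ≠ 1 ∧ ∀ v ∈ VV a b t, v * e * v⁻¹ = e := by
  have hta : t • a = a := hts.1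
  have htb : t • b = b := hts.2
  have hcomm : ∀ e ∈ Et, e * t = t * e := fun e he =>
    (Subgroup.mem_centralizer_singleton_iff.1 (h1 he))
  have hfix : ∀ e ∈ Et, ∀ x : Ω, t • x = x → t • (e • x) = e • x := by
    intro e he x hx
    rw [← mul_smul, ← hcomm e he, mul_smul, hx]
  have hf1 : 1 < fx G Ω t := by
    rw [hrk]; exact Nat.one_lt_pow (by omega) hr.one_lt
  -- some element moves some fixed point
  have hmove : ∃ e ∈ Et, ∃ c : Ω, t • c = c ∧ e • c ≠ c := by
    by_contra hcon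
    push Not at hcon
    have h : Et = ⊥ := by
      rw [Subgroup.eq_bot_iff_forall]
      intro e he
      have hV : e ∈ VV a b t := by
        refine ⟨⟨?_, ?_⟩, ?_⟩
        · exact hcon e he a hta
        · exact hcon e he b htb
        · exact h1 he
      have h6 := hV2 e hV
      have h7 := h5 e he
      have h8 : orderOf e ∣ 2 := orderOf_dvd_of_pow_eq_one (by rw [pow_two]; exact h6)
      have h9 : orderOf e ∣ r := orderOf_dvd_of_pow_eq_one h7
      have h10 : (2 : ℕ).Coprime r := (Nat.coprime_primes Nat.prime_two hr).2 hr2.symm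
      have h11 := Nat.eq_one_of_dvd_coprimes h10 h8 h9
      exact orderOf_eq_one_iff.1 h11
    rw [h, Subgroup.card_bot] at h2
    omega
  obtain ⟨e0, he0, c, hc, hec⟩ := hmove
  have htrans : ∀ x y : Ω, t • x = x → t • y = y → ∃ e ∈ Et, e • x = y := by
    intro x y hx hy
    by_cases hxy : x = y
    · exact ⟨1, one_mem _, by rw [one_smul, hxy]⟩
    · obtain ⟨g, hgt, hgc, hgd⟩ := witt c (e0 • c) x y (Ne.symm hec) hxy hc (hfix e0 he0 c hc) hx hy
      refine ⟨g * e0 * g⁻¹, h3 g hgt e0 he0, ?_⟩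
      rw [mul_smul, mul_smul]
      have h6 : g⁻¹ • x = c := by rw [← hgc, inv_smul_smul]
      rw [h6, hgd]
  -- regularity
  let φ : Et → {x : Ω // t • x = x} := fun e => ⟨(e : G) • a, hfix e e.2 a hta⟩
  have hsurj : Function.Surjective φ := by
    rintro ⟨x, hx⟩
    obtain ⟨e, he, hea⟩ := htrans a x hta hx
    exact ⟨⟨e, he⟩, Subtype.ext hea⟩
  have hbij : Function.Bijective φ := hsurj.bijective_of_nat_card_le (by rw [h2]; rfl)
  obtain ⟨e, he, hea⟩ := htrans a b hta htb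
  refine ⟨e, he, ?_, ?_⟩
  · intro h; rw [h, one_smul] at hea; exact hab hea
  · intro v hv
    have hvt : v * t = t * v := Subgroup.mem_centralizer_singleton_iff.1 hv.2
    have hva : v • a = a := hv.1.1
    have hvb : v • b = b := hv.1.2
    have h6 : φ ⟨v * e * v⁻¹, h3 v hvt e he⟩ = φ ⟨e, he⟩ := by
      apply Subtype.ext
      change (v * e * v⁻¹) • a = e • a
      rw [mul_smul, mul_smul, inv_smul_eq_iff.2 hva.symm, hea, hvb]
    exact congrArg Subtype.val (hbij.1 h6)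

/-- `Et` contains all elements of order `r` of `C(t)` -/
theorem mem_Et {t : G} {r k : ℕ} (hr : r.Prime) (hr2 : r ≠ 2) (hk : 1 ≤ k)
    (hrk : fx G Ω t = r ^ k)
    (hL : Nat.card (Subgroup.centralizer ({t} : Set G)) = 4 * (fx G Ω t * (fx G Ω t - 1)))
    (Et : Subgroup G) (h1 : Et ≤ Subgroup.centralizer ({t} : Set G)) (h2 : Nat.card Et = fx G Ω t)
    (h3 : ∀ g : G, g * t = t * g → ∀ e ∈ Et, g * e * g⁻¹ ∈ Et)
    {g : G} (hg : g * t = t * g) (hgr : g ^ r = 1) : g ∈ Et := by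
  set L := Subgroup.centralizer ({t} : Set G) with hLdef
  have hgL : g ∈ L := Subgroup.mem_centralizer_singleton_iff.2 hg
  have hn : (Et.subgroupOf L).Normal := by
    constructor
    intro n hn x
    rw [Subgroup.mem_subgroupOf] at hn ⊢
    exact h3 x (Subgroup.mem_centralizer_singleton_iff.1 x.2) n hn
  have hcard : Nat.card (Et.subgroupOf L) = fx G Ω t := by
    rw [← h2]; exact Nat.card_congr (Subgroup.subgroupOfEquivOfLe h1).toEquiv
  have hf0 : 0 < fx G Ω t := by rw [hrk]; exact pow_pos hr.pos k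
  have hidx : (Et.subgroupOf L).index = 4 * (fx G Ω t - 1) := by
    have h6 := (Et.subgroupOf L).card_mul_index
    rw [hcard, hL] at h6
    have h7 : fx G Ω t * (Et.subgroupOf L).index = fx G Ω t * (4 * (fx G Ω t - 1)) := by
      rw [h6]; ring
    exact Nat.eq_of_mul_eq_mul_left hf0 h7
  have hcop : (Et.subgroupOf L).index.Coprime r := by
    rw [hidx]
    apply Nat.Coprime.symm
    rw [Nat.Prime.coprime_iff_not_dvd hr]
    intro hd
    rcases (Nat.Prime.dvd_mul hr).1 hd with h | h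
    · have h6 : r ∣ 2 ^ 2 := by simpa using h
      exact hr2 ((Nat.prime_dvd_prime_iff_eq hr Nat.prime_two).1 (hr.dvd_of_dvd_pow h6))
    · have h6 : r ∣ fx G Ω t := by rw [hrk]; exact dvd_pow_self r (by omega)
      have h7 : r ∣ 1 := by
        have h8 := Nat.dvd_sub h6 h
        have h9 : fx G Ω t - (fx G Ω t - 1) = 1 := by omega
        rwa [h9] at h8
      exact hr.one_lt.ne' (Nat.dvd_one.1 h7)
  set g' : L := ⟨g, hgL⟩ with hg'
  have ho : orderOf g' ∣ r := orderOf_dvd_of_pow_eq_one (Subtype.ext hgr)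
  obtain ⟨m, hm⟩ := exists_pow_eq_self_of_coprime (hcop.coprime_dvd_right ho)
  have h6 : g' ∈ Et.subgroupOf L := by
    rw [← hm]
    exact pow_mem (Subgroup.pow_index_mem (Et.subgroupOf L) g') m
  exact Subgroup.mem_subgroupOf.1 h6

theorem hr1 {a b : Ω} (hab : a ≠ b) {t : G} (ht : Inv t) (hts : t ∈ St G a b)
    {r k : ℕ} (hr : r.Prime) (hr2 : r ≠ 2) (hk : 1 ≤ k) (hrk : fx G Ω t = r ^ k)
    (hL : Nat.card (Subgroup.centralizer ({t} : Set G)) = 4 * (fx G Ω t * (fx G Ω t - 1)))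
    (hV2 : ∀ g ∈ VV a b t, g * g = 1)
    (witt : ∀ c d c' d' : Ω, c ≠ d → c' ≠ d' → t • c = c → t • d = d → t • c' = c' → t • d' = d' →
      ∃ g : G, g * t = t * g ∧ g • c = c' ∧ g • d = d')
    (Et : Subgroup G) (h1 : Et ≤ Subgroup.centralizer ({t} : Set G)) (h2 : Nat.card Et = fx G Ω t)
    (h3 : ∀ g : G, g * t = t * g → ∀ e ∈ Et, g * e * g⁻¹ ∈ Et) (h5 : ∀ e ∈ Et, e ^ r = 1)
    (h7 : ∀ g : G, g * t = t * g → Odd (orderOf g) → ∀ e ∈ Et, e ≠ 1 → g * e = e * g → g ∈ Et)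
    {s : G} (hs : s ∈ VV a b t) {x : G} (hx : x * t * x⁻¹ = s)
    (y : G) (hy : Odd (orderOf y)) (hye : ∀ e ∈ Et, y * e = e * y) (hys : y * s = s * y) :
    y ^ r = 1 := by
  obtain ⟨e, he, he1, hev⟩ := exists_e hab ht hts hr hr2 hk hrk hV2 witt Et h1 h2 h3 h5
  have hes : s * e = e * s := by
    have h6 := hev s hs
    calc s * e = s * e * s⁻¹ * s := by group
      _ = e * s := by rw [h6]
  have key : ∀ w : G, w * s = s * w → (x⁻¹ * w * x) * t = t * (x⁻¹ * w * x) := by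
    intro w hw
    have h6 : t = x⁻¹ * s * x := by rw [← hx]; group
    rw [h6]
    calc x⁻¹ * w * x * (x⁻¹ * s * x) = x⁻¹ * (w * s) * x := by group
      _ = x⁻¹ * (s * w) * x := by rw [hw]
      _ = _ := by group
  have hconj : ∀ w : G, ∀ n : ℕ, (x⁻¹ * w * x) ^ n = x⁻¹ * w ^ n * x := by
    intro w n
    have := conj_pow (i := n) (a := x⁻¹) (b := w)
    rw [inv_inv] at this
    exact this
  have he' : x⁻¹ * e * x ∈ Et := by
    apply mem_Et hr hr2 hk hrk hL Et h1 h2 h3 (key e hes.symm)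
    rw [hconj, h5 e he, mul_one, inv_mul_cancel]
  have he1' : x⁻¹ * e * x ≠ 1 := by
    intro h
    apply he1
    have h6 : e = x * (x⁻¹ * e * x) * x⁻¹ := by group
    rw [h6, h, mul_one, mul_inv_cancel]
  have hy' : x⁻¹ * y * x ∈ Et := by
    apply h7 _ (key y hys) ?_ _ he' he1'
    · calc x⁻¹ * y * x * (x⁻¹ * e * x) = x⁻¹ * (y * e) * x := by group
        _ = x⁻¹ * (e * y) * x := by rw [hye e he]
        _ = _ := by group
    · have h6 : orderOf (x⁻¹ * y * x) = orderOf y := by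
        have := MulEquiv.orderOf_eq (MulAut.conj x⁻¹) y
        rwa [MulAut.conj_apply, inv_inv] at this
      rw [h6]; exact hy
  have h8 := h5 _ hy'
  rw [hconj] at h8
  have h9 : y ^ r = x * (x⁻¹ * y ^ r * x) * x⁻¹ := by group
  rw [h9, h8, mul_one, mul_inv_cancel]

end H65.Q9bPart
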