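import Cfsg.Agent.Lib.H65.CycSC3
import Cfsg.Agent.Lib.H3.Critical
import Cfsg.Agent.Lib.H3.ExtraspecialHom

set_option autoImplicit false
set_option linter.style.haveILetI false
set_option linter.unusedSectionVars false
set_option linter.unusedVariables false

/-! `p`-groups of symplectic type. -/

namespace H65.SympType

open Subgroup Cfsg H65.CycSC H65.CycSC2
open scoped commutatorElement

variable {G : Type*} [Group G] [Finite G] {p n : ℕ} [hpf : Fact p.Prime] {u : G}

theorem mem_of_ne_one (ho : orderOf u = p ^ n) (hn : 1 ≤ n) {x : G} (hx : x ∈ zpowers u) (hx1 : x ≠ 1) :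
    u ^ (p ^ (n - 1)) ∈ zpowers x := by
  obtain ⟨a, rfl⟩ := (mem_powers_iff_mem_zpowers).mpr hx
  have ha : a ≠ 0 := by rintro rfl; exact hx1 (pow_zero u)
  obtain ⟨k, a', ha', rfl⟩ := Nat.exists_eq_pow_mul_and_not_dvd ha p hpf.out.ne_one
  have hk : k < n := by
    by_contra hcon
    apply hx1
    show u ^ (p ^ k * a') = 1
    rw [← orderOf_dvd_iff_pow_eq_one, ho]
    exact Dvd.dvd.mul_right (pow_dvd_pow p (by omega)) _
  set z := u ^ (p ^ (n - 1)) with hz
  have hoz : orderOf z ∣ p := by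
    apply orderOf_dvd_of_pow_eq_one
    rw [hz, ← pow_mul, ← pow_succ]
    have : n - 1 + 1 = n := by omega
    rw [this, ← ho, pow_orderOf_eq_one]
  have hcop : a'.Coprime (orderOf z) :=
    Nat.Coprime.coprime_dvd_right hoz ((Nat.Prime.coprime_iff_not_dvd hpf.out).mpr ha').symm
  obtain ⟨m, hm⟩ := exists_pow_eq_self_of_coprime hcop
  have h1 : (u ^ (p ^ k * a')) ^ (p ^ (n - 1 - k)) = z ^ a' := by
    rw [← pow_mul, hz, ← pow_mul]
    congr 1
    have : p ^ (n - 1) = p ^ k * p ^ (n - 1 - k) := by rw [← pow_add]; congr 1; omega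
    rw [this]; ring
  rw [← hm, ← h1]
  exact pow_mem (pow_mem (mem_zpowers _) _) _

/-- elements of order `p` of a cyclic `p`-group -/
theorem mem_zpowers_of_cyclic {A : Subgroup G} (hA : IsCyclic A) (hAp : IsPGroup p A) {x y : G} (hx : x ∈ A)
    (hy : y ∈ A) (hxp : x ^ p = 1) (hy1 : y ≠ 1) : x ∈ zpowers y := by
  by_cases hx1 : x = 1
  · rw [hx1]; exact one_mem _
  obtain ⟨⟨w, hw⟩, hgen⟩ := hA
  have hAw : ∀ v ∈ A, v ∈ zpowers w := by
    intro v hv
    obtain ⟨i, hi⟩ := hgen ⟨v, hv⟩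
    exact ⟨i, congrArg Subtype.val hi⟩
  obtain ⟨m, hm⟩ := IsPGroup.iff_orderOf.mp hAp ⟨w, hw⟩
  have ho : orderOf w = p ^ m := by rw [← hm, orderOf_mk]
  have hm1 : 1 ≤ m := by
    rcases Nat.eq_zero_or_pos m with h | h
    · exfalso
      rw [h, pow_zero, orderOf_eq_one_iff] at ho
      have := hAw x hx
      rw [ho, zpowers_one_eq_bot, mem_bot] at this
      exact hx1 this
    · exact h
  have h1 := mem_of_ne_one ho hm1 (hAw x hx) hx1
  have h2 := mem_of_ne_one ho hm1 (hAw y hy) hy1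
  have h3 : zpowers (w ^ (p ^ (m - 1))) = zpowers x := by
    apply Subgroup.eq_of_le_of_card_ge (zpowers_le.mpr h1)
    rw [Nat.card_zpowers, Nat.card_zpowers]
    have h4 : orderOf x ∣ p := orderOf_dvd_of_pow_eq_one hxp
    have h5 : orderOf (w ^ (p ^ (m - 1))) ≠ 1 := by
      rw [Ne, orderOf_eq_one_iff, ← orderOf_dvd_iff_pow_eq_one, ho]
      intro h6
      have := (Nat.pow_dvd_pow_iff_le_right hpf.out.one_lt).mp h6
      omega
    have h6 : orderOf (w ^ (p ^ (m - 1))) ∣ p := by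
      apply orderOf_dvd_of_pow_eq_one
      rw [← pow_mul, ← pow_succ]
      have : m - 1 + 1 = m := by omega
      rw [this, ← ho, pow_orderOf_eq_one]
    rw [((Nat.dvd_prime hpf.out).mp h6).resolve_left h5]
    exact Nat.le_of_dvd hpf.out.pos h4
  exact (zpowers_le.mpr h2) (h3 ▸ mem_zpowers x)

/-- the critical subgroup -/
structure Setup (p n : ℕ) (H : Subgroup G) (u : G) : Prop where
  hG : IsPGroup p G
  symp : ∀ A : Subgroup G, A.Characteristic → IsMulCommutative A → IsCyclic A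
  char : H.Characteristic
  pow : ∀ x ∈ H, x ^ p ∈ zpowers u
  comm : ∀ x ∈ H, ∀ g : G, ⁅x, g⁆ ∈ zpowers u
  cent : ∀ g : G, (∀ x ∈ H, g * x = x * g) → g ∈ zpowers u
  uH : u ∈ H
  uc : ∀ x ∈ H, u * x = x * u
  o : orderOf u = p ^ n
  n1 : 1 ≤ n

variable {H : Subgroup G}

theorem Setup.zpow_iff (h : Setup p n H u) (a : ℤ) : u ^ a = 1 ↔ ((p : ℤ) ^ n) ∣ a := by
  rw [← orderOf_dvd_iff_zpow_eq_one, h.o]; push_cast; rfl

theorem Setup.comm_z (h : Setup p n H u) {w : G} (hw : w ∈ zpowers u) {x : G} (hx : x ∈ H) : w * x = x * w := by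
  obtain ⟨i, rfl⟩ := mem_zpowers_iff.mp hw
  exact ((show Commute u x from h.uc x hx).zpow_left i).eq

/-- elements of `⟨u⟩` of order dividing `p` -/
theorem Setup.mem_z (h : Setup p n H u) {w : G} (hw : w ∈ zpowers u) (hwp : w ^ p = 1) :
    w ∈ zpowers (u ^ (p ^ (n - 1))) := by
  obtain ⟨a, rfl⟩ := mem_zpowers_iff.mp hw
  rw [← zpow_natCast, ← zpow_mul, h.zpow_iff, ppow h.n1] at hwp
  obtain ⟨b, rfl⟩ := Int.dvd_of_mul_dvd_mul_right int_p_ne hwp
  refine ⟨b, ?_⟩
  show (u ^ (p ^ (n - 1))) ^ b = _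
  rw [zpow_mul, ← zpow_natCast u]
  push_cast; rfl

theorem Setup.z_ne (h : Setup p n H u) : u ^ (p ^ (n - 1)) ≠ 1 := by
  rw [Ne, ← orderOf_dvd_iff_pow_eq_one, h.o]
  intro h6
  have := (Nat.pow_dvd_pow_iff_le_right hpf.out.one_lt).mp h6
  have := h.n1
  omega

theorem Setup.z_pow (h : Setup p n H u) : (u ^ (p ^ (n - 1))) ^ p = 1 := by
  rw [← pow_mul, ← pow_succ]
  have : n - 1 + 1 = n := by have := h.n1; omega
  rw [this, ← h.o, pow_orderOf_eq_one]

theorem Setup.orderOf_z (h : Setup p n H u) : orderOf (u ^ (p ^ (n - 1))) = p :=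
  ((Nat.dvd_prime hpf.out).mp (orderOf_dvd_of_pow_eq_one h.z_pow)).resolve_left
    (fun h1 => h.z_ne (orderOf_eq_one_iff.mp h1))

theorem Setup.zpowers_normal (h : Setup p n H u) (g : G) {w : G} (hw : w ∈ zpowers u) : g * w * g⁻¹ ∈ zpowers u := by
  obtain ⟨i, rfl⟩ := mem_zpowers_iff.mp hw
  have h1 : g * u ^ i * g⁻¹ = ⁅g, u ^ i⁆ * u ^ i := by rw [commutatorElement_def]; group
  rw [h1]
  refine mul_mem ?_ (zpow_mem (mem_zpowers u) i)
  rw [← commutatorElement_inv]
  exact inv_mem (h.comm _ (zpow_mem h.uH i) g)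

theorem Setup.z_central (h : Setup p n H u) (g : G) : g * u ^ (p ^ (n - 1)) = u ^ (p ^ (n - 1)) * g := by
  haveI : Nontrivial G := ⟨⟨_, _, h.z_ne⟩⟩
  have h2 := h.hG.center_nontrivial
  obtain ⟨y, hy⟩ := (nontrivial_iff_exists_ne (1 : center G)).mp h2
  have hyu : (y : G) ∈ zpowers u := h.cent _ fun x _ => (Subgroup.mem_center_iff.mp y.2 x).symm
  have h3 := mem_of_ne_one h.o h.n1 hyu (fun h => hy (Subtype.ext h))
  obtain ⟨i, hi⟩ := mem_zpowers_iff.mp h3
  rw [← hi]
  exact ((show Commute g (y : G) from Subgroup.mem_center_iff.mp y.2 g).zpow_right i).eq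

theorem Setup.z_central' (h : Setup p n H u) (g : G) {w : G} (hw : w ∈ zpowers (u ^ (p ^ (n - 1)))) :
    g * w = w * g := by
  obtain ⟨i, rfl⟩ := mem_zpowers_iff.mp hw
  exact ((show Commute g (u ^ (p ^ (n - 1))) from h.z_central g).zpow_right i).eq

theorem Setup.z_mem (h : Setup p n H u) {w : G} (hw : w ∈ zpowers (u ^ (p ^ (n - 1)))) : w ∈ zpowers u :=
  (zpowers_le.mpr (pow_mem (mem_zpowers u) _)) hw

/-- commutators in `H` -/
theorem Setup.commH (h : Setup p n H u) {x y : G} (hx : x ∈ H) (hy : y ∈ H) :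
    ⁅x, y⁆ ∈ zpowers (u ^ (p ^ (n - 1))) := by
  have h1 := h.comm x hx y
  apply h.mem_z h1
  have h2 : Commute x ⁅x, y⁆ := (h.comm_z h1 hx).symm
  rw [← H3.ClassTwo.comm_pow_left h2, commutatorElement_eq_one_iff_mul_comm]
  exact h.comm_z (h.pow x hx) hy

theorem Setup.mul_pow (h : Setup p n H u) {x y : G} (hx : x ∈ H) (hy : y ∈ H) (m : ℕ) :
    (x * y) ^ m = x ^ m * y ^ m * ⁅y, x⁆ ^ (m.choose 2) := by
  have h1 := h.comm y hy x
  exact H3.ClassTwo.mul_pow_eq (h.comm_z h1 hx) (h.comm_z h1 hy) m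

theorem Setup.mul_pow_odd (h : Setup p n H u) (hp : p ≠ 2) {x y : G} (hx : x ∈ H) (hy : y ∈ H) :
    (x * y) ^ p = x ^ p * y ^ p := by
  rw [h.mul_pow hx hy]
  obtain ⟨i, hi⟩ := mem_zpowers_iff.mp (h.commH hy hx)
  have h2 : p ∣ p.choose 2 := by
    apply hpf.out.dvd_choose_self (by norm_num)
    have := hpf.out.two_le
    omega
  obtain ⟨d, hd⟩ := h2
  have h3 : ⁅y, x⁆ ^ (p.choose 2) = 1 := by
    have h4 : ((u ^ p ^ (n - 1)) ^ i) ^ p = 1 := by
      rw [← zpow_natCast ((u ^ p ^ (n - 1)) ^ i), zpow_comm, zpow_natCast, h.z_pow, one_zpow]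
    rw [← hi, hd, pow_mul, h4, one_pow]
  rw [h3, mul_one]

/-- the outcome of the first step -/
structure ES (p n : ℕ) (H : Subgroup G) (u : G) (E : Subgroup G) : Prop where
  le : E ≤ H
  z : u ^ (p ^ (n - 1)) ∈ E
  cen : ∀ x ∈ E, (∀ y ∈ E, x * y = y * x) → x ∈ zpowers (u ^ (p ^ (n - 1)))
  pow : ∀ x ∈ E, x ^ p ∈ zpowers (u ^ (p ^ (n - 1)))
  q : ∀ x ∈ E, (p ≠ 2 → x ^ p = 1) ∧ (p = 2 → x ^ 4 = 1)

variable {E : Subgroup G}

/-- `[G, E] ≤ ⟨z⟩` -/
theorem ES.comm (h : Setup p n H u) (hE : ES p n H u E) {g e : G} (he : e ∈ E) :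
    ⁅g, e⁆ ∈ zpowers (u ^ (p ^ (n - 1))) := by
  have h1 : ⁅g, e⁆ ∈ zpowers u := by
    rw [← commutatorElement_inv]
    exact inv_mem (h.comm e (hE.le he) g)
  apply h.mem_z h1
  have h2 : g * e * g⁻¹ = ⁅g, e⁆ * e := by rw [commutatorElement_def]; group
  have h3 : Commute ⁅g, e⁆ e := h.comm_z h1 (hE.le he)
  have h4 : g * e ^ p * g⁻¹ = ⁅g, e⁆ ^ p * e ^ p := by rw [← conj_pow, h2, h3.mul_pow]
  rw [h.z_central' g (hE.pow e he), mul_inv_cancel_right] at h4
  exact (mul_eq_right.mp h4.symm)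

theorem ES.eq_or (h : Setup p n H u) (hE : ES p n H u E) : E = zpowers (u ^ (p ^ (n - 1))) ∨ IsExtraspecial p E := by
  by_cases hne : ∀ a b : E, ⁅a, b⁆ = 1
  · left
    apply le_antisymm
    · intro x hx
      apply hE.cen x hx
      intro y hy
      have := hne ⟨x, hx⟩ ⟨y, hy⟩
      rw [commutatorElement_eq_one_iff_mul_comm] at this
      exact congrArg Subtype.val this
    · rw [zpowers_le]; exact hE.z
  · right
    push Not at hne
    have hc : (center E).map E.subtype = zpowers (u ^ (p ^ (n - 1))) := by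
      apply le_antisymm
      · rintro _ ⟨x, hx, rfl⟩
        apply hE.cen x x.2
        intro y hy
        exact congrArg Subtype.val (Subgroup.mem_center_iff.mp hx ⟨y, hy⟩).symm
      · rw [zpowers_le]
        refine ⟨⟨_, hE.z⟩, ?_, rfl⟩
        rw [SetLike.mem_coe, Subgroup.mem_center_iff]
        intro y
        exact Subtype.ext (h.z_central y)
    apply H3.Extraspecial.isExtraspecial_of _ _ hne
    · rw [commutator_eq_closure, Subgroup.closure_le]
      rintro _ ⟨a, b, rfl⟩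
      have h1 : ((⁅a, b⁆ : E) : G) ∈ (center E).map E.subtype := by
        rw [hc]
        exact ES.comm h hE b.2
      obtain ⟨y, hy, hyx⟩ := h1
      have : y = ⁅a, b⁆ := Subtype.ext hyx
      rwa [← this]
    · rw [← Subgroup.card_map_of_injective E.subtype_injective, hc, Nat.card_zpowers, h.orderOf_z]

/-- `G = E C_G(E)` -/
theorem ES.decomp (h : Setup p n H u) (hE : ES p n H u E) (g : G) :
    ∃ e ∈ E, ∀ y ∈ E, (e⁻¹ * g) * y = y * (e⁻¹ * g) := by
  rcases ES.eq_or h hE with h1 | h1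
  · refine ⟨1, one_mem _, fun y hy => ?_⟩
    rw [h1] at hy
    exact h.z_central' _ hy
  · have h2 := H3.ExtraspecialHom.sup_centralizer_eq_top E h1 (by
      rw [commutator_le]
      intro g _ e he
      have h3 := ES.comm h hE (g := g) he
      refine mem_inf.mpr ⟨(zpowers_le.mpr hE.z) h3, ?_⟩
      rw [mem_centralizer_iff]
      intro y _
      exact h.z_central' y h3)
    have h3 : g ∈ E ⊔ centralizer (E : Set G) := by rw [h2]; exact mem_top g
    have hn : centralizer (E : Set G) ≤ normalizer (E : Set G) := centralizer_le_normalizer _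
    rw [sup_comm, ← SetLike.mem_coe, coe_mul_of_left_le_normalizer_right _ _ hn, Set.mem_mul] at h3
    obtain ⟨c, hc, e, he, rfl⟩ := h3
    have hce : c * e = e * c := (mem_centralizer_iff.mp hc e he).symm
    refine ⟨e, he, fun y hy => ?_⟩
    have : e⁻¹ * (c * e) = c := by rw [hce]; group
    rw [this]
    exact (mem_centralizer_iff.mp hc y hy).symm

/-- the criterion for `C_H(E) = ⟨u⟩` -/
theorem ES.hD_of (h : Setup p n H u) (hE : ES p n H u E) (hpn : p ≠ 2 ∨ 2 ≤ n)
    (hK : ∀ x ∈ H, (∀ y ∈ E, x * y = y * x) → x ^ p ∈ zpowers (u ^ p) → x ∈ zpowers u) :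
    ∀ x ∈ H, (∀ y ∈ E, x * y = y * x) → x ∈ zpowers u := by
  have habel : ∀ x ∈ H, (∀ y ∈ E, x * y = y * x) → ∀ y ∈ H, (∀ e ∈ E, y * e = e * y) → x * y = y * x := by
    intro x hx hxE y hy hyE
    by_cases hxu : x ∈ zpowers u
    · exact h.comm_z hxu hy
    obtain ⟨a, ha⟩ := mem_zpowers_iff.mp (h.pow x hx)
    obtain ⟨b, hb⟩ := mem_zpowers_iff.mp (h.pow y hy)
    have hpa : ¬ (p : ℤ) ∣ a := by
      rintro ⟨a', rfl⟩
      apply hxu
      apply hK x hx hxE
      rw [← ha, zpow_mul, zpow_natCast]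
      exact zpow_mem (mem_zpowers _) _
    have hcop : IsCoprime a (p : ℤ) := by
      have := (Nat.Prime.coprime_iff_not_dvd hpf.out (n := a.natAbs)).mpr
        (fun h => hpa (Int.natCast_dvd.mpr h))
      rw [Int.isCoprime_iff_gcd_eq_one, Int.gcd_comm]
      exact this
    obtain ⟨c, d, hcd⟩ := hcop
    -- `i = b c`
    set i : ℤ := b * c with hi
    have hmem : y * x ^ (-i) ∈ zpowers u := by
      have hxi : x ^ (-i) ∈ H := zpow_mem hx _
      apply hK _ (mul_mem hy hxi)
      · intro e he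
        have e1 : Commute y e := hyE e he
        have e2 : Commute (x ^ (-i)) e := (show Commute x e from hxE e he).zpow_left _
        exact (e1.mul_left e2).eq
      · rw [h.mul_pow hy hxi]
        have hxp : (x ^ (-i)) ^ p = u ^ (a * (-i)) := by
          rw [← zpow_natCast, ← zpow_mul, mul_comm (-i), zpow_mul, zpow_natCast, ← ha, ← zpow_mul]
        rw [hxp, ← hb, ← zpow_add]
        refine mul_mem ?_ ?_
        · have h1 : b + a * (-i) = p * (b * d) := by
            rw [hi]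
            have : c * a = 1 - d * p := by linarith
            calc b + a * (-(b * c)) = b - b * (c * a) := by ring
              _ = _ := by rw [this]; ring
          rw [h1, zpow_mul, zpow_natCast]
          exact zpow_mem (mem_zpowers _) _
        · rcases hpn with hp | hn
          · obtain ⟨l, hl⟩ := mem_zpowers_iff.mp (h.commH hxi hy)
            have h2 : p ∣ p.choose 2 := by
              apply hpf.out.dvd_choose_self (by norm_num)
              have := hpf.out.two_le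
              omega
            obtain ⟨f, hf⟩ := h2
            have h3 : ⁅x ^ (-i), y⁆ ^ (p.choose 2) = 1 := by
              have h4 : ((u ^ p ^ (n - 1)) ^ l) ^ p = 1 := by
                rw [← zpow_natCast ((u ^ p ^ (n - 1)) ^ l), zpow_comm, zpow_natCast, h.z_pow, one_zpow]
              rw [← hl, hf, pow_mul, h4, one_pow]
            rw [h3]; exact one_mem _
          · apply pow_mem
            refine (zpowers_le.mpr ?_) (h.commH hxi hy)
            have h4 : p ^ (n - 1) = p * p ^ (n - 2) := by rw [← pow_succ']; congr 1; omega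
            rw [h4, pow_mul]
            exact pow_mem (mem_zpowers _) _
    have h5 : y = (y * x ^ (-i)) * x ^ i := by group
    rw [h5]
    have e1 : Commute x (y * x ^ (-i)) := (h.comm_z hmem hx).symm
    exact (e1.mul_right ((Commute.refl x).zpow_right i)).eq
  intro x hx hxE
  apply h.cent
  intro w hw
  obtain ⟨e, he, hec⟩ := ES.decomp h hE w
  have h1 : x * (e⁻¹ * w) = (e⁻¹ * w) * x := habel x hx hxE _ (mul_mem (inv_mem (hE.le he)) hw) hec
  have h2 : w = e * (e⁻¹ * w) := by group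
  rw [h2]
  exact ((show Commute x e from hxE e he).mul_right h1).eq

end H65.SympType
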