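import Cfsg.Agent.Lib.H65.SympType

set_option autoImplicit false
set_option linter.style.haveILetI false
set_option linter.unusedSectionVars false
set_option linter.unusedVariables false

/-! `p`-groups of symplectic type: the critical subgroup and the extraspecial factor. -/

namespace H65.SympType

open Subgroup Cfsg H65.CycSC H65.CycSC2
open scoped commutatorElement

theorem char_of {G : Type*} [Group G] {K : Subgroup G} (h : ∀ φ : G ≃* G, ∀ x ∈ K, φ x ∈ K) : K.Characteristic := by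
  rw [Subgroup.characteristic_iff_le_comap]
  intro φ x hx
  exact h φ x hx

theorem char_mem {G : Type*} [Group G] {K : Subgroup G} (hK : K.Characteristic) (φ : G ≃* G) {x : G} (hx : x ∈ K) :
    φ x ∈ K := by
  rw [Subgroup.characteristic_iff_le_comap] at hK
  exact hK φ hx

theorem char_cent {G : Type*} [Group G] {K : Subgroup G} (hK : K.Characteristic) :
    (centralizer (K : Set G)).Characteristic := by
  apply char_of
  intro φ x hx
  rw [mem_centralizer_iff] at hx ⊢
  intro y hy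
  have h1 : φ.symm y ∈ K := char_mem hK φ.symm hy
  have h2 := congrArg φ (hx _ h1)
  rwa [map_mul, map_mul, MulEquiv.apply_symm_apply] at h2

theorem abel_inf_cent {G : Type*} [Group G] (K : Subgroup G) :
    IsMulCommutative (K ⊓ centralizer (K : Set G) : Subgroup G) := by
  refine ⟨⟨fun a b => Subtype.ext ?_⟩⟩
  exact (mem_centralizer_iff.mp b.2.2 a a.2.1)

variable {G : Type*} [Group G] [Finite G] {p n : ℕ} [hpf : Fact p.Prime] {u : G} {H E : Subgroup G}

theorem exists_setup [Nontrivial G] (hG : IsPGroup p G)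
    (hsymp : ∀ A : Subgroup G, A.Characteristic → IsMulCommutative A → IsCyclic A) :
    ∃ (n : ℕ) (H : Subgroup G) (u : G), Setup p n H u := by
  obtain ⟨H, hH, h1, h2, h3⟩ := H3.Critical.exists_critical (p := p) hG
  have hZc : (H ⊓ centralizer (H : Set G)).Characteristic := by
    haveI := hH
    haveI := char_cent hH
    infer_instance
  obtain ⟨⟨u, hu⟩, hgen⟩ := hsymp _ hZc (abel_inf_cent H)
  have hZ : ∀ x ∈ H ⊓ centralizer (H : Set G), x ∈ zpowers u := by
    intro x hx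
    obtain ⟨i, hi⟩ := hgen ⟨x, hx⟩
    exact ⟨i, congrArg Subtype.val hi⟩
  obtain ⟨n, hn⟩ := IsPGroup.iff_orderOf.mp hG u
  have hcent : ∀ g : G, (∀ x ∈ H, g * x = x * g) → g ∈ zpowers u := by
    intro g hg
    have h4 : g ∈ centralizer (H : Set G) := by
      rw [mem_centralizer_iff]; intro x hx; exact (hg x hx).symm
    exact hZ g ⟨h3 h4, h4⟩
  refine ⟨n, H, u, hG, hsymp, hH, fun x hx => hZ _ (h1 x hx), fun x hx g => hZ _ (h2 x hx g), hcent, hu.1,
    fun x hx => (mem_centralizer_iff.mp hu.2 x hx).symm, hn, ?_⟩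
  rcases Nat.eq_zero_or_pos n with h4 | h4
  · exfalso
    rw [h4, pow_zero, orderOf_eq_one_iff] at hn
    have h5 := hG.center_nontrivial
    obtain ⟨y, hy⟩ := (nontrivial_iff_exists_ne (1 : center G)).mp h5
    have hyu : (y : G) ∈ zpowers u := hcent _ fun x _ => (Subgroup.mem_center_iff.mp y.2 x).symm
    rw [hn, zpowers_one_eq_bot, mem_bot] at hyu
    exact hy (Subtype.ext hyu)
  · exact h4

/-- `⟨u⟩` is characteristic -/
theorem Setup.u_char (h : Setup p n H u) (φ : G ≃* G) {w : G} (hw : w ∈ zpowers u) : φ w ∈ zpowers u := by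
  obtain ⟨i, rfl⟩ := mem_zpowers_iff.mp hw
  rw [map_zpow]
  refine zpow_mem (h.cent _ fun x hx => ?_) i
  have h1 : φ.symm x ∈ H := char_mem h.char φ.symm hx
  have h2 := congrArg φ (h.uc _ h1)
  rwa [map_mul, map_mul, MulEquiv.apply_symm_apply] at h2

theorem Setup.z_char (h : Setup p n H u) (φ : G ≃* G) {w : G} (hw : w ∈ zpowers (u ^ (p ^ (n - 1)))) :
    φ w ∈ zpowers (u ^ (p ^ (n - 1))) := by
  apply h.mem_z (h.u_char φ (h.z_mem hw))
  obtain ⟨i, rfl⟩ := mem_zpowers_iff.mp hw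
  rw [← map_pow, ← zpow_natCast, zpow_comm, zpow_natCast, h.z_pow, one_zpow, map_one]

theorem Setup.zH (h : Setup p n H u) {w : G} (hw : w ∈ zpowers (u ^ (p ^ (n - 1)))) : w ∈ H :=
  (zpowers_le.mpr h.uH) (h.z_mem hw)

theorem Setup.inf_cyclic (h : Setup p n H u) {K : Subgroup G} (hK : K.Characteristic) :
    IsCyclic (K ⊓ centralizer (K : Set G) : Subgroup G) := by
  apply h.symp _ _ (abel_inf_cent K)
  haveI := hK
  haveI := char_cent hK
  infer_instance

/-- the extraspecial factor, `p` odd -/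
theorem exists_E_odd (h : Setup p n H u) (hp : p ≠ 2) :
    ∃ E : Subgroup G, ES p n H u E ∧ ∀ x ∈ H, (∀ y ∈ E, x * y = y * x) → x ∈ zpowers u := by
  have hone : 1 ^ p = (1 : G) := one_pow p
  let E : Subgroup G :=
    { carrier := {x | x ∈ H ∧ x ^ p = 1}
      mul_mem' := by
        rintro a b ⟨ha, ha'⟩ ⟨hb, hb'⟩
        refine ⟨mul_mem ha hb, ?_⟩
        rw [h.mul_pow_odd hp ha hb, ha', hb', one_mul]
      one_mem' := ⟨one_mem _, one_pow p⟩
      inv_mem' := by
        rintro a ⟨ha, ha'⟩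
        refine ⟨inv_mem ha, ?_⟩
        rw [inv_pow, ha', inv_one] }
  have hmem : ∀ x, x ∈ E ↔ x ∈ H ∧ x ^ p = 1 := fun x => Iff.rfl
  have hEc : E.Characteristic := by
    apply char_of
    intro φ x hx
    exact ⟨char_mem h.char φ hx.1, by rw [← map_pow, hx.2, map_one]⟩
  have hcyc := h.inf_cyclic hEc
  have hz : u ^ (p ^ (n - 1)) ∈ E := ⟨pow_mem h.uH _, h.z_pow⟩
  have hzC : u ^ (p ^ (n - 1)) ∈ E ⊓ centralizer (E : Set G) := by
    refine ⟨hz, ?_⟩
    refine mem_centralizer_iff.mpr ?_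
    intro y _
    exact h.z_central y
  have hcen : ∀ x ∈ E, (∀ y ∈ E, x * y = y * x) → x ∈ zpowers (u ^ (p ^ (n - 1))) := by
    intro x hx hxE
    apply mem_zpowers_of_cyclic hcyc (h.hG.to_subgroup _) _ hzC hx.2 h.z_ne
    refine ⟨hx, ?_⟩
    refine mem_centralizer_iff.mpr ?_
    intro y hy
    exact (hxE y hy).symm
  have hES : ES p n H u E := by
    refine ⟨fun x hx => hx.1, hz, hcen, fun x hx => ?_, fun x hx => ⟨fun _ => hx.2, fun h2 => absurd h2 hp⟩⟩
    rw [hx.2]; exact one_mem _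
  refine ⟨E, hES, ES.hD_of h hES (Or.inl hp) ?_⟩
  intro x hx hxE hxp
  obtain ⟨b, hb⟩ := mem_zpowers_iff.mp hxp
  have hub : u ^ (-b) ∈ H := zpow_mem h.uH _
  have hcx : Commute x (u ^ (-b)) := (h.comm_z (zpow_mem (mem_zpowers u) _) hx).symm
  have hw : x * u ^ (-b) ∈ E := by
    refine ⟨mul_mem hx hub, ?_⟩
    rw [hcx.mul_pow, ← hb, ← zpow_natCast (u ^ (-b)), ← zpow_natCast u, ← zpow_mul, ← zpow_mul, ← zpow_add]
    have : (p : ℤ) * b + -b * p = 0 := by ring
    rw [this, zpow_zero]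
  have h1 : x * u ^ (-b) ∈ zpowers u := by
    apply h.z_mem
    apply hcen _ hw
    intro y hy
    exact ((show Commute x y from hxE y hy).mul_left
      (show Commute (u ^ (-b)) y from h.comm_z (zpow_mem (mem_zpowers u) _) hy.1)).eq
  have h2 : x = (x * u ^ (-b)) * u ^ b := by group
  rw [h2]
  exact mul_mem h1 (zpow_mem (mem_zpowers u) _)

/-- the extraspecial factor, `p = 2`, `n = 1` -/
theorem exists_E_one {u : G} {H : Subgroup G} (h : Setup 2 1 H u) :
    ∃ E : Subgroup G, ES 2 1 H u E ∧ ∀ x ∈ H, (∀ y ∈ E, x * y = y * x) → x ∈ zpowers u := by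
  haveI : Fact (Nat.Prime 2) := ⟨Nat.prime_two⟩
  have hz : u ^ (2 ^ (1 - 1)) = u := by simp
  refine ⟨H, ⟨le_rfl, ?_, ?_, ?_, ?_⟩, fun x hx hxH => h.cent x hxH⟩
  · rw [hz]; exact h.uH
  · intro x hx hxH
    rw [hz]
    exact h.cent x hxH
  · intro x hx
    rw [hz]
    exact h.pow x hx
  · intro x hx
    refine ⟨fun h => absurd rfl h, fun _ => ?_⟩
    obtain ⟨i, hi⟩ := mem_zpowers_iff.mp (h.pow x hx)
    have h1 : x ^ 4 = (x ^ 2) ^ 2 := pow_mul x 2 2
    have h2 : u ^ 2 = 1 := by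
      have := h.o
      rw [pow_one] at this
      rw [← this, pow_orderOf_eq_one]
    rw [h1, ← hi, ← zpow_natCast, ← zpow_mul, mul_comm, zpow_mul, zpow_natCast, h2, one_zpow]

/-- the extraspecial factor, `p = 2`, `n ≥ 2` -/
theorem exists_E_two {u : G} {H : Subgroup G} {n : ℕ} (hn : 2 ≤ n) (h : Setup 2 n H u) :
    ∃ E : Subgroup G, ES 2 n H u E ∧ ∀ x ∈ H, (∀ y ∈ E, x * y = y * x) → x ∈ zpowers u := by
  haveI : Fact (Nat.Prime 2) := ⟨Nat.prime_two⟩
  let W : Subgroup G :=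
    { carrier := {x | x ∈ H ∧ x ^ 2 ∈ zpowers (u ^ (2 ^ (n - 1)))}
      mul_mem' := by
        rintro a b ⟨ha, ha'⟩ ⟨hb, hb'⟩
        refine ⟨mul_mem ha hb, ?_⟩
        rw [h.mul_pow ha hb]
        exact mul_mem (mul_mem ha' hb') (pow_mem (h.commH hb ha) _)
      one_mem' := ⟨one_mem _, by rw [one_pow]; exact one_mem _⟩
      inv_mem' := by
        rintro a ⟨ha, ha'⟩
        refine ⟨inv_mem ha, ?_⟩
        rw [inv_pow]; exact inv_mem ha' }
  have hmem : ∀ x, x ∈ W ↔ x ∈ H ∧ x ^ 2 ∈ zpowers (u ^ (2 ^ (n - 1))) := fun x => Iff.rfl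
  have hWc : W.Characteristic := by
    apply char_of
    intro φ x hx
    exact ⟨char_mem h.char φ hx.1, by rw [← map_pow]; exact h.z_char φ hx.2⟩
  have hcyc := h.inf_cyclic hWc
  set A := W ⊓ centralizer (W : Set G) with hA
  have hz2 : u ^ (2 ^ (n - 1)) = (u ^ (2 ^ (n - 2))) ^ 2 := by
    rw [← pow_mul, ← pow_succ]; congr 2; omega
  set y := u ^ (2 ^ (n - 2)) with hy
  have hyA : y ∈ A := by
    refine ⟨⟨pow_mem h.uH _, ?_⟩, ?_⟩
    · rw [← hz2]; exact mem_zpowers _
    · refine mem_centralizer_iff.mpr ?_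
      intro w hw
      exact (h.comm_z (pow_mem (mem_zpowers u) _) hw.1).symm
  have hoy : orderOf y = 4 := by
    have h1 : y ^ 4 = 1 := by
      have : y ^ 4 = (y ^ 2) ^ 2 := pow_mul y 2 2
      rw [this, ← hz2]; exact h.z_pow
    have h2 : y ^ 2 ≠ 1 := by rw [← hz2]; exact h.z_ne
    have h3 : orderOf y = 2 ^ (1 + 1) := by
      apply orderOf_eq_prime_pow
      · rw [pow_one]; exact h2
      · norm_num; exact h1
    rw [h3]; norm_num
  -- `A ≤ ⟨u⟩`
  have hAu : ∀ x ∈ A, x ∈ zpowers u := by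
    have hAcard : Nat.card A ≤ 4 := by
      obtain ⟨⟨w, hw⟩, hgen⟩ := hcyc
      have h1 : A = zpowers w := by
        apply le_antisymm
        · intro v hv
          obtain ⟨i, hi⟩ := hgen ⟨v, hv⟩
          exact ⟨i, congrArg Subtype.val hi⟩
        · rw [zpowers_le]; exact hw
      rw [h1, Nat.card_zpowers]
      apply Nat.le_of_dvd (by norm_num)
      apply orderOf_dvd_of_pow_eq_one
      obtain ⟨i, hi⟩ := mem_zpowers_iff.mp hw.1.2
      have h1 : w ^ 4 = (w ^ 2) ^ 2 := pow_mul w 2 2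
      rw [h1, ← hi, ← zpow_natCast, ← zpow_mul, mul_comm, zpow_mul, zpow_natCast, h.z_pow, one_zpow]
    have h2 : zpowers y = A := by
      apply Subgroup.eq_of_le_of_card_ge (zpowers_le.mpr hyA)
      rw [Nat.card_zpowers, hoy]; exact hAcard
    intro x hx
    rw [← h2] at hx
    exact (zpowers_le.mpr (pow_mem (mem_zpowers u) _)) hx
  have hAW : ∀ a ∈ A, ∀ w ∈ W, a * w = w * a := fun a ha w hw => (mem_centralizer_iff.mp ha.2 w hw).symm
  -- maximal E
  obtain ⟨E, ⟨hzE, hEW, hEA⟩, hmax⟩ := (Set.toFinite {E : Subgroup G | u ^ (2 ^ (n - 1)) ∈ E ∧ E ≤ W ∧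
    ∀ x ∈ E, x ∈ A → x ∈ zpowers (u ^ (2 ^ (n - 1)))}).exists_maximal
    ⟨zpowers (u ^ (2 ^ (n - 1))), mem_zpowers _, (by
      intro x hx
      refine ⟨h.zH hx, pow_mem hx 2⟩), fun x hx _ => hx⟩
  have hzEle : zpowers (u ^ (2 ^ (n - 1))) ≤ E := zpowers_le.mpr hzE
  have hdec : ∀ w ∈ W, ∃ e ∈ E, ∃ a ∈ A, w = e * a := by
    intro x hx
    by_contra hcon
    push Not at hcon
    have hxE : x ∉ E := fun h1 => hcon x h1 1 (one_mem _) (mul_one x).symm
    have hxn : ∀ e ∈ E, x * e * x⁻¹ ∈ E := by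
      intro e he
      have h1 : x * e * x⁻¹ = ⁅x, e⁆ * e := by rw [commutatorElement_def]; group
      rw [h1]
      exact mul_mem (hzEle (h.commH hx.1 (hEW he).1)) he
    have hxn' : ∀ e ∈ E, x⁻¹ * e * x ∈ E := by
      intro e he
      have h1 : x⁻¹ * e * x = ⁅x⁻¹, e⁆ * e := by rw [commutatorElement_def]; group
      rw [h1]
      exact mul_mem (hzEle (h.commH (inv_mem hx.1) (hEW he).1)) he
    have hxx : x * x ∈ E := by rw [← pow_two]; exact hzEle hx.2
    let E' : Subgroup G :=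
      { carrier := {g | g ∈ E ∨ x⁻¹ * g ∈ E}
        mul_mem' := by
          rintro a b (ha | ha) (hb | hb)
          · exact Or.inl (mul_mem ha hb)
          · right
            have : x⁻¹ * (a * b) = (x⁻¹ * a * x) * (x⁻¹ * b) := by group
            rw [this]
            exact mul_mem (hxn' a ha) hb
          · right
            rw [← mul_assoc]
            exact mul_mem ha hb
          · left
            have : a * b = x * (x⁻¹ * a) * x⁻¹ * (x * x) * (x⁻¹ * b) := by group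
            rw [this]
            exact mul_mem (mul_mem (hxn _ ha) hxx) hb
        one_mem' := Or.inl (one_mem _)
        inv_mem' := by
          rintro a (ha | ha)
          · exact Or.inl (inv_mem ha)
          · right
            have : x⁻¹ * a⁻¹ = x⁻¹ * (x⁻¹ * a)⁻¹ * x * (x * x)⁻¹ := by group
            rw [this]
            exact mul_mem (hxn' _ (inv_mem ha)) (inv_mem hxx) }
    have hE'mem : ∀ g, g ∈ E' ↔ g ∈ E ∨ x⁻¹ * g ∈ E := fun g => Iff.rfl
    have hle : E ≤ E' := fun g hg => Or.inl hg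
    have h1 : E' ≤ E := by
      apply hmax _ hle
      refine ⟨hle hzE, ?_, ?_⟩
      · rintro g (hg | hg)
        · exact hEW hg
        · have : g = x * (x⁻¹ * g) := by group
          rw [this]
          exact mul_mem hx (hEW hg)
      · rintro g (hg | hg) hgA
        · exact hEA g hg hgA
        · exfalso
          apply hcon (x⁻¹ * g)⁻¹ (inv_mem hg) g hgA
          have h3 : (x⁻¹ * g)⁻¹ * g = g⁻¹ * (x * g) := by group
          rw [h3, ← hAW g hgA x hx]; group
    apply hxE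
    apply h1
    right
    rw [inv_mul_cancel]; exact one_mem _
  have hq : ∀ x ∈ E, x ^ 4 = 1 := by
    intro w hw
    obtain ⟨i, hi⟩ := mem_zpowers_iff.mp (hEW hw).2
    have h1 : w ^ 4 = (w ^ 2) ^ 2 := pow_mul w 2 2
    rw [h1, ← hi, ← zpow_natCast, ← zpow_mul, mul_comm, zpow_mul, zpow_natCast, h.z_pow, one_zpow]
  have hES : ES 2 n H u E := by
    refine ⟨fun x hx => (hEW hx).1, hzE, ?_, fun x hx => (hEW hx).2, fun x hx => ⟨fun h => absurd rfl h, fun _ => hq x hx⟩⟩
    intro x hx hxE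
    apply hEA x hx
    refine ⟨hEW hx, ?_⟩
    refine mem_centralizer_iff.mpr ?_
    intro w hw
    obtain ⟨e, he, a, ha, rfl⟩ := hdec w hw
    have e1 : Commute x e := hxE e he
    have e2 : Commute x a := (hAW a ha x (hEW hx)).symm
    exact (e1.mul_right e2).eq.symm
  refine ⟨E, hES, ES.hD_of h hES (Or.inr hn) ?_⟩
  intro x hx hxE hxp
  obtain ⟨b, hb⟩ := mem_zpowers_iff.mp hxp
  have hub : u ^ (-b) ∈ H := zpow_mem h.uH _
  have hcx : Commute x (u ^ (-b)) := (h.comm_z (zpow_mem (mem_zpowers u) _) hx).symm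
  have hw : x * u ^ (-b) ∈ W := by
    refine ⟨mul_mem hx hub, ?_⟩
    have : (x * u ^ (-b)) ^ 2 = 1 := by
      rw [hcx.mul_pow, ← hb, ← zpow_natCast (u ^ (-b)), ← zpow_natCast u, ← zpow_mul, ← zpow_mul, ← zpow_add]
      have : ((2 : ℕ) : ℤ) * b + -b * (2 : ℕ) = 0 := by push_cast; ring
      rw [this, zpow_zero]
    rw [this]; exact one_mem _
  have h1 : x * u ^ (-b) ∈ zpowers u := by
    apply hAu
    refine ⟨hw, ?_⟩
    refine mem_centralizer_iff.mpr ?_
    intro w hw'
    obtain ⟨e, he, a, ha, rfl⟩ := hdec w hw'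
    have e1 : Commute (x * u ^ (-b)) e := (show Commute x e from hxE e he).mul_left
      (show Commute (u ^ (-b)) e from h.comm_z (zpow_mem (mem_zpowers u) _) (hEW he).1)
    have e2 : Commute (x * u ^ (-b)) a := (hAW a ha _ hw).symm
    exact (e1.mul_right e2).eq.symm
  have h2 : x = (x * u ^ (-b)) * u ^ b := by group
  rw [h2]
  exact mul_mem h1 (zpow_mem (mem_zpowers u) _)

theorem exists_E (h : Setup p n H u) :
    ∃ E : Subgroup G, ES p n H u E ∧ ∀ x ∈ H, (∀ y ∈ E, x * y = y * x) → x ∈ zpowers u := by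
  by_cases hp : p = 2
  · subst hp
    rcases Nat.lt_or_ge n 2 with h2 | h2
    · have : n = 1 := by have := h.n1; omega
      subst this
      exact exists_E_one h
    · exact exists_E_two h2 h
  · exact exists_E_odd h hp

end H65.SympType
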