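import Cfsg.Agent.Lib.H65.SympType2

set_option autoImplicit false
set_option linter.style.haveILetI false
set_option linter.unusedSectionVars false
set_option linter.unusedVariables false

/-! `p`-groups of symplectic type: the main theorem. -/

namespace H65.SympType

open Subgroup Cfsg H65.CycSC H65.CycSC2 H65.CycSC3
open scoped commutatorElement

variable {G : Type*} [Group G] [Finite G] {p n : ℕ} [hpf : Fact p.Prime] {u : G} {H E : Subgroup G}

theorem u_mem_cent (h : Setup p n H u) (hE : ES p n H u E) : u ∈ centralizer (E : Set G) :=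
  mem_centralizer_iff.mpr fun y hy => (h.uc y (hE.le hy)).symm

/-- `⟨u⟩` is self-centralizing in `R = C_G(E)` -/
theorem sc_R (h : Setup p n H u) (hE : ES p n H u E)
    (hD : ∀ x ∈ H, (∀ y ∈ E, x * y = y * x) → x ∈ zpowers u) :
    SC p n (⟨u, u_mem_cent h hE⟩ : centralizer (E : Set G)) := by
  refine ⟨?_, ?_, ?_⟩
  · rw [Subgroup.orderOf_mk]; exact h.o
  · intro g
    obtain ⟨k, hk⟩ := mem_zpowers_iff.mp (h.zpowers_normal (g : G) (mem_zpowers u))
    exact ⟨k, Subtype.ext hk.symm⟩
  · intro g hg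
    have hgu : (g : G) * u = u * g := congrArg Subtype.val hg
    have h1 : (g : G) ∈ zpowers u := by
      apply h.cent
      intro x hx
      obtain ⟨e, he, hec⟩ := ES.decomp h hE x
      have h2 : e⁻¹ * x ∈ zpowers u := hD _ (mul_mem (inv_mem (hE.le he)) hx) hec
      obtain ⟨i, hi⟩ := mem_zpowers_iff.mp h2
      have h3 : x = e * (e⁻¹ * x) := by group
      rw [h3, ← hi]
      have e1 : Commute (g : G) e := (mem_centralizer_iff.mp g.2 e he).symm
      have e2 : Commute (g : G) (u ^ i) := (show Commute (g : G) u from hgu).zpow_right i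
      exact (e1.mul_right e2).eq
    obtain ⟨i, hi⟩ := mem_zpowers_iff.mp h1
    exact ⟨i, Subtype.ext hi⟩

theorem sup_top (h : Setup p n H u) (hE : ES p n H u E) : E ⊔ centralizer (E : Set G) = ⊤ := by
  rw [eq_top_iff]
  intro g _
  obtain ⟨e, he, hec⟩ := ES.decomp h hE g
  have h3 : g = e * (e⁻¹ * g) := by group
  rw [h3]
  exact mul_mem (mem_sup_left he) (mem_sup_right (mem_centralizer_iff.mpr fun y hy => (hec y hy).symm))

/-- the conclusion -/
def Concl (p : ℕ) (G : Type*) [Group G] : Prop :=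
  ∃ E R : Subgroup G, (∀ e ∈ E, ∀ r ∈ R, e * r = r * e) ∧ E ⊔ R = ⊤ ∧ (E = ⊥ ∨ IsExtraspecial p ↥E) ∧
    (IsCyclic R ∨ (p = 2 ∧ 16 ≤ Nat.card R ∧ ((∃ m : ℕ, Nonempty (↥R ≃* DihedralGroup m)) ∨
      (∃ m : ℕ, Nonempty (↥R ≃* QuaternionGroup m)) ∨ IsQuasiDihedral ↥R)))

theorem concl_of (h : Setup p n H u) (hE : ES p n H u E)
    (hR : IsCyclic (centralizer (E : Set G)) ∨ (p = 2 ∧ 16 ≤ Nat.card (centralizer (E : Set G)) ∧
      ((∃ m : ℕ, Nonempty (↥(centralizer (E : Set G)) ≃* DihedralGroup m)) ∨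
      (∃ m : ℕ, Nonempty (↥(centralizer (E : Set G)) ≃* QuaternionGroup m)) ∨
      IsQuasiDihedral ↥(centralizer (E : Set G))))) : Concl p G := by
  rcases ES.eq_or h hE with h1 | h1
  · refine ⟨⊥, centralizer (E : Set G), ?_, ?_, Or.inl rfl, hR⟩
    · intro e he r _
      rw [mem_bot] at he
      rw [he, one_mul, mul_one]
    · rw [bot_sup_eq, eq_top_iff]
      intro g _
      refine mem_centralizer_iff.mpr fun y hy => ?_
      rw [h1] at hy
      exact (h.z_central' g hy).symm
  · exact ⟨E, centralizer (E : Set G), fun e he r hr => mem_centralizer_iff.mp hr e he, sup_top h hE, Or.inr h1, hR⟩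

/-- `C_R(u ^ p) > ⟨u⟩` is impossible -/
theorem no_s (h : Setup p n H u) (hE : ES p n H u E) (hn : 2 ≤ n) (hpn : p ≠ 2 ∨ 3 ≤ n)
    (hSC : SC p n (⟨u, u_mem_cent h hE⟩ : centralizer (E : Set G)))
    {s : centralizer (E : Set G)} {c : ℤ} (hd : Dat p n (⟨u, u_mem_cent h hE⟩ : centralizer (E : Set G)) s c) :
    False := by
  have hRp : IsPGroup p (centralizer (E : Set G)) := h.hG.to_subgroup _
  set v : centralizer (E : Set G) := ⟨u, u_mem_cent h hE⟩ with hv
  have hvu : (v : G) = u := rfl
  set q := if p = 2 then 4 else p with hq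
  have hqE : ∀ e ∈ E, e ^ q = 1 := by
    intro e he
    by_cases hp : p = 2
    · rw [hq, if_pos hp]; exact (hE.q e he).2 hp
    · rw [hq, if_neg hp]; exact (hE.q e he).1 hp
  have hpq : p ∣ q := by
    by_cases hp : p = 2
    · rw [hq, if_pos hp, hp]; norm_num
    · rw [hq, if_neg hp]
  let F : Subgroup G := closure {x | x * u ^ p = u ^ p * x ∧ x ^ q = 1}
  have hFc : F.Characteristic := by
    apply char_of
    intro φ x hx
    have h1 : F ≤ F.comap φ.toMonoidHom := by
      rw [closure_le]
      rintro y ⟨hy1, hy2⟩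
      refine subset_closure ⟨?_, ?_⟩
      · show φ y * u ^ p = u ^ p * φ y
        -- `u ^ p` is a power of `φ (u ^ p)`
        obtain ⟨j, hj⟩ := mem_zpowers_iff.mp (h.u_char φ.symm (mem_zpowers u))
        have h2 : u ^ p = (φ (u ^ p)) ^ j := by
          have h3 := congrArg φ hj
          rw [MulEquiv.apply_symm_apply, map_zpow] at h3
          rw [map_pow, ← zpow_natCast (φ u), zpow_comm, zpow_natCast, h3]
        rw [h2]
        have h4 : Commute (φ y) (φ (u ^ p)) := by
          show φ y * φ (u ^ p) = φ (u ^ p) * φ y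
          rw [← map_mul, hy1, map_mul]
        exact (h4.zpow_right j).eq
      · show φ y ^ q = 1
        rw [← map_pow, hy2, map_one]
    exact h1 hx
  have hcyc := h.inf_cyclic hFc
  have hsp : s ^ p = 1 := hd.hp
  have hspG : (s : G) ^ p = 1 := congrArg Subtype.val hsp
  have hsM := s_mem_MM hSC hn hd
  rw [mem_MM] at hsM
  have hsMG : (s : G) * u ^ p = u ^ p * s := congrArg Subtype.val hsM
  have hpow1 : ∀ {x : G}, x ^ p = 1 → x ^ q = 1 := by
    intro x hx
    obtain ⟨d, hd⟩ := hpq
    rw [hd, pow_mul, hx, one_pow]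
  have hsF : (s : G) ∈ F := subset_closure ⟨hsMG, hpow1 hspG⟩
  have hzF : u ^ (p ^ (n - 1)) ∈ F := subset_closure ⟨(h.z_central (u ^ p)).symm, hpow1 h.z_pow⟩
  have hsC : (s : G) ∈ centralizer (F : Set G) := by
    have h1 : F ≤ centralizer ({(s : G)} : Set G) := by
      rw [closure_le]
      rintro x ⟨hx1, hx2⟩
      rw [SetLike.mem_coe, mem_centralizer_singleton_iff]
      obtain ⟨e, he, hec⟩ := ES.decomp h hE x
      set r : centralizer (E : Set G) := ⟨e⁻¹ * x, mem_centralizer_iff.mpr fun y hy => (hec y hy).symm⟩ with hr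
      have hrG : (r : G) = e⁻¹ * x := rfl
      have hxer : x = e * r := by rw [hrG]; group
      have hse : Commute (s : G) e := (mem_centralizer_iff.mp s.2 e he).symm
      have heu : Commute e (u ^ p) := (show Commute e u from (h.uc e (hE.le he)).symm).pow_right p
      have hru : r * v ^ p = v ^ p * r := by
        apply Subtype.ext
        show (r : G) * u ^ p = u ^ p * r
        rw [hrG]
        exact ((heu.inv_left).mul_left (show Commute x (u ^ p) from hx1)).eq
      have hre : Commute e (r : G) := (hec e he).symm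
      have hrq : r ^ q = 1 := by
        apply Subtype.ext
        have h2 : x ^ q = e ^ q * (r : G) ^ q := by
          rw [← hre.mul_pow]; exact congrArg (· ^ q) hxer
        rw [hx2, hqE e he, one_mul] at h2
        exact h2.symm
      have hsr : Commute s r := by
        by_cases hp : p = 2
        · have hn3 : 3 ≤ n := hpn.resolve_left (fun h => h hp)
          obtain ⟨a, b, hab⟩ := mem_M hSC hn hd hru
          have h1 := mul_pow_formula hRp hSC hn (pow_s hSC hn hd a) b
          rw [← hab, ← pow_mul, mul_comm a p, pow_mul, hd.hp, one_pow, one_mul] at h1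
          -- `r ^ 4 = 1`
          have hq4 : q = 4 := by rw [hq, if_pos hp]
          rw [hq4] at hrq
          have h2 : r ^ 4 = (r ^ p) ^ 2 := by rw [hp]; exact pow_mul r 2 2
          rw [h2, h1, ← zpow_natCast, ← zpow_mul] at hrq
          have h3 := (CycSC.zpow_eq_one_iff hSC _).mp hrq
          have hcop := isCoprime_unit (p := p) hn hpn (a * c)
          set w : ℤ := 1 - a * c * (p : ℤ) ^ (n - 2) * (p.choose 2 : ℤ) with hw
          have h4 : (p : ℤ) ^ n = (p : ℤ) ^ (n - 2) * p * p := by
            have : n = (n - 2) + 1 + 1 := by omega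
            conv_lhs => rw [this]
            rw [pow_succ, pow_succ]
          have h5 : (p : ℤ) * (b * w) * ((2 : ℕ) : ℤ) = (b * w) * p * p := by
            have : ((2 : ℕ) : ℤ) = p := by exact_mod_cast hp.symm
            rw [this]; ring
          rw [h4, h5] at h3
          have h6 := Int.dvd_of_mul_dvd_mul_right int_p_ne (Int.dvd_of_mul_dvd_mul_right int_p_ne h3)
          have hcop2 : IsCoprime ((p : ℤ) ^ (n - 2)) w :=
            IsCoprime.of_isCoprime_of_dvd_left hcop (pow_dvd_pow _ (by omega))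
          obtain ⟨b', hb'⟩ := hcop2.dvd_of_dvd_mul_right h6
          have h7 : r = s ^ a * (v ^ p) ^ ((p : ℤ) ^ (n - 3) * b') := by
            rw [hab, hb', ← zpow_natCast v p, ← zpow_mul]
            congr 2
            have : (p : ℤ) ^ (n - 2) = p * (p : ℤ) ^ (n - 3) := by
              rw [← pow_succ']; congr 1; omega
            rw [this]; ring
          rw [h7]
          exact ((Commute.refl s).pow_right a).mul_right ((show Commute s (v ^ p) from hsM).zpow_right _)
        · have hq4 : q = p := by rw [hq, if_neg hp]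
          rw [hq4] at hrq
          obtain ⟨a, b, hab⟩ := mem_E hRp hSC hn hpn hd hru hrq
          rw [hab]
          refine ((Commute.refl s).pow_right a).mul_right ?_
          exact CycSC.z_central hRp hSC (by omega) b s
      have hsrG : Commute (s : G) (r : G) := congrArg Subtype.val hsr.eq
      rw [hxer]
      exact ((hse.mul_right hsrG).eq).symm
    refine mem_centralizer_iff.mpr fun x hx => ?_
    exact mem_centralizer_singleton_iff.mp (h1 hx)
  have hzC : u ^ (p ^ (n - 1)) ∈ centralizer (F : Set G) := mem_centralizer_iff.mpr fun x _ => h.z_central x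
  have h1 := mem_zpowers_of_cyclic hcyc (h.hG.to_subgroup _) (mem_inf.mpr ⟨hsF, hsC⟩) (mem_inf.mpr ⟨hzF, hzC⟩) hspG
    h.z_ne
  obtain ⟨i, hi⟩ := mem_zpowers_iff.mp (h.z_mem h1)
  exact s_notMem hSC hn hd ⟨i, Subtype.ext hi⟩

/-- `p = 2`, `|R| = 8`: the group is extraspecial -/
theorem case_eight {u : G} {H E : Subgroup G} (h : Setup 2 2 H u) (hE : ES 2 2 H u E)
    (hSC : SC 2 2 (⟨u, u_mem_cent h hE⟩ : centralizer (E : Set G)))
    (hcard : Nat.card (centralizer (E : Set G)) = 8)
    (hna : ¬ IsMulCommutative (centralizer (E : Set G))) : Concl 2 G := by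
  haveI : Fact (Nat.Prime 2) := ⟨Nat.prime_two⟩
  set R := centralizer (E : Set G) with hR
  set z := u ^ (2 ^ (2 - 1)) with hz
  have hzz : z = u ^ 2 := by rw [hz]; norm_num
  -- center of G
  have hcen : center G = zpowers z := by
    apply le_antisymm
    · intro g hg
      have hgu : g ∈ zpowers u := h.cent g fun x _ => (mem_center_iff.mp hg x).symm
      obtain ⟨i, hi⟩ := mem_zpowers_iff.mp hgu
      rcases Int.even_or_odd' i with ⟨j, hj | hj⟩
      · refine ⟨j, ?_⟩
        show z ^ j = g
        rw [hzz, ← hi, hj, zpow_mul, ← zpow_natCast u 2]; rfl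
      · exfalso
        apply hna
        -- `u` is central
        have hu : ∀ x : G, x * u = u * x := by
          intro x
          have h1 : u ^ i * z ^ (-j) = u := by
            rw [hzz, ← zpow_natCast u, ← zpow_mul, ← zpow_add, hj]
            have : 2 * j + 1 + ((2 : ℕ) : ℤ) * -j = 1 := by push_cast; ring
            rw [this, zpow_one]
          have h2 : Commute x (u ^ i * z ^ (-j)) := by
            apply Commute.mul_right
            · rw [hi]; exact mem_center_iff.mp hg x
            · exact (show Commute x z from h.z_central x).zpow_right _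
          rw [h1] at h2
          exact h2.eq
        have h3 : ∀ r : R, r ∈ zpowers (⟨u, u_mem_cent h hE⟩ : R) := fun r => hSC.sc r (Subtype.ext (hu r))
        refine ⟨⟨fun a b => ?_⟩⟩
        obtain ⟨i, hi⟩ := mem_zpowers_iff.mp (h3 a)
        obtain ⟨j, hj⟩ := mem_zpowers_iff.mp (h3 b)
        rw [← hi, ← hj]
        exact ((Commute.refl _).zpow_zpow i j).eq
    · rw [zpowers_le, mem_center_iff]
      exact h.z_central
  -- commutators
  have hRcomm : ∀ a b : G, a ∈ R → b ∈ R → ⁅a, b⁆ ∈ zpowers z := by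
    intro a b ha hb
    let zR : R := ⟨z, mem_centralizer_iff.mpr fun y _ => h.z_central y⟩
    have hzRn : (zpowers zR).Normal := by
      constructor
      intro x hx g
      obtain ⟨i, rfl⟩ := mem_zpowers_iff.mp hx
      have : g * zR ^ i * g⁻¹ = zR ^ i := by
        have h1 : Commute g zR := Subtype.ext (h.z_central g)
        rw [(h1.zpow_right i).eq, mul_inv_cancel_right]
      rw [this]; exact zpow_mem (mem_zpowers _) _
    have hcardq : Nat.card (R ⧸ zpowers zR) = 2 ^ 2 := by
      have h1 := Subgroup.card_mul_index (zpowers zR)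
      rw [hcard, Nat.card_zpowers] at h1
      have h2 : orderOf zR = 2 := by rw [Subgroup.orderOf_mk]; exact h.orderOf_z
      rw [h2] at h1
      rw [← Subgroup.index_eq_card]
      omega
    have hab : (QuotientGroup.mk' (zpowers zR)) ⁅(⟨a, ha⟩ : R), ⟨b, hb⟩⁆ = 1 := by
      rw [map_commutatorElement, commutatorElement_eq_one_iff_mul_comm]
      exact (IsPGroup.isMulCommutative_of_card_eq_prime_sq hcardq).is_comm.comm _ _
    rw [← MonoidHom.mem_ker, QuotientGroup.ker_mk'] at hab
    obtain ⟨i, hi⟩ := mem_zpowers_iff.mp hab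
    exact ⟨i, congrArg Subtype.val hi⟩
  have hcm : ∀ a b : G, ⁅a, b⁆ ∈ zpowers z := by
    intro a b
    obtain ⟨e, he, hec⟩ := ES.decomp h hE a
    obtain ⟨f, hf, hfc⟩ := ES.decomp h hE b
    have ha : a = e * (e⁻¹ * a) := by group
    have hb : b = f * (f⁻¹ * b) := by group
    have hr : e⁻¹ * a ∈ R := mem_centralizer_iff.mpr fun y hy => (hec y hy).symm
    have hs : f⁻¹ * b ∈ R := mem_centralizer_iff.mpr fun y hy => (hfc y hy).symm
    have hrf : Commute (e⁻¹ * a) f := hec f hf
    have hse : Commute (f⁻¹ * b) e := hfc e he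
    have h1 : ⁅a, b⁆ = ⁅e, f⁆ * ⁅e⁻¹ * a, f⁻¹ * b⁆ := by
      set r := e⁻¹ * a
      set s := f⁻¹ * b
      have hre : Commute r e := hec e he
      have hsf : Commute s f := hfc f hf
      rw [ha, hb, commutatorElement_def, commutatorElement_def, commutatorElement_def]
      have e1 : r * f = f * r := hrf
      have e2 : s * e = e * s := hse
      have e3 : (e * r) * (f * s) = (e * f) * (r * s) := by
        calc (e * r) * (f * s) = e * (r * f) * s := by group
          _ = e * (f * r) * s := by rw [e1]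
          _ = _ := by group
      have e4 : (e * r)⁻¹ * (f * s)⁻¹ = (e⁻¹ * f⁻¹) * (r⁻¹ * s⁻¹) := by
        have f1 : Commute (r⁻¹) (e⁻¹) := hre.inv_inv
        have f2 : Commute (s⁻¹) (f⁻¹) := hsf.inv_inv
        have f3 : Commute (r⁻¹) (f⁻¹) := hrf.inv_inv
        calc (e * r)⁻¹ * (f * s)⁻¹ = (r⁻¹ * e⁻¹) * (s⁻¹ * f⁻¹) := by group
          _ = (e⁻¹ * r⁻¹) * (f⁻¹ * s⁻¹) := by rw [f1.eq, f2.eq]
          _ = e⁻¹ * (r⁻¹ * f⁻¹) * s⁻¹ := by group
          _ = e⁻¹ * (f⁻¹ * r⁻¹) * s⁻¹ := by rw [f3.eq]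
          _ = _ := by group
      have e5 : Commute (r * s) (e⁻¹ * f⁻¹) := by
        apply Commute.mul_left
        · exact hre.inv_right.mul_right hrf.inv_right
        · exact hse.inv_right.mul_right hsf.inv_right
      calc e * r * (f * s) * (e * r)⁻¹ * (f * s)⁻¹ = ((e * r) * (f * s)) * ((e * r)⁻¹ * (f * s)⁻¹) := by group
        _ = ((e * f) * (r * s)) * ((e⁻¹ * f⁻¹) * (r⁻¹ * s⁻¹)) := by rw [e3, e4]
        _ = (e * f) * ((r * s) * (e⁻¹ * f⁻¹)) * (r⁻¹ * s⁻¹) := by group
        _ = (e * f) * ((e⁻¹ * f⁻¹) * (r * s)) * (r⁻¹ * s⁻¹) := by rw [e5.eq]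
        _ = _ := by group
    rw [h1]
    exact mul_mem (h.commH (hE.le he) (hE.le hf)) (hRcomm _ _ hr hs)
  have hne : ∃ a b : G, ⁅a, b⁆ ≠ 1 := by
    by_contra hcon
    push Not at hcon
    apply hna
    refine ⟨⟨fun a b => Subtype.ext ?_⟩⟩
    exact commutatorElement_eq_one_iff_mul_comm.mp (hcon a b)
  -- `⊤` is extraspecial
  have hext : IsExtraspecial 2 (⊤ : Subgroup G) := by
    have hct : (center (⊤ : Subgroup G)).map (⊤ : Subgroup G).subtype = center G := by
      ext x
      constructor
      · rintro ⟨y, hy, rfl⟩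
        rw [mem_center_iff]
        intro g
        exact congrArg Subtype.val (mem_center_iff.mp hy ⟨g, mem_top g⟩)
      · intro hx
        refine ⟨⟨x, mem_top x⟩, ?_, rfl⟩
        rw [SetLike.mem_coe, mem_center_iff]
        intro g
        exact Subtype.ext (mem_center_iff.mp hx g)
    apply H3.Extraspecial.isExtraspecial_of
    · rw [commutator_eq_closure, closure_le]
      rintro _ ⟨a, b, rfl⟩
      rw [SetLike.mem_coe, mem_center_iff]
      intro g
      have h1 : ⁅(a : G), (b : G)⁆ ∈ center G := by rw [hcen]; exact hcm _ _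
      exact Subtype.ext (mem_center_iff.mp h1 g)
    · rw [← Subgroup.card_map_of_injective (Subgroup.subtype_injective _), hct, hcen, Nat.card_zpowers]
      exact h.orderOf_z
    · obtain ⟨a, b, hab⟩ := hne
      exact ⟨⟨a, mem_top a⟩, ⟨b, mem_top b⟩, fun h => hab (congrArg Subtype.val h)⟩
  refine ⟨⊤, ⊥, ?_, ?_, Or.inr hext, Or.inl inferInstance⟩
  · intro e _ r hr
    rw [mem_bot] at hr
    rw [hr, one_mul, mul_one]
  · rw [sup_bot_eq]

theorem main (hG : IsPGroup p G)
    (hsymp : ∀ A : Subgroup G, A.Characteristic → IsMulCommutative A → IsCyclic A) : Concl p G := by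
  rcases subsingleton_or_nontrivial G with hs | hnt
  · refine ⟨⊥, ⊥, ?_, ?_, Or.inl rfl, Or.inl inferInstance⟩
    · intro e _ r _; exact Subsingleton.elim _ _
    · exact Subsingleton.elim _ _
  obtain ⟨n, H, u, h⟩ := exists_setup hG hsymp
  obtain ⟨E, hE, hD⟩ := exists_E h
  have hSC := sc_R h hE hD
  have hRp : IsPGroup p (centralizer (E : Set G)) := h.hG.to_subgroup _
  by_cases hna : IsMulCommutative (centralizer (E : Set G))
  · apply concl_of h hE
    left
    refine ⟨⟨u, u_mem_cent h hE⟩, fun r => ?_⟩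
    exact hSC.sc r (hna.is_comm.comm _ _)
  have hn := two_le hRp hSC hna
  have hne : ∃ g : centralizer (E : Set G), g ∉ zpowers (⟨u, u_mem_cent h hE⟩ : centralizer (E : Set G)) := by
    by_contra hcon
    push Not at hcon
    apply hna
    refine ⟨⟨fun a b => ?_⟩⟩
    obtain ⟨i, hi⟩ := mem_zpowers_iff.mp (hcon a)
    obtain ⟨j, hj⟩ := mem_zpowers_iff.mp (hcon b)
    rw [← hi, ← hj]
    exact ((Commute.refl _).zpow_zpow i j).eq
  by_cases hp : p = 2
  · subst hp
    by_cases hM : 3 ≤ n → ∀ t : centralizer (E : Set G), t * (⟨u, u_mem_cent h hE⟩ : centralizer (E : Set G)) ^ 2 =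
        (⟨u, u_mem_cent h hE⟩ : centralizer (E : Set G)) ^ 2 * t →
        t ∈ zpowers (⟨u, u_mem_cent h hE⟩ : centralizer (E : Set G))
    · obtain ⟨hc, hcl⟩ := classification hRp hSC hn hne hM
      rcases Nat.lt_or_ge n 3 with h3 | h3
      · have hn2 : n = 2 := by omega
        subst hn2
        exact case_eight h hE hSC (by rw [hc]; norm_num) hna
      · apply concl_of h hE
        right
        refine ⟨rfl, ?_, hcl⟩
        rw [hc]
        calc 16 = 2 ^ 4 := by norm_num
          _ ≤ 2 ^ (n + 1) := Nat.pow_le_pow_right (by norm_num) (by omega)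
    · exfalso
      push Not at hM
      obtain ⟨h3, t, ht1, ht2⟩ := hM
      obtain ⟨s, c, hd⟩ := exists_s hRp hSC hn (Or.inr h3) ht2 ht1
      exact no_s h hE hn (Or.inr h3) hSC hd
  · exfalso
    obtain ⟨t, ht1, ht2⟩ := exists_t_odd hRp hSC hn hp hne
    obtain ⟨s, c, hd⟩ := exists_s hRp hSC hn (Or.inl hp) ht1 ht2
    exact no_s h hE hn (Or.inl hp) hSC hd

end H65.SympType
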