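import Cfsg.Agent.Lib.H65.Dih6
import Cfsg.Agent.Lib.H65.NX7
import Cfsg.Agent.Lib.H10.Dihedral
import Cfsg.Agent.Lib.H39.SylowAux

set_option autoImplicit false

/-! A pair of conjugate subgroups meeting in a 2-group of index 3. -/

namespace H65.Tri

open Subgroup H28.Cj H65.Dih

variable {X : Type*} [Group X] {T P : Subgroup X}

theorem core_data [Finite P] (hTP : T ≤ P) (h3 : T.relIndex P = 3) (hn : ¬ P ≤ normalizer (T : Set X)) :
    ∃ (Q : Subgroup X) (f : P →* Equiv.Perm (Fin 3)), Q ≤ T ∧ P ≤ normalizer (Q : Set X) ∧ Q.relIndex T = 2 ∧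
      Nat.card P = 6 * Nat.card Q ∧ (∀ N ≤ T, P ≤ normalizer (N : Set X) → N ≤ Q) ∧
      (∀ x : P, f x = 1 ↔ (x : X) ∈ Q) := by
  classical
  set K := T.subgroupOf P with hK
  set C := K.normalCore with hC
  have hKi : K.index = 3 := h3
  have hCker : C = (MulAction.toPermHom P (P ⧸ K)).ker := Subgroup.normalCore_eq_ker K
  have hcK : Nat.card (P ⧸ K) = 3 := hKi
  have e : (P ⧸ K) ≃ Fin 3 := Finite.equivFinOfCardEq hcK
  have hCi : C.index ∣ 6 := by
    rw [hCker, Subgroup.index_ker]
    have h1 := Subgroup.card_subgroup_dvd_card (MulAction.toPermHom P (P ⧸ K)).range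
    have h2 : Nat.card (Equiv.Perm (P ⧸ K)) = 6 := by
      rw [Nat.card_perm, hcK]; rfl
    rwa [h2] at h1
  set Q := C.map P.subtype with hQ
  have hQsub : Q.subgroupOf P = C := Subgroup.comap_map_eq_self_of_injective P.subtype_injective C
  have hQT : Q ≤ T := by
    rintro _ ⟨c, hc, rfl⟩
    exact Subgroup.normalCore_le K hc
  have hNQ : ∀ N ≤ T, P ≤ normalizer (N : Set X) → N ≤ Q := by
    intro N hNT hN x hx
    have hnorm : (N.subgroupOf P).Normal := (Subgroup.normal_subgroupOf_iff_le_normalizer (hNT.trans hTP)).mpr hN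
    have h1 : N.subgroupOf P ≤ C := by
      rw [hC]
      apply Subgroup.normal_le_normalCore.mpr
      intro z hz
      exact hNT hz
    exact ⟨⟨x, hTP (hNT hx)⟩, h1 hx, rfl⟩
  have hmul := Subgroup.relIndex_mul_relIndex Q T P hQT hTP
  have hQP : Q.relIndex P = C.index := by
    show (Q.subgroupOf P).index = _
    rw [hQsub]
  rw [hQP, h3] at hmul
  have hPnQ : P ≤ normalizer (Q : Set X) := by
    apply (Subgroup.normal_subgroupOf_iff_le_normalizer (hQT.trans hTP)).mp
    rw [hQsub]
    infer_instance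
  have hrel : Q.relIndex T = 2 := by
    have h1 : Q.relIndex T * 3 ∣ 2 * 3 := by rw [hmul]; exact hCi
    have h2 : Q.relIndex T ∣ 2 := Nat.dvd_of_mul_dvd_mul_right (by norm_num) h1
    rcases (Nat.dvd_prime Nat.prime_two).mp h2 with h | h
    · exfalso
      have h4 : T ≤ Q := Subgroup.relIndex_eq_one.mp h
      rw [le_antisymm h4 hQT] at hn
      exact hn hPnQ
    · exact h
  refine ⟨Q, e.permCongrHom.toMonoidHom.comp (MulAction.toPermHom P (P ⧸ K)), hQT, hPnQ, hrel, ?_,
    hNQ, ?_⟩
  · have h1 := C.card_mul_index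
    rw [← hmul, hrel] at h1
    have h2 : Nat.card C = Nat.card Q := by
      rw [← hQsub]
      exact Nat.card_congr (Subgroup.subgroupOfEquivOfLe (hQT.trans hTP)).toEquiv
    omega
  · intro x
    rw [MonoidHom.comp_apply]
    show e.permCongrHom _ = 1 ↔ _
    rw [MulEquiv.map_eq_one_iff, ← MonoidHom.mem_ker, ← hCker, ← hQsub]
    rfl

/-- the two small cases -/
theorem small [Finite X] (hTP : T ≤ P) (h3' : T.relIndex P = 3) (hn : ¬ P ≤ normalizer (T : Set X))
    {Q D : Subgroup X} (f : P →* Equiv.Perm (Fin 3)) (hQT : Q ≤ T) (hPnQ : P ≤ normalizer (Q : Set X))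
    (hrel : Q.relIndex T = 2) (h6 : Nat.card P = 6 * Nat.card Q) (hf : ∀ x : P, f x = 1 ↔ (x : X) ∈ Q)
    (hD : D ≤ T) (hDc : Nat.card D = Nat.card Q) (hDQ : Disjoint Q D) :
    Nonempty (P ≃* Equiv.Perm (Fin 3)) ∨ Nonempty (P ≃* DihedralGroup 6) := by
  classical
  have hTf : Finite T := Set.Finite.to_subtype ((Set.toFinite (P : Set X)).subset hTP)
  have hQf : Finite Q := Set.Finite.to_subtype ((Set.toFinite (T : Set X)).subset hQT)
  have hcT : Nat.card T = 2 * Nat.card Q := by
    have h1 := (Q.subgroupOf T).card_mul_index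
    rw [Nat.card_congr (Subgroup.subgroupOfEquivOfLe hQT).toEquiv,
      show (Q.subgroupOf T).index = 2 from hrel] at h1
    omega
  have hle2 : Nat.card Q ≤ 2 := by
    have hinj : Function.Injective (fun z : Q × D => (⟨z.1 * z.2, mul_mem (hQT z.1.2) (hD z.2.2)⟩ : T)) := by
      rintro ⟨a, b⟩ ⟨c, d⟩ h
      have h1 : (a : X) * b = c * d := congrArg Subtype.val h
      have h2 : (c : X)⁻¹ * a = d * (b : X)⁻¹ := by
        rw [inv_mul_eq_iff_eq_mul, ← mul_assoc, ← h1]; group
      have h3 : (c : X)⁻¹ * a = 1 := by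
        have h5 : (c : X)⁻¹ * a ∈ Q := mul_mem (inv_mem c.2) a.2
        have h6 : (c : X)⁻¹ * a ∈ D := by rw [h2]; exact mul_mem d.2 (inv_mem b.2)
        have h4 : (c : X)⁻¹ * a ∈ Q ⊓ D := ⟨h5, h6⟩
        rw [hDQ.eq_bot] at h4
        exact h4
      have h5 : (d : X) * (b : X)⁻¹ = 1 := by rw [← h2]; exact h3
      have h6 : a = c := Subtype.ext (inv_mul_eq_one.mp h3).symm
      have h7 : b = d := Subtype.ext (mul_inv_eq_one.mp h5).symm
      rw [h6, h7]
    have h1 := Nat.card_le_card_of_injective _ hinj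
    rw [Nat.card_prod, hDc, hcT] at h1
    have h2 : 0 < Nat.card Q := Nat.card_pos
    exact Nat.le_of_mul_le_mul_right h1 h2
  have hQ0 : 0 < Nat.card Q := Nat.card_pos
  have hQ12 : Nat.card Q = 1 ∨ Nat.card Q = 2 := by omega
  rcases hQ12 with hQ1 | hQ2
  · left
    have hQb : Q = ⊥ := Subgroup.card_eq_one.mp hQ1
    have hinj : Function.Injective f := by
      rw [injective_iff_map_eq_one]
      intro x hx
      have := (hf x).mp hx
      rw [hQb, mem_bot] at this
      exact Subtype.ext this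
    have hb : Function.Bijective f := by
      rw [Nat.bijective_iff_injective_and_card]
      refine ⟨hinj, ?_⟩
      rw [h6, hQ1, Nat.card_perm, Nat.card_fin]; rfl
    exact ⟨MulEquiv.ofBijective f hb⟩
  · right
    obtain ⟨⟨z, hz⟩, hz1, hzu⟩ := (Nat.card_eq_two_iff' (1 : Q)).mp hQ2
    have hz1 : z ≠ 1 := fun h => hz1 (Subtype.ext h)
    have hQel : ∀ x ∈ Q, x = 1 ∨ x = z := by
      intro x hx
      by_cases h : x = 1
      · exact Or.inl h
      · exact Or.inr (congrArg Subtype.val (hzu ⟨x, hx⟩ fun h2 => h (congrArg Subtype.val h2)))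
    obtain ⟨⟨t, htD⟩, ht1, -⟩ := (Nat.card_eq_two_iff' (1 : D)).mp (by rw [hDc, hQ2])
    have ht1 : t ≠ 1 := fun h => ht1 (Subtype.ext h)
    have htQ : t ∉ Q := by
      intro h
      have : t ∈ Q ⊓ D := ⟨h, htD⟩
      rw [hDQ.eq_bot] at this
      exact ht1 this
    have ht2 : t * t = 1 := by
      have h1 := pow_card_eq_one' (x := (⟨t, htD⟩ : D))
      rw [hDc, hQ2, pow_two] at h1
      exact congrArg Subtype.val h1
    have hz2 : z * z = 1 := by
      have h1 := pow_card_eq_one' (x := (⟨z, hz⟩ : Q))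
      rw [hQ2, pow_two] at h1
      exact congrArg Subtype.val h1
    have hzc : ∀ g ∈ P, g * z = z * g := by
      intro g hg
      have h1 : g * z * g⁻¹ ∈ Q := (mem_normalizer_iff.mp (hPnQ hg) z).mp hz
      rcases hQel _ h1 with h2 | h2
      · exact absurd (conj_eq_one_iff.mp h2) hz1
      · rw [← h2, inv_mul_cancel_right]; rw [h2]
    have ht : t ∈ P := hTP (hD htD)
    have : Fact (Nat.Prime 3) := ⟨Nat.prime_three⟩
    obtain ⟨⟨r, hr⟩, hro⟩ := exists_prime_orderOf_dvd_card' (G := P) 3 (by rw [h6]; exact ⟨2 * Nat.card Q, by ring⟩)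
    have hr3 : r * r * r = 1 := by
      have h1 := pow_orderOf_eq_one (⟨r, hr⟩ : P)
      rw [hro, pow_succ, pow_two] at h1
      exact congrArg Subtype.val h1
    have hr1 : r ≠ 1 := by
      rintro rfl
      have : (⟨1, hr⟩ : P) = 1 := rfl
      rw [this, orderOf_one] at hro
      omega
    have hrT : r ∉ T := by
      intro hrT
      have h1 : orderOf (⟨r, hrT⟩ : T) ∣ Nat.card T := orderOf_dvd_natCard _
      rw [hcT, hQ2, Subgroup.orderOf_mk] at h1
      rw [Subgroup.orderOf_mk] at hro
      rw [hro] at h1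
      norm_num at h1
    have hti : t⁻¹ = t := inv_eq_of_mul_eq_one_left ht2
    have hzi : z⁻¹ = z := inv_eq_of_mul_eq_one_left hz2
    have hr3' : (⟨r, hr⟩ : P) * ⟨r, hr⟩ * ⟨r, hr⟩ = 1 := Subtype.ext hr3
    have hdec : ∀ s u : Equiv.Perm (Fin 3), u * u * u = 1 → s * u * s⁻¹ = u ∨ s * u * s⁻¹ = u⁻¹ := by decide
    have hcube : ∀ u : X, u ∈ P → u * u * u = 1 → u * z * (u * z) * (u * z) = z := by
      intro u hu hu3
      have h1 := hzc u hu
      calc u * z * (u * z) * (u * z) = u * (z * u) * (z * u) * z := by group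
        _ = u * (u * z) * (u * z) * z := by rw [← h1]
        _ = u * u * (z * u) * (z * z) := by group
        _ = u * u * (u * z) * 1 := by rw [← h1, hz2]
        _ = (u * u * u) * z := by group
        _ = z := by rw [hu3, one_mul]
    have hconj3 : (t * r * t⁻¹) * (t * r * t⁻¹) * (t * r * t⁻¹) = 1 := by
      have : (t * r * t⁻¹) * (t * r * t⁻¹) * (t * r * t⁻¹) = t * (r * r * r) * t⁻¹ := by group
      rw [this, hr3]; group
    have htr : t * r * t⁻¹ = r⁻¹ := by
      rcases hdec (f ⟨t, ht⟩) (f ⟨r, hr⟩) (by rw [← map_mul, ← map_mul, hr3', map_one]) with h1 | h1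
      · exfalso
        have h2 : f (⟨r, hr⟩⁻¹ * (⟨t, ht⟩ * ⟨r, hr⟩ * ⟨t, ht⟩⁻¹)) = 1 := by
          rw [map_mul, map_mul, map_mul, map_inv, map_inv, h1, inv_mul_cancel]
        have h3 : r⁻¹ * (t * r * t⁻¹) ∈ Q := (hf _).mp h2
        have h4 : t * r * t⁻¹ = r := by
          rcases hQel _ h3 with h5 | h5
          · exact (inv_mul_eq_one.mp h5).symm
          · exfalso
            have h6 : t * r * t⁻¹ = r * z := by rw [← h5]; group
            have h7 := hcube r hr hr3
            rw [← h6, hconj3] at h7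
            exact hz1 h7.symm
        have hcomm : t * r = r * t := by
          have := congrArg (· * t) h4
          simpa [mul_assoc] using this
        have h8 : ∀ x ∈ T, x * r = r * x := by
          intro x hx
          have hzr : ∀ q ∈ Q, q * r = r * q := by
            intro q hq
            rcases hQel q hq with rfl | rfl
            · rw [one_mul, mul_one]
            · exact (hzc r hr).symm
          rcases (idx_of_relIndex hrel).2 t (hD htD) htQ x hx with h | h
          · exact hzr x h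
          · have h9 := hzr _ h
            have h10 : x = t * (t⁻¹ * x) := by group
            rw [h10, mul_assoc, h9, ← mul_assoc, hcomm, mul_assoc]
        have h9 : cj r T = T := by
          apply cj_eq_self_of_mem_centralizer
          exact mem_centralizer_iff.mpr h8
        have h10 := gen_of_prime hTP (by rw [h3']; norm_num) hn r hr hrT
        rw [h9, sup_idem] at h10
        rw [Subgroup.relIndex_eq_one.mpr h10] at h3'
        omega
      · have h2 : f (⟨r, hr⟩ * (⟨t, ht⟩ * ⟨r, hr⟩ * ⟨t, ht⟩⁻¹)) = 1 := by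
          rw [map_mul, map_mul, map_mul, map_inv, h1, mul_inv_cancel]
        have h3 : r * (t * r * t⁻¹) ∈ Q := (hf _).mp h2
        rcases hQel _ h3 with h5 | h5
        · exact (inv_eq_of_mul_eq_one_right h5).symm
        · exfalso
          have h6 : t * r * t⁻¹ = r⁻¹ * z := by rw [← h5]; group
          have h7 := hcube r⁻¹ (inv_mem hr) (by
            have : r⁻¹ * r⁻¹ * r⁻¹ = (r * r * r)⁻¹ := by group
            rw [this, hr3, inv_one])
          rw [← h6, hconj3] at h7
          exact hz1 h7.symm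
    -- the cyclic subgroup of order 6
    have hrz : Commute r z := hzc r hr
    have hoz : orderOf z = 2 := orderOf_eq_prime (by rw [pow_two]; exact hz2) hz1
    have hor : orderOf r = 3 := orderOf_eq_prime (by rw [pow_succ, pow_two]; exact hr3) hr1
    have hoc : orderOf (r * z) = 6 := by
      rw [hrz.orderOf_mul_eq_mul_orderOf_of_coprime (by rw [hoz, hor]; norm_num), hoz, hor]
    have hcP : r * z ∈ P := mul_mem hr (hTP (hQT hz))
    have hCP : zpowers (r * z) ≤ P := zpowers_le.mpr hcP
    have hinv : ∀ c ∈ zpowers (r * z), t * c * t⁻¹ = c⁻¹ := by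
      rintro _ ⟨k, rfl⟩
      have h1 : t * (r * z) * t⁻¹ = (r * z)⁻¹ := by
        have h2 : t * (r * z) * t⁻¹ = (t * r * t⁻¹) * (t * z * t⁻¹) := by group
        rw [h2, htr, hzc t ht, mul_inv_cancel_right, mul_inv_rev, hzi]
        exact hrz.inv_left.eq
      have h3 : t * (r * z) ^ k * t⁻¹ = (t * (r * z) * t⁻¹) ^ k := by
        rw [← MulAut.conj_apply, map_zpow, MulAut.conj_apply]
      show t * (r * z) ^ k * t⁻¹ = ((r * z) ^ k)⁻¹
      rw [h3, h1, inv_zpow]
    have htC : t ∉ zpowers (r * z) := by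
      intro h
      have h1 := hinv _ h
      rw [mul_inv_cancel_right] at h1
      have h2 : t * (r * z) * t⁻¹ = (r * z) := by
        obtain ⟨k, hk⟩ := h
        have h3 : Commute t (r * z) := by
          rw [← hk]
          exact (Commute.refl (r * z)).zpow_left k
        rw [h3.eq, mul_inv_cancel_right]
      rw [hinv _ (mem_zpowers _)] at h2
      have h3 : (r * z) ^ 2 = 1 := by
        rw [pow_two]
        nth_rewrite 1 [← h2]
        exact inv_mul_cancel _
      have h4 := orderOf_dvd_of_pow_eq_one h3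
      rw [hoc] at h4
      norm_num at h4
    have hCi : (zpowers (r * z)).relIndex P = 2 := by
      have h1 := ((zpowers (r * z)).subgroupOf P).card_mul_index
      rw [Nat.card_congr (Subgroup.subgroupOfEquivOfLe hCP).toEquiv, Nat.card_zpowers, hoc, h6, hQ2] at h1
      show ((zpowers (r * z)).subgroupOf P).index = 2
      omega
    obtain ⟨n, hn2, ⟨e⟩⟩ := H65.NX.dihedral_equiv (T := P) (C := zpowers (r * z)) inferInstance hCP (by
      intro h
      rw [zpowers_eq_bot] at h
      rw [h, orderOf_one] at hoc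
      omega) ht htC ht2 hinv (by
      intro a ha
      have h1 := (idx_of_relIndex hCi).2 t ht htC a ha
      rwa [hti] at h1)
    have hn6 : n = 6 := by
      have h1 := Nat.card_congr e.toEquiv
      rw [h6, hQ2, DihedralGroup.nat_card] at h1
      omega
    subst hn6
    exact ⟨e⟩

theorem zt_cj (y : X) (T : Subgroup X) : cj y (zt T) = zt (cj y T) := by
  ext x
  rw [mem_cj, mem_zt, mem_zt, mem_cj]
  constructor
  · rintro ⟨h1, h2, h3⟩
    refine ⟨h1, ?_, ?_⟩
    · intro w hw
      rw [mem_cj] at hw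
      have h4 := h2 _ hw
      have h5 : w * x = y * ((y⁻¹ * w * y) * (y⁻¹ * x * y)) * y⁻¹ := by group
      rw [h5, h4]; group
    · have h5 : x * x = y * ((y⁻¹ * x * y) * (y⁻¹ * x * y)) * y⁻¹ := by group
      rw [h5, h3]; group
  · rintro ⟨h1, h2, h3⟩
    refine ⟨h1, ?_, ?_⟩
    · intro w hw
      have h4 := h2 (y * w * y⁻¹) (conj_mem_cj.mpr hw)
      have h5 : w * (y⁻¹ * x * y) = y⁻¹ * ((y * w * y⁻¹) * x) * y := by group
      rw [h5, h4]; group
    · have h5 : y⁻¹ * x * y * (y⁻¹ * x * y) = y⁻¹ * (x * x) * y := by group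
      rw [h5, h3]; group

/-- A 2-group `T` of index 3 in `P`, normalised by `y`, such that no nontrivial subgroup of `T` is normal in both
`P` and its conjugate by `y`. -/
theorem main [Finite X] (hTP : T ≤ P) (hT2 : IsPGroup 2 T) (h3 : T.relIndex P = 3) {y : X} (hy : cj y T = T)
    (core : ∀ N ≤ T, P ≤ normalizer (N : Set X) → cj y P ≤ normalizer (N : Set X) → N = ⊥) :
    Nonempty (P ≃* Multiplicative (ZMod 3)) ∨ Nonempty (P ≃* Equiv.Perm (Fin 3)) ∨
      Nonempty (P ≃* DihedralGroup 6) ∨ Nonempty (P ≃* Equiv.Perm (Fin 4)) ∨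
      Nonempty (P ≃* Equiv.Perm (Fin 4) × Multiplicative (ZMod 2)) := by
  classical
  have hycj : ∀ {A B : Subgroup X}, A ≤ normalizer (B : Set X) → cj y A ≤ normalizer (cj y B : Set X) := by
    intro A B h
    rw [← cj_normalizer]
    exact cj_le_cj.mpr h
  by_cases hn : P ≤ normalizer (T : Set X)
  · left
    have hT : T = ⊥ := core T le_rfl hn (by have := hycj hn; rwa [hy] at this)
    rw [hT, Subgroup.relIndex_bot_left] at h3
    have : Fact (Nat.Prime 3) := ⟨Nat.prime_three⟩
    have hc := isCyclic_of_prime_card h3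
    have e := zmodCyclicMulEquiv hc
    rw [h3] at e
    exact ⟨e.symm⟩
  right
  obtain ⟨Q, f, hQT, hPnQ, hrel, h6, hNQ, hf⟩ := core_data hTP h3 hn
  have hyP : T ≤ cj y P := by rw [← hy]; exact cj_le_cj.mpr hTP
  have hyQ : cj y Q ≤ T := by rw [← hy]; exact cj_le_cj.mpr hQT
  have hynQ : cj y P ≤ normalizer (cj y Q : Set X) := hycj hPnQ
  by_cases hcen : P ⊓ centralizer (Q : Set X) ≤ Q
  · -- the main case
    right; right
    let PP : Bool → Subgroup X := fun b => cond b P (cj y P)
    let QQ : Bool → Subgroup X := fun b => cond b Q (cj y Q)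
    have hall : ∀ {p : Bool → Prop}, p true → p false → ∀ i, p i := by
      intro p h1 h2 i
      cases i
      · exact h2
      · exact h1
    have hcen' : cj y P ⊓ centralizer (cj y Q : Set X) ≤ cj y Q := by
      rw [← cj_centralizer, ← cj_inf]
      exact cj_le_cj.mpr hcen
    have ZQ : ∀ i, zt T ≤ QQ i := by
      apply hall
      · intro x hx
        exact hcen ⟨hTP hx.1, mem_centralizer_iff.mpr fun q hq => hx.2.1 q (hQT hq)⟩
      · intro x hx
        exact hcen' ⟨hyP hx.1, mem_centralizer_iff.mpr fun q hq => hx.2.1 q (hyQ hq)⟩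
    have hzy : cj y (zt T) = zt T := by rw [zt_cj, hy]
    have hTb : T ≠ ⊥ := by
      rintro rfl
      apply hn
      rw [Subgroup.normalizer_eq_top]
      exact le_top
    have hcn : ∀ A : Subgroup X, A ≤ centralizer (zt T : Set X) → A ≤ normalizer (zt T : Set X) := by
      intro A hA
      exact hA.trans (Subgroup.centralizer_le_normalizer _)
    have hnz : ¬ P ≤ centralizer (zt T : Set X) := by
      intro h
      have h1 : cj y P ≤ centralizer (zt T : Set X) := by
        have h2 : cj y P ≤ cj y (centralizer (zt T : Set X)) := cj_le_cj.mpr h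
        rwa [cj_centralizer, hzy] at h2
      exact zt_ne_bot hT2 hTb (core (zt T) zt_le (hcn _ h) (hcn _ h1))
    have hnz' : ¬ cj y P ≤ centralizer (zt T : Set X) := by
      intro h
      apply hnz
      have h2 : cj y P ≤ cj y (centralizer (zt T : Set X)) := by rwa [cj_centralizer, hzy]
      exact cj_le_cj.mp h2
    have hfin : ∀ i, Finite (PP i) := fun i => inferInstance
    obtain ⟨hA, hG⟩ := mkAm (P := PP) (Q := QQ) hT2 (hall hTP hyP) (hall hQT hyQ) (hall hPnQ hynQ)
      (hall hrel (by show (cj y Q).relIndex T = 2; nth_rewrite 1 [← hy]; rw [relIndex_cj]; exact hrel))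
      (hall (by show (T.relIndex P).Prime; rw [h3]; norm_num)
        (by
          show (T.relIndex (cj y P)).Prime
          nth_rewrite 1 [← hy]
          rw [relIndex_cj, h3]; norm_num))
      (hall hn (by
        show ¬ cj y P ≤ normalizer (T : Set X)
        intro h
        apply hn
        rw [← hy, ← cj_normalizer] at h
        exact cj_le_cj.mp h))
      (fun N hN h => core N hN (h true) (h false)) ZQ (hall hnz hnz')
    rcases final3 hA hG (hall h6 (by
      show Nat.card (cj y P) = 6 * Nat.card (cj y Q)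
      rw [card_cj, card_cj]; exact h6)) (hall hcen hcen') with h | h
    · exact Or.inl (h true)
    · exact Or.inr (h true)
  · -- the degenerate case
    have h1 : ¬ P ⊓ centralizer (Q : Set X) ≤ T := by
      intro h
      apply hcen
      apply hNQ _ h
      rw [le_normalizer_iff_forall_cj]
      intro g hg
      rw [cj_inf, cj_centralizer, cj_eq_self_of_mem hg, mem_normalizer_iff_cj.mp (hPnQ hg)]
    obtain ⟨ρ, hρ, hρT⟩ := Set.not_subset.mp h1
    have h2 := gen_of_prime hTP (by rw [h3]; norm_num) hn ρ hρ.1 hρT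
    have hPle : ∀ N : Subgroup X, T ≤ normalizer (N : Set X) → N ≤ Q → P ≤ normalizer (N : Set X) := by
      intro N hN hNQ'
      have hρN : ρ ∈ normalizer (N : Set X) := by
        apply Subgroup.centralizer_le_normalizer
        exact mem_centralizer_iff.mpr fun n hn => mem_centralizer_iff.mp hρ.2 n (hNQ' hn)
      refine h2.trans (sup_le hN ?_)
      rw [← cj_eq_self_of_mem hρN]
      exact cj_le_cj.mpr hN
    have hPle' : ∀ N : Subgroup X, T ≤ normalizer (N : Set X) → N ≤ cj y Q → cj y P ≤ normalizer (N : Set X) := by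
      intro N hN hNQ'
      have h3 : T ≤ normalizer (cj y⁻¹ N : Set X) := by
        rw [← cj_normalizer, le_cj_iff, inv_inv, hy]
        exact hN
      have h4 := hycj (hPle _ h3 (by rw [cj_le_iff, inv_inv]; exact hNQ'))
      rwa [cj_cj_inv] at h4
    have hTD : T ≤ normalizer ((Q ⊓ cj y Q : Subgroup X) : Set X) := by
      rw [le_normalizer_iff_forall_cj]
      intro g hg
      rw [cj_inf, mem_normalizer_iff_cj.mp (hPnQ (hTP hg)), mem_normalizer_iff_cj.mp (hynQ (hyP hg))]
    have hD := core (Q ⊓ cj y Q) (inf_le_left.trans hQT) (hPle _ hTD inf_le_left) (hPle' _ hTD inf_le_right)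
    rcases small hTP h3 hn f hQT hPnQ hrel h6 hf hyQ (card_cj y Q) (disjoint_iff.mpr hD) with h | h
    · exact Or.inl h
    · exact Or.inr (Or.inl h)

end H65.Tri
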